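import Groth.Agent.H82.R2.Translate
import Groth.Agent.H82.Bruhat.Range

/-!
# The translates of the big cell cover the group
-/

set_option autoImplicit false
set_option maxHeartbeats 800000
set_option linter.style.haveILetI false
set_option linter.unusedSectionVars false
universe u

open CategoryTheory MonoidalCategory CartesianMonoidalCategory MonObj GrpObj AlgebraicGeometry
open Groth.Agent.Lib.RedPts Groth.Agent.H82.BigCell Groth.Agent.H82.Contract Groth.Agent.H82.Weyl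
open Groth.Agent.H82.RankOne (P P_eq P_add P_zero P_neg P_comp Sys)
open Groth.Agent.H82.Borel (IsACPt root_neg_idx exists_enum)
open Groth.Agent.H82.Bruhat (Adapted unip root_mem_unip rp InCell)

namespace Groth.Agent.H82.R2

variable {S : Scheme.{u}} {G : Over S} [GrpObj G] {D : Red.SplitRed G}

/-- A subgroup of points containing the simple root groups and their opposites contains all root groups. -/
theorem root_mem_of_simple (bs : D.P.Base) {X : Over S} (H : Subgroup (X ⟶ G))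
    (hH : ∀ a ∈ bs.support, ∀ x : Γ(X.left, ⊤),
      P (D.u a) x ∈ H ∧ P (D.u (D.P.reflectionPerm a a)) x ∈ H)
    (c : D.idx) (x : Γ(X.left, ⊤)) : P (D.u c) x ∈ H := by
  haveI : D.P.IsCrystallographic := crys D
  haveI := reduced_of_base bs
  suffices h : (∀ x : Γ(X.left, ⊤), P (D.u c) x ∈ H) ∧
      ∀ x : Γ(X.left, ⊤), P (D.u (D.P.reflectionPerm c c)) x ∈ H from h.1 x
  refine bs.induction_reflect c
    (p := fun c => (∀ x : Γ(X.left, ⊤), P (D.u c) x ∈ H) ∧
      ∀ x : Γ(X.left, ⊤), P (D.u (D.P.reflectionPerm c c)) x ∈ H)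
    (fun i h => ⟨h.2, by rw [neg_neg_root]; exact h.1⟩)
    (fun a ha => ⟨fun x => (hH a ha x).1, fun x => (hH a ha x).2⟩) fun i j hi hj => ?_
  obtain ⟨z, -, hz⟩ := exists_el bs j
  have hel : el D j z X ∈ H := mul_mem (mul_mem (hH j hj _).1 (hH j hj _).2) (hH j hj _).1
  have key : ∀ d : D.idx, (∀ x : Γ(X.left, ⊤), P (D.u d) x ∈ H) →
      ∀ x : Γ(X.left, ⊤), P (D.u (D.P.reflectionPerm j d)) x ∈ H := fun d hd x => by
    obtain ⟨ν, hν, h⟩ := hz d
    have e := h X (res X ↑hν.unit⁻¹ * x)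
    rw [← _root_.mul_assoc (res X ν), ← res_mul', hν.mul_val_inv, res_one, _root_.one_mul] at e
    rw [← mul_inv_eq_iff_eq_mul.2 e]
    exact mul_mem (mul_mem hel (hd _)) (inv_mem hel)
  refine ⟨key i hi.1, ?_⟩
  rw [← refl_neg]
  exact key _ hi.2

/-- A unipotent point lies in every subgroup containing the root groups. -/
theorem unip_mem {l : D.M →+ ℤ} (hl : ∀ a, l (D.P.root a) ≠ 0) {X : Over S} (H : Subgroup (X ⟶ G))
    (hH : ∀ c (x : Γ(X.left, ⊤)), P (D.u c) x ∈ H) {g : X ⟶ G} (hg : g ∈ unip (D := D) l X) : g ∈ H := by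
  obtain ⟨m, d, hd⟩ := exists_enum (D := D) {a | 0 < l (D.P.root a)}
  obtain ⟨z, rfl⟩ := Bruhat.exists_prod_unip hl d hd hg
  exact Bruhat.prodPts_mem_subgroup fun k => hH _ _

variable {b : D.P.Base} {l : D.M →+ ℤ} (hA : Adapted b l)

include hA

theorem Big.mem {X : Over S} (H : Subgroup (X ⟶ G)) (hH : ∀ c (x : Γ(X.left, ⊤)), P (D.u c) x ∈ H)
    (hT : ∀ t : X ⟶ D.T, t ≫ D.i ∈ H) {g : X ⟶ G} (hg : Big D l g) : g ∈ H := by
  obtain ⟨u, t, v, hu, hv, rfl⟩ := hg
  exact mul_mem (mul_mem (unip_mem (fun a => by simpa using hA.ne a) H hH hu) (hT t)) (unip_mem hA.ne H hH hv)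

variable {n m : ℕ} {eneg : Fin n → D.idx} {epos : Fin m → D.idx}
  (hneg : RedSub.Enumerates (RedSub.negRoots D.P b) eneg)
  (hpos : RedSub.Enumerates (RedSub.posRoots D.P b) epos)
include hneg hpos

/-- The points of the big cell map are in product form. -/
theorem big_comp_cellMap {X : Over S} (z : X ⟶ RedSub.pow (Red.Ga S) n ⊗ (D.T ⊗ RedSub.pow (Red.Ga S) m)) :
    Big D l (z ≫ RedSub.cellMap D eneg epos) := by
  refine ⟨_, _, _, ?_, ?_, (comp_cellMap (e := eneg) epos z).trans (_root_.mul_assoc _ _ _).symm⟩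
  · rw [comp_prodMap]
    refine Bruhat.prodPts_mem_subgroup fun k => ?_
    rw [← Category.assoc, P_eq]
    have := (hA.neg _).1 (Set.ext_iff.1 hneg.2 _ |>.1 (Set.mem_range_self k))
    exact root_mem_unip (by rw [AddMonoidHom.neg_apply]; omega) _
  · rw [comp_prodMap]
    refine Bruhat.prodPts_mem_subgroup fun k => ?_
    rw [← Category.assoc, P_eq]
    exact root_mem_unip ((hA.pos _).1 (Set.ext_iff.1 hpos.2 _ |>.1 (Set.mem_range_self k))) _

theorem exists_of_big {X : Over S} {g : X ⟶ G} (h : Big D l g) : ∃ z, z ≫ RedSub.cellMap D eneg epos = g := by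
  obtain ⟨u, t, v, hu, hv, rfl⟩ := h
  rw [Bruhat.negRoots_eq hA] at hneg
  rw [Bruhat.posRoots_eq hA] at hpos
  exact Bruhat.exists_cell_of_form hA.ne hneg hpos t hu hv

/-- A point of a translate of the big cell, read on a point over it. -/
theorem mem_range_translate {Y : Over S} {g : Y ⟶ G} (w : 𝟙_ (Over S) ⟶ G)
    (h : Big D l ((toUnit Y ≫ w)⁻¹ * g)) (o : Y.left) :
    g.left o ∈ Set.range ((toUnit _ ≫ w) * RedSub.cellMap D eneg epos).left.base := by
  obtain ⟨z, hz⟩ := exists_of_big hA hneg hpos h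
  have e : z ≫ ((toUnit _ ≫ w) * RedSub.cellMap D eneg epos) = g := by
    rw [MonObj.comp_mul, ← Category.assoc, toUnit_unique (z ≫ toUnit _) (toUnit Y), hz, mul_inv_cancel_left]
  refine ⟨z.left o, ?_⟩
  rw [← e]
  exact (Scheme.Hom.comp_apply _ _ _).symm

theorem mem_range_cell {Y : Over S} {g : Y ⟶ G} (h : Big D l g) (o : Y.left) :
    g.left o ∈ Set.range (RedSub.cellMap D eneg epos).left.base := by
  obtain ⟨z, rfl⟩ := exists_of_big hA hneg hpos h
  exact ⟨z.left o, (Scheme.Hom.comp_apply _ _ _).symm⟩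

omit hneg hpos

variable (x : D.idx → (𝟙_ (Over S) ⟶ Red.Ga S)) (hx : ∀ a ∈ b.support, IsUnit (Red.gaFn (x a)))
include hx

/-- Over every point of the group some translate of the big cell by simple root elements is met. -/
theorem exists_translate (p : G.left) : ∃ (Y : Over S) (g : Y ⟶ G) (w : 𝟙_ (Over S) ⟶ G),
    IsACPt Y ∧ (∀ o, g.left o = p) ∧
      w ∈ Submonoid.closure {g : 𝟙_ (Over S) ⟶ G | ∃ a ∈ b.support, g = x a ≫ D.u a} ∧
      Big D l ((toUnit Y ≫ w)⁻¹ * g) := by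
  classical
  haveI : D.P.IsCrystallographic := crys D
  haveI := reduced_of_base b
  haveI := isAffineHom D
  obtain ⟨nr, hnr, hnel⟩ := exists_realising (D := D) b
  obtain ⟨Y, g, L, hY, hgp, u, v, hu, hv, hg⟩ := Bruhat.exists_inCell hA hnr p
  set U₁ := Submonoid.closure {g : 𝟙_ (Over S) ⟶ G | ∃ a ∈ b.support, g = x a ≫ D.u a}
  let W : Set (Y ⟶ G) := {g | ∃ w ∈ U₁, Big D l ((toUnit Y ≫ w)⁻¹ * g)}
  let R : Subgroup (Y ⟶ G) :=
    { carrier := {h | ∀ g ∈ W, g * h ∈ W ∧ g * h⁻¹ ∈ W}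
      one_mem' := fun g hg => by simpa using hg
      mul_mem' := fun {h h'} hh hh' g hg => by
        refine ⟨?_, ?_⟩
        · rw [← _root_.mul_assoc]; exact (hh' _ (hh g hg).1).1
        · rw [_root_.mul_inv_rev, ← _root_.mul_assoc]; exact (hh _ (hh' g hg).2).2
      inv_mem' := fun {h} hh g hg => ⟨(hh g hg).2, by rw [_root_.inv_inv]; exact (hh g hg).1⟩ }
  have hT : ∀ t : Y ⟶ D.T, t ≫ D.i ∈ R := fun t g ⟨w, hw, h⟩ =>
    ⟨⟨w, hw, by rw [← _root_.mul_assoc]; exact h.mul_torus t⟩,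
      ⟨w, hw, by rw [← _root_.mul_assoc, ← GrpObj.inv_comp _ D.i]; exact h.mul_torus t⁻¹⟩⟩
  have hsimple : ∀ a ∈ b.support, ∀ z : Γ(Y.left, ⊤),
      P (D.u a) z ∈ R ∧ P (D.u (D.P.reflectionPerm a a)) z ∈ R := fun a ha z => by
    haveI : IsMonHom (D.u a) := (D.rootHom a).1
    haveI : IsMonHom (D.u (D.P.reflectionPerm a a)) := (D.rootHom _).1
    refine ⟨fun g ⟨w, hw, h⟩ => ⟨⟨w, hw, ?_⟩, ⟨w, hw, ?_⟩⟩, fun g ⟨w, hw, h⟩ => ?_⟩
    · rw [← _root_.mul_assoc]; exact h.mul_unip (root_mem_unip (Bruhat.simple_pos hA ha) z)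
    · rw [← _root_.mul_assoc, ← P_neg]; exact h.mul_unip (root_mem_unip (Bruhat.simple_pos hA ha) (-z))
    have step : ∀ z : Γ(Y.left, ⊤), g * P (D.u (D.P.reflectionPerm a a)) z ∈ W := fun z => by
      rcases big_step hA ha hY.isField (x := (toUnit Y).left.appTop (Red.gaFn (x a)))
        ((hx a ha).map _) h z with h' | h'
      · exact ⟨w, hw, by rw [← _root_.mul_assoc]; exact h'⟩
      · refine ⟨w * (x a ≫ D.u a), mul_mem hw (Submonoid.subset_closure ⟨a, ha, rfl⟩), ?_⟩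
        rw [MonObj.comp_mul, P_eq (D.u a) (x a), P_comp, _root_.mul_inv_rev, ← P_neg]
        convert h' using 1
        group
    exact ⟨step z, by rw [← P_neg]; exact step (-z)⟩
  have hroot := root_mem_of_simple b R hsimple
  have hrp : ∀ L : List D.idx, rp nr L Y ∈ R := fun L => by
    induction L with
    | nil => rw [rp, List.map_nil, List.prod_nil, MonObj.comp_one]; exact one_mem R
    | cons a L ih =>
      rw [Bruhat.rp_cons]
      refine mul_mem ?_ ih
      obtain ⟨m, -, -, hz⟩ := hnel a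
      rw [rp, List.map_singleton, List.prod_singleton, hz]
      exact mul_mem (mul_mem (hroot _ _) (hroot _ _)) (hroot _ _)
  obtain ⟨L₁, hL₁⟩ := hv
  obtain ⟨t, ht⟩ := exists_torus_of_regular hA.ne (Borel.commutes_of_isLimPt hL₁)
  have hv' : (t ≫ D.i)⁻¹ * v ∈ unip (D := D) l Y := by
    have := (isLimPt_torus_pt (l := l) t).inv.mul hL₁
    rwa [← ht, inv_mul_cancel] at this
  have hgR : g ∈ R := by
    have hvR : v ∈ R := by
      rw [← mul_inv_cancel_left (t ≫ D.i) v]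
      exact mul_mem (hT t) (unip_mem hA.ne R hroot hv')
    rw [hg]
    exact mul_mem (mul_mem (unip_mem (fun a => by simpa using hA.ne a) R hroot hu) (hrp L)) hvR
  have h1 : (1 : Y ⟶ G) ∈ W := ⟨1, one_mem _, by rw [MonObj.comp_one, inv_one, _root_.one_mul]; exact Big.one Y⟩
  have := (hgR 1 h1).1
  rw [_root_.one_mul] at this
  obtain ⟨w, hw, hbig⟩ := this
  exact ⟨Y, g, w, hY, hgp, hw, hbig⟩

end Groth.Agent.H82.R2
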