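import Groth.Agent.H82.R2.Chain

/-!
# A normalisation of all root groups stable up to sign under the simple reflections
-/

set_option autoImplicit false
set_option maxHeartbeats 1000000
set_option linter.style.haveILetI false
set_option linter.unusedSectionVars false
universe u

open CategoryTheory MonoidalCategory CartesianMonoidalCategory MonObj GrpObj AlgebraicGeometry
open Groth.Agent.Lib.RedPts Groth.Agent.H82.BigCell Groth.Agent.H82.Contract Groth.Agent.H82.Weyl
open Groth.Agent.H82.RankOne (P P_eq P_add P_zero P_neg P_comp Sys)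

namespace Groth.Agent.H82.R2

variable {S : Scheme.{u}} {G : Over S} [GrpObj G] (D : Red.SplitRed G)

/-- `u_c(l x)` and `u_{-c}(m y)` are dual. -/
def DualC (c : D.idx) (l m : Γ(S, ⊤)) : Prop :=
  ∀ (X : Over S) (x y : Γ(X.left, ⊤)) (u : Γ(X.left, ⊤)ˣ), (u : Γ(X.left, ⊤)) = 1 + x * y →
    P (D.u c) (res X l * x) * P (D.u (D.P.reflectionPerm c c)) (res X m * y) =
      P (D.u (D.P.reflectionPerm c c)) (res X m * (y * (↑u⁻¹ : Γ(X.left, ⊤)))) *
        Sys.H D.i (cochar D (D.P.coroot c).toAddMonoidHom) u *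
        P (D.u c) (res X l * (x * (↑u⁻¹ : Γ(X.left, ⊤))))

/-- `g` permutes the normalised root groups by `π`, up to sign. -/
def MonAct (Λ : D.idx → Γ(S, ⊤)) (g : 𝟙_ (Over S) ⟶ G) (π : Equiv.Perm D.idx) : Prop :=
  ∀ c, ∃ ν, Cj D g c (π c) ν ∧ Sg (ν * Λ c) (Λ (π c))

variable {D}

theorem refl_neg (s d : D.idx) : D.P.reflectionPerm s (D.P.reflectionPerm d d) =
    D.P.reflectionPerm (D.P.reflectionPerm s d) (D.P.reflectionPerm s d) :=
  D.P.root.injective (by rw [D.P.root_reflectionPerm, root_neg, root_neg, map_neg, D.P.root_reflectionPerm])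

theorem neg_neg_root (d : D.idx) :
    D.P.reflectionPerm (D.P.reflectionPerm d d) (D.P.reflectionPerm d d) = d :=
  D.P.root.injective (by rw [root_neg, root_neg, neg_neg])

theorem cochar_add (l l' : D.M →+ ℤ) {X : Over S} (u : Γ(X.left, ⊤)ˣ) :
    Sys.H D.i (cochar D (l + l')) u = Sys.H D.i (cochar D l) u * Sys.H D.i (cochar D l') u := by
  haveI : IsMonHom (show D.T ⟶ Red.DS S D.M from D.split.hom.hom.hom) := D.split.hom.hom.isMonHom_hom
  have h : Gm.gmPt u ≫ cochar D (l + l') = (Gm.gmPt u ≫ cochar D l) * (Gm.gmPt u ≫ cochar D l') := by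
    refine ext_dsFn fun m => ?_
    rw [MonObj.mul_comp _ _ (show D.T ⟶ Red.DS S D.M from D.split.hom.hom.hom), Gm.dsFn_mul, dsFn_cochar,
      dsFn_cochar, dsFn_cochar, AddMonoidHom.add_apply, Gm.dsFn_add]
  simp only [Sys.H, ← Category.assoc, h, MonObj.mul_comp]

theorem H_neg_coroot (c : D.idx) {X : Over S} (u : Γ(X.left, ⊤)ˣ) :
    Sys.H D.i (cochar D (D.P.coroot (D.P.reflectionPerm c c)).toAddMonoidHom) u =
      (Sys.H D.i (cochar D (D.P.coroot c).toAddMonoidHom) u)⁻¹ := by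
  have h0 : Sys.H D.i (cochar D (0 : D.M →+ ℤ)) u = 1 := by
    have h := cochar_add (D := D) 0 0 u
    rw [add_zero] at h
    exact left_eq_mul.1 h
  rw [eq_inv_iff_mul_eq_one, ← cochar_add, ← h0]
  congr 2
  rw [coroot_refl', D.P.pairing_same, show (-(2 : ℤ)) = -1 + -1 from rfl, add_zsmul, neg_one_zsmul]
  abel

theorem DualC.symm {c : D.idx} {l m : Γ(S, ⊤)} (h : DualC D c l m) :
    DualC D (D.P.reflectionPerm c c) m l := fun X x y u hu => by
  have e := congrArg (·⁻¹) (h X (-y) (-x) u (by rw [hu]; ring))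
  simp only [mul_neg, neg_mul, P_neg, _root_.mul_inv_rev, _root_.inv_inv] at e
  rw [neg_neg_root, H_neg_coroot]
  simpa only [_root_.mul_assoc] using e

theorem DualC.prod_unique {c : D.idx} {l m l' m' : Γ(S, ⊤)} (h : DualC D c l m) (h' : DualC D c l' m')
    (hm : IsUnit m) (hm' : IsUnit m') : l * m = l' * m' := by
  suffices m * m' * (l * m) = m * m' * (l' * m') from (hm.mul hm').mul_right_inj.1 this
  refine eq_of_res_mul_sqZero fun X ε hε => ?_
  let u : Γ(X.left, ⊤)ˣ := ⟨1 + res X l' * res X m' * ε, 1 - res X l' * res X m' * ε,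
    by linear_combination -(res X l' * res X m') ^ 2 * hε, by linear_combination -(res X l' * res X m') ^ 2 * hε⟩
  let u' : Γ(X.left, ⊤)ˣ := ⟨1 + res X l * res X m * ε, 1 - res X l * res X m * ε,
    by linear_combination -(res X l * res X m) ^ 2 * hε, by linear_combination -(res X l * res X m) ^ 2 * hε⟩
  have r1 := h X (res X l' * ε) (res X m') u (by simp only [u]; ring)
  have r2 := h' X (res X l * ε) (res X m) u' (by simp only [u']; ring)
  rw [show res X l * (res X l' * ε) = res X l' * (res X l * ε) by ring,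
    show res X m * res X m' = res X m' * res X m by ring, r2] at r1
  simp only [Sys.H, ← Category.assoc] at r1
  obtain ⟨h1, -, -⟩ := pm_coords c r1
  simp only [u, u', Units.inv_mk] at h1
  have e : ∀ A B : Γ(S, ⊤), res X (A * B) = res X A * res X B := fun A B => res_mul' X A B
  simp only [e]
  linear_combination -h1

theorem dualC_simple {a : D.idx} (hd : Weyl.Dual D a) : DualC D a 1 1 := fun X x y u hu => by
  simp only [res_one, _root_.one_mul]
  exact (sys_of_dual hd).rule x y u hu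

theorem DualC.transport {s d : D.idx} (hs : Weyl.Dual D s) {l m ν ν' : Γ(S, ⊤)} (h : DualC D d l m)
    (h1 : Cj D (w D s) d (D.P.reflectionPerm s d) ν)
    (h2 : Cj D (w D s) (D.P.reflectionPerm d d) (D.P.reflectionPerm s (D.P.reflectionPerm d d)) ν') :
    DualC D (D.P.reflectionPerm s d) (ν * l) (ν' * m) := fun X x y u hu => by
  have cp : ∀ z : Γ(X.left, ⊤), (toUnit X ≫ w D s) * P (D.u d) z * (toUnit X ≫ w D s)⁻¹ =
      P (D.u (D.P.reflectionPerm s d)) (res X ν * z) := fun z => by rw [h1, mul_inv_cancel_right]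
  have cq : ∀ z : Γ(X.left, ⊤), (toUnit X ≫ w D s) * P (D.u (D.P.reflectionPerm d d)) z * (toUnit X ≫ w D s)⁻¹ =
      P (D.u (D.P.reflectionPerm (D.P.reflectionPerm s d) (D.P.reflectionPerm s d))) (res X ν' * z) := fun z => by
    rw [h2, mul_inv_cancel_right, refl_neg]
  have hH := conj_H [s] (show Bruhat.Rep [s] (toUnit X ≫ w D s) by rw [toUnit_w]; exact rep_el hs X) d u
  rw [Bruhat.wordPerm_singleton] at hH
  have hom2 : ∀ A B : X ⟶ G, (toUnit X ≫ w D s) * (A * B) * (toUnit X ≫ w D s)⁻¹ =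
      ((toUnit X ≫ w D s) * A * (toUnit X ≫ w D s)⁻¹) * ((toUnit X ≫ w D s) * B * (toUnit X ≫ w D s)⁻¹) :=
    fun A B => by group
  have r := congrArg (fun z => (toUnit X ≫ w D s) * z * (toUnit X ≫ w D s)⁻¹) (h X x y u hu)
  simp only [hom2, cp, cq, hH] at r
  simpa only [res_mul', _root_.mul_assoc (_ : Γ(X.left, ⊤))] using r

variable [D.P.IsCrystallographic] [D.P.IsReduced] {bs : D.P.Base}
variable (hd : ∀ a ∈ bs.support, Weyl.Dual D a)
include hd

theorem chain_dual {c : D.idx} {l : Γ(S, ⊤)} (h : Chain D bs c l) :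
    ∃ m, IsUnit m ∧ DualC D c l m := by
  induction h with
  | simple ha => exact ⟨1, isUnit_one, dualC_simple (hd _ ha)⟩
  | @step c s ν mu hs hne hp hcj _ ih =>
    obtain ⟨m, hm, hD⟩ := ih
    obtain ⟨ν', h'⟩ := exists_cj hd hs (D.P.reflectionPerm (D.P.reflectionPerm s c) (D.P.reflectionPerm s c))
    have := hD.transport (hd s hs) (ν := ν) (by rw [refl_refl]; exact hcj) h'
    rw [refl_refl] at this
    exact ⟨ν' * m, (cj_isUnit hd hs h').mul hm, this⟩

/-- The normalisation. -/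
theorem exists_norm : ∃ Λ : D.idx → Γ(S, ⊤), (∀ c, IsUnit (Λ c)) ∧ (∀ a ∈ bs.support, Λ a = 1) ∧
    (∀ a ∈ bs.support, Λ (D.P.reflectionPerm a a) = 1) ∧
    (∀ c, DualC D c (Λ c) (Λ (D.P.reflectionPerm c c))) ∧
    (∀ c, bs.IsPos c → Chain D bs c (Λ c)) ∧
    ∀ s ∈ bs.support, MonAct D Λ (w D s) (D.P.reflectionPerm s) := by
  classical
  let L : ∀ c, bs.IsPos c → Γ(S, ⊤) := fun c h => (exists_chain hd h).choose
  have hL : ∀ c h, Chain D bs c (L c h) := fun c h => (exists_chain hd h).choose_spec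
  let M : ∀ c, bs.IsPos c → Γ(S, ⊤) := fun c h => (chain_dual hd (hL c h)).choose
  have hM : ∀ c h, IsUnit (M c h) ∧ DualC D c (L c h) (M c h) := fun c h => (chain_dual hd (hL c h)).choose_spec
  have hnp : ∀ c, ¬ bs.IsPos c → bs.IsPos (D.P.reflectionPerm c c) := fun c h =>
    (RootPairing.Base.IsPos.or_neg bs c).resolve_left h
  let Λ : D.idx → Γ(S, ⊤) := fun c => if h : bs.IsPos c then L c h else M _ (hnp c h)
  have hΛp : ∀ c, bs.IsPos c → Chain D bs c (Λ c) := fun c h => by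
    simp only [Λ, dif_pos h]; exact hL c h
  have hneg : ∀ c, bs.IsPos c → ¬ bs.IsPos (D.P.reflectionPerm c c) := fun c h h' =>
    ((RootPairing.Base.IsPos.neg_iff_not (b := bs) c).1 h') h
  have hMc : ∀ d d' h h', d = d' → M d h = M d' h' := by rintro d _ h h' rfl; rfl
  have hdual : ∀ c, bs.IsPos c → DualC D c (Λ c) (Λ (D.P.reflectionPerm c c)) ∧
      IsUnit (Λ (D.P.reflectionPerm c c)) := fun c h => by
    have e : Λ (D.P.reflectionPerm c c) = M c h := by
      simp only [Λ, dif_neg (hneg c h)]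
      exact hMc _ c (by rw [neg_neg_root]; exact h) h (neg_neg_root c)
    rw [e, show Λ c = L c h from dif_pos h]
    exact ⟨(hM c h).2, (hM c h).1⟩
  have hunit : ∀ c, IsUnit (Λ c) := fun c => by
    by_cases h : bs.IsPos c
    · exact chain_isUnit hd (hΛp c h)
    · have := (hdual _ (hnp c h)).2
      rwa [neg_neg_root] at this
  have hsimple : ∀ a ∈ bs.support, Λ a = 1 := fun a ha =>
    chain_simple ha (hΛp a (RootPairing.Base.isPos_of_mem_support ha))
  have hnsimple : ∀ a ∈ bs.support, Λ (D.P.reflectionPerm a a) = 1 := fun a ha => by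
    have h := (hdual a (RootPairing.Base.isPos_of_mem_support ha))
    have e := h.1.prod_unique (dualC_simple (hd a ha)) h.2 isUnit_one
    rwa [hsimple a ha, _root_.one_mul, _root_.one_mul] at e
  have hall : ∀ c, DualC D c (Λ c) (Λ (D.P.reflectionPerm c c)) := fun c => by
    by_cases h : bs.IsPos c
    · exact (hdual c h).1
    · have := (hdual _ (hnp c h)).1.symm
      rwa [neg_neg_root] at this
  refine ⟨Λ, hunit, hsimple, hnsimple, hall, hΛp, fun s hs => ?_⟩
  have hpos : ∀ c, bs.IsPos c → ∀ ν, Cj D (w D s) c (D.P.reflectionPerm s c) ν →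
      Sg (ν * Λ c) (Λ (D.P.reflectionPerm s c)) := fun c hc ν hν => by
    rcases eq_or_ne c s with rfl | hne
    · have e := (hν (𝟙_ (Over S)) 1).symm.trans ((toUnit_w (D := D) (𝟙_ (Over S)) c) ▸ flip_el (hd c hs) (𝟙_ (Over S)))
      have e' := P_inj (mul_right_cancel e)
      rw [res_unit, res_unit, _root_.mul_one] at e'
      rw [e', hsimple c hs, hnsimple c hs]
      exact Or.inr (by ring)
    rcases lt_trichotomy (D.P.pairing c s) 0 with hp | hp | hp
    · have hp' : 0 < D.P.pairing (D.P.reflectionPerm s c) s := by rw [pr, D.P.pairing_same]; omega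
      have hpc := hc.reflectionPerm hs hne
      have hne' : D.P.reflectionPerm s c ≠ s := fun h => by
        have h2 := congrArg (D.P.reflectionPerm s) h
        rw [refl_refl] at h2
        exact hneg s (RootPairing.Base.isPos_of_mem_support hs) (h2 ▸ hc)
      exact (chain_unique hd hpc (hΛp _ hpc)
        (.step hs hne' hp' (by rw [refl_refl]; exact hν) (by rw [refl_refl]; exact hΛp c hc))).symm
    · have hfix : D.P.reflectionPerm s c = c :=
        D.P.root.injective (by rw [root_refl, hp, zero_zsmul, sub_zero])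
      rw [hfix] at hν ⊢
      simpa using (fixed_sign hd hc hs hp hν).mul (Sg.refl (Λ c))
    · obtain ⟨ν₀, h₀⟩ := exists_cj hd hs (D.P.reflectionPerm s c)
      rw [refl_refl] at h₀
      obtain ⟨hpc, -⟩ := step_props hc hs hne hp
      have e := chain_unique hd hc (hΛp c hc) (.step hs hne hp h₀ (hΛp _ hpc))
      refine ((Sg.refl ν).mul e).trans ?_
      rw [← _root_.mul_assoc]
      simpa using (cj_back hd hs h₀ hν).mul (Sg.refl (Λ (D.P.reflectionPerm s c)))
  intro c
  obtain ⟨ν, hν⟩ := exists_cj hd hs c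
  refine ⟨ν, hν, ?_⟩
  by_cases hc : bs.IsPos c
  · exact hpos c hc ν hν
  generalize hdc : D.P.reflectionPerm c c = d
  have hd' : bs.IsPos d := hdc ▸ hnp c hc
  have hcd : c = D.P.reflectionPerm d d := by rw [← hdc, neg_neg_root]
  subst hcd
  obtain ⟨νd, hνd⟩ := exists_cj hd hs d
  have hT := (hall d).transport (hd s hs) hνd hν
  have hun : IsUnit ν := cj_isUnit hd hs hν
  have e := hT.prod_unique (hall (D.P.reflectionPerm s d)) (hun.mul (hunit _)) (hunit _)
  rw [← refl_neg] at e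
  refine Sg.cancel (hunit (D.P.reflectionPerm s d)) ?_
  rw [mul_comm (Λ (D.P.reflectionPerm s (D.P.reflectionPerm d d))) (Λ (D.P.reflectionPerm s d)), ← e,
    mul_comm (νd * Λ d)]
  exact (Sg.refl _).mul (hpos d hd' νd hνd).symm

end Groth.Agent.H82.R2

namespace Groth.Agent.H82.R2

variable {S : Scheme.{u}} {G : Over S} [GrpObj G] {D : Red.SplitRed G} {Λ : D.idx → Γ(S, ⊤)}

theorem MonAct.one (Λ : D.idx → Γ(S, ⊤)) : MonAct D Λ 1 1 := fun c =>
  ⟨1, Cj.one c, by rw [_root_.one_mul]; exact Sg.refl _⟩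

theorem MonAct.mul {g h : 𝟙_ (Over S) ⟶ G} {π ρ : Equiv.Perm D.idx} (hg : MonAct D Λ g π)
    (hh : MonAct D Λ h ρ) : MonAct D Λ (g * h) (π * ρ) := fun c => by
  obtain ⟨ν, hν, sν⟩ := hh c
  obtain ⟨μ', hμ, sμ⟩ := hg (ρ c)
  refine ⟨μ' * ν, hμ.mul hν, ?_⟩
  rw [_root_.mul_assoc]
  exact ((Sg.refl μ').mul sν).trans sμ

theorem MonAct.inv (hu : ∀ c, IsUnit (Λ c)) {g : 𝟙_ (Over S) ⟶ G} {π : Equiv.Perm D.idx}
    (hg : MonAct D Λ g π) : MonAct D Λ g⁻¹ π⁻¹ := fun c => by
  obtain ⟨ν, hν, sν⟩ := hg (π⁻¹ c)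
  have hc : π (π⁻¹ c) = c := π.apply_symm_apply c
  rw [hc] at hν sν
  obtain ⟨n, rfl⟩ := isUnit_of_mul_isUnit_left (sν.isUnit (hu c))
  refine ⟨(↑n⁻¹ : Γ(S, ⊤)), fun X x => ?_, ?_⟩
  · have h := hν X (res X ↑n⁻¹ * x)
    rw [← _root_.mul_assoc (res X _), ← res_mul', n.mul_inv, res_one, _root_.one_mul] at h
    rw [GrpObj.comp_inv, inv_mul_eq_iff_eq_mul, ← _root_.mul_assoc, h, mul_inv_cancel_right]
  · have h := (Sg.refl (↑n⁻¹ : Γ(S, ⊤))).mul sν.symm
    rwa [← _root_.mul_assoc, n.inv_mul, _root_.one_mul] at h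

theorem MonAct.wL : ∀ (L : List D.idx), (∀ s ∈ L, MonAct D Λ (R2.w D s) (D.P.reflectionPerm s)) →
    MonAct D Λ (R2.wL D L) (L.map D.P.reflectionPerm).prod
  | [], _ => by rw [wL_nil]; exact MonAct.one Λ
  | s :: L, h => by
    rw [wL_cons, List.map_cons, List.prod_cons]
    exact (h s List.mem_cons_self).mul (MonAct.wL L fun x hx => h x (List.mem_cons_of_mem _ hx))

end Groth.Agent.H82.R2
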