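import Groth.Agent.H82.R2.Scalar
import Groth.Agent.H82.BigCell.Cell
import Groth.Agent.H82.Weyl.RankOneGen
import Groth.Agent.Lib.MultSmooth.Centralizer
import Groth.Agent.Lib.Tori.Character

/-!
# The centralizer of a singular cocharacter as a rank-one system
-/

set_option autoImplicit false
set_option maxHeartbeats 800000
set_option linter.style.haveILetI false
set_option linter.unusedSectionVars false
universe u

open CategoryTheory MonoidalCategory CartesianMonoidalCategory MonObj GrpObj AlgebraicGeometry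
open Groth.Agent.Lib.RedPts Groth.Agent.H82.BigCell Groth.Agent.H82.Contract Groth.Agent.H82.Weyl
open Groth.Agent.H82.RankOne (P P_eq P_add P_zero P_neg P_comp gmPt_eq)

namespace Groth.Agent.H82.R2.Cent

variable {S : Scheme.{u}} {G : Over S} [GrpObj G] {D : Red.SplitRed G}

theorem isMonHom_chr (m : D.M) : IsMonHom (chr D m) := by
  haveI : IsMonHom (show D.T ⟶ Red.DS S D.M from D.split.hom.hom.hom) := D.split.hom.hom.isMonHom_hom
  exact inferInstanceAs (IsMonHom ((show D.T ⟶ Red.DS S D.M from D.split.hom.hom.hom) ≫ Red.chi S m))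

theorem chr_refl (a : D.idx) {X : Over S} (t : X ⟶ D.T) :
    t ≫ chr D (D.P.root (D.P.reflectionPerm a a)) = t ≫ (chr D (D.P.root a))⁻¹ := by
  haveI := isMonHom_chr (D := D) (D.P.root a)
  rw [GrpObj.comp_inv, eq_inv_iff_mul_eq_one, chr, chr, ← Category.assoc, ← Category.assoc, ← Gm.chi_add,
    root_neg, neg_add_cancel, Gm.chi_zero]

theorem commutes_torus (lam : D.M →+ ℤ) {X : Over S} (s : X ⟶ D.T) :
    Commutes (gcochar D lam) (s ≫ D.i) := fun W f w => by
  rw [← Category.assoc w, ← Category.assoc f, ← MonObj.mul_comp, ← MonObj.mul_comp, torus_comm D]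

theorem commutes_root {lam : D.M →+ ℤ} {k : D.idx} (hk : lam (D.P.root k) = 0) {X : Over S}
    (x : X ⟶ Red.Ga S) : Commutes (gcochar D lam) (x ≫ D.u k) := fun W f w => by
  obtain ⟨s, rfl⟩ : ∃ s, w = Gm.gmPt s := ⟨(Gm.isUnit_gmFn w).unit, gmPt_eq w (by simp)⟩
  have h1 := isRootPts D k (Gm.gmPt s ≫ cochar D lam) (Red.gaFn (f ≫ x))
  rw [gmFn_cochar, hk, zpow_zero, Units.val_one, _root_.one_mul, ← P_eq, Category.assoc, Category.assoc] at h1
  exact h1

theorem commutes_mul {c : Red.Gm S ⟶ G} {X : Over S} {p q : X ⟶ G} (hp : Commutes c p) (hq : Commutes c q) :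
    Commutes c (p * q) := fun W f w => by
  rw [MonObj.comp_mul]
  exact (Commute.mul_right (hp W f w) (hq W f w)).eq

/-- The centralizer of a cocharacter. -/
theorem exists_Z (lam : D.M →+ ℤ) : ∃ (Z : Over S) (_ : GrpObj Z) (j : Z ⟶ G), IsMonHom j ∧ Mono j ∧
    ∀ (X : Over S) (g : X ⟶ G), (∃ z : X ⟶ Z, z ≫ j = g) ↔ Commutes (gcochar D lam) g := by
  haveI := D.reductive.2.1
  haveI := isAffineHom D
  haveI : IsMonHom (gcochar D lam) := by unfold gcochar; infer_instance
  obtain ⟨Z, hZ, j, ⟨hj, hjm, hjc⟩, -, -⟩ := Groth.Agent.Lib.MultSmooth.exists_centralizer_smooth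
    (Groth.Agent.Lib.Tori.Character.isMultTypeFT_DS S ℤ) (gcochar D lam)
  exact ⟨Z, hZ, j, hj, hjm, fun X g => (hjc X g).trans
    ⟨fun h Y f z => (h Y f z).symm, fun h Y f z => (h Y f z).symm⟩⟩

/-- The rank-one system inside the centralizer of a cocharacter singular exactly along `±a`. -/
theorem exists_hyp [D.P.IsReduced] (a : D.idx) {lam : D.M →+ ℤ} (h0 : lam (D.P.root a) = 0)
    (hne : ∀ c, c ≠ a → c ≠ D.P.reflectionPerm a a → lam (D.P.root c) ≠ 0) :
    ∃ (Z : Over S) (_ : GrpObj Z) (j : Z ⟶ G) (iZ : D.T ⟶ Z) (pp pm : Red.Ga S ⟶ Z),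
      IsMonHom j ∧ Mono j ∧ IsMonHom iZ ∧ IsMonHom pp ∧ IsMonHom pm ∧ iZ ≫ j = D.i ∧ pp ≫ j = D.u a ∧
      pm ≫ j = D.u (D.P.reflectionPerm a a) ∧ Hyp iZ (chr D (D.P.root a)) pp pm ∧
      ∀ (X : Over S) (g : X ⟶ G), Commutes (gcochar D lam) g → ∃ z : X ⟶ Z, z ≫ j = g := by
  classical
  haveI := isAffineHom D
  obtain ⟨Z, hGZ, j, hj, hjm, hjc⟩ := exists_Z (D := D) lam
  set a' := D.P.reflectionPerm a a with ha'
  have h0' : lam (D.P.root a') = 0 := by rw [ha', root_neg, map_neg, h0, neg_zero]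
  haveI : IsMonHom (D.u a) := (D.rootHom a).1
  haveI : IsMonHom (D.u a') := (D.rootHom a').1
  obtain ⟨iZ, hiZ⟩ := (hjc D.T D.i).2 (by simpa using commutes_torus lam (𝟙 D.T))
  obtain ⟨pp, hpp⟩ := (hjc _ (D.u a)).2 (by simpa using commutes_root h0 (𝟙 (Red.Ga S)))
  obtain ⟨pm, hpm⟩ := (hjc _ (D.u a')).2 (by simpa using commutes_root h0' (𝟙 (Red.Ga S)))
  have hjcancel : ∀ {X : Over S} {p q : X ⟶ Z}, p ≫ j = q ≫ j → p = q := fun h => (cancel_mono j).1 h
  haveI : IsMonHom iZ := isMonHom_of_points iZ fun X x y => hjcancel (by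
    simp only [MonObj.mul_comp _ _ j, Category.assoc, hiZ, MonObj.mul_comp _ _ D.i])
  haveI : IsMonHom pp := isMonHom_of_points pp fun X x y => hjcancel (by
    simp only [MonObj.mul_comp _ _ j, Category.assoc, hpp, MonObj.mul_comp _ _ (D.u a)])
  haveI : IsMonHom pm := isMonHom_of_points pm fun X x y => hjcancel (by
    simp only [MonObj.mul_comp _ _ j, Category.assoc, hpm, MonObj.mul_comp _ _ (D.u a')])
  have hPp : ∀ {X : Over S} (x : Γ(X.left, ⊤)), P pp x ≫ j = P (D.u a) x := fun x => by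
    rw [P, P, Category.assoc, hpp]
  have hPm : ∀ {X : Over S} (x : Γ(X.left, ⊤)), P pm x ≫ j = P (D.u a') x := fun x => by
    rw [P, P, Category.assoc, hpm]
  -- the frame
  let A := {c : D.idx // lam (D.P.root c) < 0}
  let B := {c : D.idx // 0 < lam (D.P.root c)}
  let d : Fin (Fintype.card A) → D.idx := fun k => ((Fintype.equivFin A).symm k).1
  let d' : Fin (Fintype.card B) → D.idx := fun k => ((Fintype.equivFin B).symm k).1
  have hd : ∀ k, lam (D.P.root (d k)) < 0 := fun k => ((Fintype.equivFin A).symm k).2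
  have hd' : ∀ k, 0 < lam (D.P.root (d' k)) := fun k => ((Fintype.equivFin B).symm k).2
  let N : ℤ := 1 + ∑ c, |D.P.pairing c a|
  let l : D.M →+ ℤ := N • lam + (D.P.coroot' a).toAddMonoidHom
  have hN : ∀ c, |D.P.pairing c a| < N := fun c => by
    have := Finset.single_le_sum (fun c _ => abs_nonneg (D.P.pairing c a)) (Finset.mem_univ c)
    simp only [N]; omega
  have hl : ∀ c, l (D.P.root c) = N * lam (D.P.root c) + D.P.pairing c a := fun c => by
    simp [l, D.P.root_coroot'_eq_pairing]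
  have hla : l (D.P.root a) = 2 := by rw [hl, h0, mul_zero, zero_add, D.P.pairing_same]
  have hla' : l (D.P.root a') = -2 := by rw [ha', root_neg, map_neg, hla]
  let e : Fin (Fintype.card A + 1) → D.idx := Fin.snoc (α := fun _ => D.idx) d a'
  let e' : Fin (Fintype.card B + 1) → D.idx := Fin.cons a d'
  have haa : a ≠ a' := fun h => by
    have h1 := hla'
    rw [← h, hla] at h1
    omega
  have he : ∀ k, l (D.P.root (e k)) < 0 := fun k => by
    refine Fin.lastCases ?_ (fun i => ?_) k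
    · simp [e, hla']
    · simp only [e, Fin.snoc_castSucc]
      rw [hl]
      nlinarith [hd i, hN (d i), le_abs_self (D.P.pairing (d i) a), abs_nonneg (D.P.pairing (d i) a)]
  have he' : ∀ k, 0 < l (D.P.root (e' k)) := fun k => by
    refine Fin.cases ?_ (fun i => ?_) k
    · simp [e', hla]
    · simp only [e', Fin.cons_succ]
      rw [hl]
      nlinarith [hd' i, hN (d' i), neg_abs_le (D.P.pairing (d' i) a), abs_nonneg (D.P.pairing (d' i) a)]
  have hdinj : Function.Injective d := Subtype.val_injective.comp (Equiv.injective _)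
  have hd'inj : Function.Injective d' := Subtype.val_injective.comp (Equiv.injective _)
  have hinj : Function.Injective e := Fin.snoc_injective_iff.2 ⟨hdinj, fun ⟨i, hi⟩ => by
    have := hd i; rw [hi, h0'] at this; exact lt_irrefl _ this⟩
  have hinj' : Function.Injective e' := Fin.cons_injective_iff.2 ⟨fun ⟨i, hi⟩ => by
    have := hd' i; rw [hi, h0] at this; exact lt_irrefl _ this, hd'inj⟩
  have hcard : Fintype.card A + 1 + (Fintype.card B + 1) = Fintype.card D.idx := by
    rw [show Fintype.card A + 1 + (Fintype.card B + 1) = Fintype.card A + Fintype.card B + Fintype.card (Fin 2) by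
      rw [Fintype.card_fin]; omega, ← Fintype.card_sum, ← Fintype.card_sum]
    refine Fintype.card_of_bijective (f := Sum.elim (Sum.elim Subtype.val Subtype.val) ![a, a'])
      ⟨Function.Injective.sumElim (Subtype.val_injective.sumElim Subtype.val_injective fun p c h => ?_) ?_ ?_, fun c => ?_⟩
    · have h1 := p.2
      rw [h] at h1
      exact absurd c.2 (not_lt.2 h1.le)
    · intro x y h
      fin_cases x <;> fin_cases y <;> simp at h ⊢
      · exact absurd h haa
      · exact absurd h.symm haa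
    · intro x y h
      have h2 : lam (D.P.root (![a, a'] y)) = 0 := by fin_cases y <;> simp [h0, h0']
      rw [← h] at h2
      rcases x with x | x
      · exact absurd h2 (ne_of_lt x.2)
      · exact absurd h2 (ne_of_gt x.2)
    · rcases eq_or_ne c a with rfl | h1
      · exact ⟨Sum.inr 0, rfl⟩
      rcases eq_or_ne c a' with rfl | h2
      · exact ⟨Sum.inr 1, rfl⟩
      rcases lt_or_gt_of_ne (hne c h1 h2) with h | h
      · exact ⟨Sum.inl (Sum.inl ⟨c, h⟩), rfl⟩
      · exact ⟨Sum.inl (Sum.inr ⟨c, h⟩), rfl⟩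
  haveI : IsOpenImmersion (RedSub.cellMap D e e').left := isOpenImmersion_cellMap (l := l) hinj hinj' he he' hcard
  let Φ₀ := Φ iZ pp pm
  -- points of the small cell
  have hΦj : ∀ {X : Over S} (z : X ⟶ (Red.Ga S ⊗ D.T) ⊗ Red.Ga S), (z ≫ Φ₀) ≫ j =
      ((z ≫ fst _ _ ≫ fst _ _) ≫ D.u a') * ((z ≫ fst _ _ ≫ snd _ _) ≫ D.i) * ((z ≫ snd _ _) ≫ D.u a) := fun {X} z => by
    have ez : z = lift (lift (z ≫ fst _ _ ≫ fst _ _) (z ≫ fst _ _ ≫ snd _ _)) (z ≫ snd _ _) := by ext <;> simp
    conv_lhs => rw [ez]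
    simp only [Φ₀, Φ, lift_map_assoc, lift_map, lift_whiskerRight_assoc, ← Hom.mul_def, MonObj.mul_comp _ _ j,
      Category.assoc, hiZ, hpp, hpm]
  -- Φ₀ is a monomorphism
  haveI hΦmono : Mono Φ₀ := ⟨fun {X} z z' h => by
    have h1 := congrArg (· ≫ j) h
    simp only [hΦj, P_eq] at h1
    obtain ⟨e1, e2, e3⟩ := pm_coords a h1
    have q1 := Ga.gaFn_injective e1
    have q3 := Ga.gaFn_injective e3
    apply CartesianMonoidalCategory.hom_ext
    · apply CartesianMonoidalCategory.hom_ext <;> simpa only [Category.assoc] using ‹_›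
    · simpa only [Category.assoc] using q3⟩
  let W : Over S := Over.mk (Limits.pullback.snd (RedSub.cellMap D e e').left j.left ≫ Z.hom)
  let p : W ⟶ Z := Over.homMk (Limits.pullback.snd (RedSub.cellMap D e e').left j.left) rfl
  let q : W ⟶ RedSub.pow (Red.Ga S) (Fintype.card A + 1) ⊗ (D.T ⊗ RedSub.pow (Red.Ga S) (Fintype.card B + 1)) :=
    Over.homMk (Limits.pullback.fst (RedSub.cellMap D e e').left j.left) (by
      change _ = Limits.pullback.snd _ _ ≫ Z.hom
      rw [← Over.w (RedSub.cellMap D e e'), Limits.pullback.condition_assoc, Over.w j])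
  have hqp : q ≫ RedSub.cellMap D e e' = p ≫ j := Over.OverMorphism.ext Limits.pullback.condition
  haveI : IsOpenImmersion p.left :=
    inferInstanceAs (IsOpenImmersion (Limits.pullback.snd (RedSub.cellMap D e e').left j.left))
  haveI : Mono p := (Over.forget S).mono_of_mono_map (show Mono p.left from inferInstance)
  -- from the small cell into the pullback
  have hι : ∃ emb : (Red.Ga S ⊗ D.T) ⊗ Red.Ga S ⟶ _, emb ≫ RedSub.cellMap D e e' = Φ₀ ≫ j := by
    refine ⟨lift (tuple _ (Fin.snoc (α := fun _ => _) (fun _ => Ga.gaPt 0) (fst _ _ ≫ fst _ _)))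
      (lift (fst _ _ ≫ snd _ _) (tuple _ (Fin.cons (α := fun _ => _) (snd _ _) fun _ => Ga.gaPt 0))), ?_⟩
    refine (comp_cellMap e' _).trans ?_
    rw [← Category.id_comp Φ₀, hΦj, _root_.mul_assoc]
    simp only [Category.id_comp, lift_fst, lift_snd_assoc, lift_snd]
    refine congrArg₂ (· * ·) ?_ (congrArg₂ (· * ·) rfl ?_)
    · rw [comp_prodMap, show (fun k => tuple _ (Fin.snoc (α := fun _ => _) (fun _ => Ga.gaPt 0) (fst _ _ ≫ fst _ _)) ≫
          proj _ k ≫ D.u (e k)) = Fin.snoc (α := fun _ => (Red.Ga S ⊗ D.T) ⊗ Red.Ga S ⟶ G) (fun _ => (1 : _ ⟶ G))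
          ((fst (Red.Ga S ⊗ D.T) (Red.Ga S) ≫ fst _ _) ≫ D.u a') from funext fun k => by
        rw [← Category.assoc, tuple_proj]
        refine Fin.lastCases ?_ (fun i => ?_) k
        · simp [e]
        · simp only [Fin.snoc_castSucc]
          haveI : IsMonHom (D.u (e i.castSucc)) := (D.rootHom _).1
          exact P_zero (D.u (e i.castSucc)), prodPts_snoc, Contract.prodPts_one fun _ => rfl, _root_.one_mul]
    · rw [comp_prodMap, show (fun k => tuple _ (Fin.cons (α := fun _ => _) (snd _ _) fun _ => Ga.gaPt 0) ≫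
          proj _ k ≫ D.u (e' k)) = Fin.cons (α := fun _ => (Red.Ga S ⊗ D.T) ⊗ Red.Ga S ⟶ G) (snd (Red.Ga S ⊗ D.T) (Red.Ga S) ≫ D.u a)
          (fun _ => (1 : _ ⟶ G)) from funext fun k => by
        rw [← Category.assoc, tuple_proj]
        refine Fin.cases ?_ (fun i => ?_) k
        · simp [e']
        · simp only [Fin.cons_succ]
          haveI : IsMonHom (D.u (e' i.succ)) := (D.rootHom _).1
          exact P_zero (D.u (e' i.succ)), prodPts_succ]
      simp [Contract.prodPts_one]
  obtain ⟨emb, hemb⟩ := hι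
  let w : (Red.Ga S ⊗ D.T) ⊗ Red.Ga S ⟶ W := Over.homMk
    (Limits.pullback.lift emb.left Φ₀.left (congrArg Over.Hom.left hemb)) (by
      change Limits.pullback.lift _ _ _ ≫ Limits.pullback.snd _ _ ≫ Z.hom = _
      rw [Limits.pullback.lift_snd_assoc, Over.w Φ₀])
  have hwp : w ≫ p = Φ₀ := Over.OverMorphism.ext (Limits.pullback.lift_snd _ _ _)
  -- from the pullback into the small cell
  have hr : ∃ r : W ⟶ (Red.Ga S ⊗ D.T) ⊗ Red.Ga S, r ≫ Φ₀ = p := by
    have hcomm : Commutes (gcochar D lam) (q ≫ RedSub.cellMap D e e') := hqp ▸ (hjc _ _).1 ⟨p, rfl⟩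
    let Y₀ := tuple _ (fun i => (q ≫ fst _ _) ≫ proj _ (Fin.castSucc i)) ≫
      RedSub.prodMap (Red.Ga S) _ fun k => D.u (d k)
    let X₀ := tuple _ (fun i => (q ≫ snd _ _ ≫ snd _ _) ≫ proj _ (Fin.succ i)) ≫
      RedSub.prodMap (Red.Ga S) _ fun k => D.u (d' k)
    let aa := (q ≫ fst _ _) ≫ proj _ (Fin.last _)
    let bb := (q ≫ snd _ _ ≫ snd _ _) ≫ proj _ 0
    let tt := q ≫ snd _ _ ≫ fst _ _
    have ea : ((q ≫ fst _ _) ≫ RedSub.prodMap (Red.Ga S) _ fun k => D.u (e k)) = Y₀ * (aa ≫ D.u a') := by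
      simp only [Y₀]
      rw [comp_prodMap, comp_prodMap, ← prodPts_snoc]
      refine congrArg _ (funext fun k => ?_)
      refine Fin.lastCases ?_ (fun i => ?_) k
      · simp [e, aa]
      · simp only [e, Fin.snoc_castSucc]
        rw [← Category.assoc, ← Category.assoc, tuple_proj]
    have eb : ((q ≫ snd _ _ ≫ snd _ _) ≫ RedSub.prodMap (Red.Ga S) _ fun k => D.u (e' k)) = (bb ≫ D.u a) * X₀ := by
      simp only [X₀]
      rw [comp_prodMap, comp_prodMap, prodPts_succ]
      refine congrArg₂ (· * ·) (by simp [e', bb]) (congrArg _ (funext fun i => ?_))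
      simp only [e', Fin.cons_succ, ← Category.assoc, tuple_proj]
    have hz : q ≫ RedSub.cellMap D e e' = Y₀ * (((aa ≫ D.u a') * ((tt ≫ D.i) * (bb ≫ D.u a))) * X₀) := by
      rw [comp_cellMap e' q, ea, eb]
      simp only [tt, _root_.mul_assoc]
    have h := (factors_unique (c := gcochar D lam) (isLimPt_neg hd _) isLimPt_one
      (isLimPt_of_commute _ (commutes_mul (commutes_root h0' aa)
        (commutes_mul (commutes_torus lam tt) (commutes_root h0 bb))))
      (isLimPt_of_commute _ hcomm) (isLimPt_pos hd' _) isLimPt_one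
      (hz.symm.trans (by rw [_root_.one_mul, _root_.mul_one]))).2.1
    refine ⟨lift (lift aa tt) bb, hjcancel ?_⟩
    rw [hΦj]
    simp only [lift_fst_assoc, lift_fst, lift_snd, _root_.mul_assoc]
    exact h.trans hqp
  obtain ⟨r, hr⟩ := hr
  have h1 : w ≫ r = 𝟙 _ := (cancel_mono Φ₀).1 (by rw [Category.assoc, hr, hwp, Category.id_comp])
  have h2 : r ≫ w = 𝟙 _ := (cancel_mono p).1 (by rw [Category.assoc, hwp, hr, Category.id_comp])
  haveI : IsIso w := ⟨r, h1, h2⟩
  have hopen : IsOpenImmersion Φ₀.left := by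
    haveI : IsIso w.left := inferInstanceAs (IsIso ((Over.forget S).map w))
    rw [← hwp, Over.comp_left]
    infer_instance
  -- the character
  have hinjz : Function.Injective (zmultiplesHom D.M (D.P.root a)) := fun x y h => by
    have h2 := congrArg (D.P.coroot' a) h
    simpa [D.P.root_coroot'_eq_pairing, D.P.pairing_same] using h2
  refine ⟨Z, hGZ, j, iZ, pp, pm, hj, hjm, inferInstance, inferInstance, inferInstance, hiZ, hpp, hpm, ?_,
    fun X g => (hjc X g).2⟩
  refine
    { openImm := hopen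
      monoI := ⟨fun f g h => (cancel_mono D.i).1 (by simpa [← hiZ] using congrArg (· ≫ j) h)⟩
      comm := fun s t => torus_comm D s t
      conjP := fun t x => hjcancel ?_
      conjM := fun t x => hjcancel ?_
      lift := fun z => ?_ }
  · simp only [MonObj.mul_comp _ _ j, hPp, Category.assoc, hiZ]
    exact isRootPts D a t x
  · simp only [MonObj.mul_comp _ _ j, hPm, Category.assoc, hiZ]
    rw [← chr_refl]
    exact isRootPts D a' t x
  · obtain ⟨hfl, hsu⟩ := Groth.Agent.Lib.Tori.Character.flat_surjective_chi S (D.P.root a) hinjz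
    haveI : IsIso D.split.hom.hom.hom.left :=
      inferInstanceAs (IsIso ((Grp.forget (Over S) ⋙ Over.forget S).map D.split.hom))
    haveI : Flat (chr D (D.P.root a)).left := by rw [chr, Over.comp_left]; infer_instance
    haveI : Surjective (chr D (D.P.root a)).left := by rw [chr, Over.comp_left]; infer_instance
    exact Groth.Agent.Lib.Tori.Character.exists_lift _ z

end Groth.Agent.H82.R2.Cent
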