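import Groth.Agent.H82.R2.Comm

/-!
# Type A₂
-/

set_option autoImplicit false
set_option linter.style.haveILetI false
set_option linter.unusedSectionVars false
universe u

open CategoryTheory MonoidalCategory CartesianMonoidalCategory MonObj GrpObj AlgebraicGeometry
open Groth.Agent.Lib.RedPts Groth.Agent.H82.BigCell Groth.Agent.H82.Contract
open Groth.Agent.H82.RankOne (P P_eq P_add P_zero P_neg P_comp)

namespace Groth.Agent.H82.R2.A2

variable {S : Scheme.{u}} {G : Over S} [GrpObj G] {D : Red.SplitRed G} [D.P.IsCrystallographic]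

/-- The commutation rule of a pair of type A₂ with constant `t`. -/
def Rel (D : Red.SplitRed G) (a b c : D.idx) (t : Γ(S, ⊤)) : Prop :=
  ∀ (X : Over S) (x y : Γ(X.left, ⊤)) (Z : X ⟶ G), P (D.u b) y * (P (D.u a) x * Z) =
    P (D.u a) x * (P (D.u b) y * (P (D.u c) (res X t * (x * y)) * Z))

theorem pair_symm {a b : D.idx} (hp : Pair D a b 1) : Pair D b a 1 where
  pba := hp.pab
  pab := hp.pba
  sub := fun ⟨c, hc⟩ => hp.sub ⟨D.P.reflectionPerm c c, by rw [root_neg, hc, neg_sub]⟩
  hn := Or.inl rfl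
  nm := fun ⟨c, hc⟩ => hp.not_mult_b (k := 2) le_rfl c (by rw [hc, two_zsmul])

variable {a b c : D.idx} (hp : Pair D a b 1) (hc : Co a b c 1 1)
include hp hc

theorem exists_rel : ∃ t, Rel D a b c t := by
  obtain ⟨C, hC⟩ := hp.exists_comm (α := a) (β := b) co_left co_right 1 1 (by norm_num) (by norm_num)
    ![c] ![1] ![1] (fun k => by fin_cases k; exact ⟨le_rfl, le_rfl, by simpa using hc⟩)
    (fun k k' _ => Subsingleton.elim k k')
    (fun p q h1 h2 h => ⟨0, by simp [posList] at h ⊢; omega⟩)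
  refine ⟨-C 0, fun X x y Z => ?_⟩
  have h := hC X (-x) y
  simp only [prodPts_succ, prodPts_zero, _root_.mul_one, neg_neg, Matrix.cons_val_zero, pow_one] at h
  rw [P_neg, _root_.mul_assoc, inv_mul_eq_iff_eq_mul] at h
  rw [← _root_.mul_assoc, h, show res X (-C 0) * (x * y) = res X (C 0) * -x * y by
    rw [res, res, map_neg]; ring]
  simp only [_root_.mul_assoc]

theorem rel_symm {t : Γ(S, ⊤)} (h : Rel D a b c t) : Rel D b a c (-t) := fun X x y Z => by
  rw [h X y x, P_merge, show res X t * (y * x) + res X (-t) * (x * y) = 0 by rw [res, res, map_neg]; ring,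
    P_zero, _root_.one_mul]

omit hc in
theorem comm_ac {c' : D.idx} (hc' : Co a b c' 1 1) {X : Over S} (x y : Γ(X.left, ⊤)) (Z : X ⟶ G) :
    P (D.u c') x * (P (D.u a) y * Z) = P (D.u a) y * (P (D.u c') x * Z) :=
  hp.comm hc' co_left (by norm_num) (by decide) (by decide) x y Z

theorem comm_bc {X : Over S} (x y : Γ(X.left, ⊤)) (Z : X ⟶ G) :
    P (D.u b) x * (P (D.u c) y * Z) = P (D.u c) y * (P (D.u b) x * Z) :=
  hp.comm co_right hc (by norm_num) (by decide) (by decide) x y Z

theorem conj_ub {t : Γ(S, ⊤)} (h : Rel D a b c t) {X : Over S} (x : Γ(X.left, ⊤)) :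
    P (D.u b) (1 : Γ(X.left, ⊤)) * P (D.u a) x * P (D.u b) (-1 : Γ(X.left, ⊤)) =
      P (D.u a) x * P (D.u c) (res X t * x) := by
  rw [_root_.mul_assoc, h X x 1, comm_bc hp hc, ← P_add, add_neg_cancel, P_zero, _root_.mul_one, _root_.mul_one]

theorem conj_ub_top {X : Over S} (w : Γ(X.left, ⊤)) :
    P (D.u b) (-1 : Γ(X.left, ⊤)) * P (D.u c) w * P (D.u b) (1 : Γ(X.left, ⊤)) = P (D.u c) w := by
  rw [_root_.mul_assoc, comm_bc hp hc, ← P_add, neg_add_cancel, P_zero, _root_.mul_one]

/-- The conjugation by `el b z`. -/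
theorem el_conj_a {t z : Γ(S, ⊤)} (h : Rel D a b c t) (hW : Maps (el D b z) a c) :
    (∀ (X : Over S) (x : Γ(X.left, ⊤)), el D b z X * P (D.u a) x = P (D.u c) (res X t * x) * el D b z X) ∧
      (Flip D (el D b z) b z → ∀ (X : Over S) (x : Γ(X.left, ⊤)),
        el D b z X * P (D.u c) (res X t * x) = P (D.u a) (-x) * el D b z X) := by
  obtain ⟨F, hF⟩ := hp.exists_comm (α := D.P.reflectionPerm b b) (β := c) co_right.neg hc 2 (-1)
    (by norm_num) (by norm_num) ![a] ![1] ![1] (fun k => by fin_cases k; exact ⟨le_rfl, le_rfl, by simp [Co]⟩)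
    (fun k k' _ => Subsingleton.elim k k')
    (fun p q h1 h2 h => ⟨0, by simp [posList] at h ⊢; omega⟩)
  have hF' : ∀ (X : Over S) (s w : Γ(X.left, ⊤)),
      P (D.u (D.P.reflectionPerm b b)) s * P (D.u c) w * P (D.u (D.P.reflectionPerm b b)) (-s) =
        P (D.u a) (res X (F 0) * s * w) * P (D.u c) w := fun X s w => by
    rw [hF X s w]
    simp only [prodPts_succ, prodPts_zero, Matrix.cons_val_zero, pow_one]
    rw [comm_ac hp hc, _root_.mul_one]
  have main : ∀ (X : Over S) (x : Γ(X.left, ⊤)), el D b z X * P (D.u a) x = P (D.u c) (res X t * x) * el D b z X ∧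
      res X (F 0) * -res X z * (res X t * x) = x := fun X x => by
    obtain ⟨x', hx'⟩ := hW X x
    have h1 := el_conj hx'
    rw [conj_ub hp hc h, conj_ub_top hp hc] at h1
    have h2 := hF' X (-res X z) x'
    rw [neg_neg] at h2
    rw [h2] at h1
    have h3 := hp.coords_eq 1 1 ![a, c] ![1, 1] ![0, 1]
      (fun k => by fin_cases k <;> [exact co_left; exact hc]) (by decide) (fun k => by fin_cases k <;> norm_num)
      ![x, res X t * x] ![res X (F 0) * -res X z * x', x'] (by simpa [prodPts_succ] using h1)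
    have e1 := congrFun h3 1
    have e0 := congrFun h3 0
    simp only [Matrix.cons_val_one, Matrix.cons_val_zero] at e1 e0
    subst e1
    exact ⟨hx', e0.symm⟩
  refine ⟨fun X x => (main X x).1, fun hz X x => ?_⟩
  obtain ⟨h0, h1⟩ := main X x
  have h2 := el_conj_conj hz h0
  rw [conj_ub hp hc h, hF', show res X (F 0) * res X z * (res X t * x) = -x by linear_combination -h1,
    ← _root_.mul_assoc, h0, _root_.mul_assoc, show P (D.u a) (-x) * P (D.u c) (res X t * x) =
      P (D.u c) (res X t * x) * P (D.u a) (-x) by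
        simpa using (comm_ac hp hc (res X t * x) (-x) 1).symm, _root_.mul_assoc] at h2
  exact mul_left_cancel h2

end Groth.Agent.H82.R2.A2
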