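import Groth.Agent.H82.R2.Comm

/-!
# Type B₂ (`a` short)
-/

set_option autoImplicit false
set_option linter.style.haveILetI false
set_option linter.unusedSectionVars false
universe u

open CategoryTheory MonoidalCategory CartesianMonoidalCategory MonObj GrpObj AlgebraicGeometry
open Groth.Agent.Lib.RedPts Groth.Agent.H82.BigCell Groth.Agent.H82.Contract
open Groth.Agent.H82.RankOne (P P_eq P_add P_zero P_neg P_comp)

namespace Groth.Agent.H82.R2.B2

variable {S : Scheme.{u}} {G : Over S} [GrpObj G] {D : Red.SplitRed G} [D.P.IsCrystallographic]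

/-- The commutation rules of a pair of type B₂ with constants `t`, `s`, `k`. -/
structure Rel (D : Red.SplitRed G) (a b c d : D.idx) (t s k : Γ(S, ⊤)) : Prop where
  ba : ∀ (X : Over S) (x y : Γ(X.left, ⊤)) (Z : X ⟶ G), P (D.u b) y * (P (D.u a) x * Z) =
    P (D.u a) x * (P (D.u b) y * (P (D.u c) (res X t * (x * y)) * (P (D.u d) (res X s * (x ^ 2 * y)) * Z)))
  ca : ∀ (X : Over S) (x y : Γ(X.left, ⊤)) (Z : X ⟶ G), P (D.u c) y * (P (D.u a) x * Z) =
    P (D.u a) x * (P (D.u c) y * (P (D.u d) (res X k * (x * y)) * Z))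
  cb : ∀ (X : Over S) (x y : Γ(X.left, ⊤)) (Z : X ⟶ G), P (D.u c) x * (P (D.u b) y * Z) =
    P (D.u b) y * (P (D.u c) x * Z)
  da : ∀ (X : Over S) (x y : Γ(X.left, ⊤)) (Z : X ⟶ G), P (D.u d) x * (P (D.u a) y * Z) =
    P (D.u a) y * (P (D.u d) x * Z)
  db : ∀ (X : Over S) (x y : Γ(X.left, ⊤)) (Z : X ⟶ G), P (D.u d) x * (P (D.u b) y * Z) =
    P (D.u b) y * (P (D.u d) x * Z)
  dc : ∀ (X : Over S) (x y : Γ(X.left, ⊤)) (Z : X ⟶ G), P (D.u d) x * (P (D.u c) y * Z) =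
    P (D.u c) y * (P (D.u d) x * Z)
  tk : res (𝟙_ (Over S)) t * res (𝟙_ (Over S)) k = 2 * res (𝟙_ (Over S)) s

variable {a b c d : D.idx} (hp : Pair D a b 2) (hc : Co a b c 1 1) (hd : Co a b d 2 1)
include hp hc hd

/-- Coordinates in the order `a, b, c, d`. -/
theorem coords {X : Over S} (p₀ p₁ p₂ p₃ q₀ q₁ q₂ q₃ : Γ(X.left, ⊤))
    (h : P (D.u a) p₀ * (P (D.u b) p₁ * (P (D.u c) p₂ * (P (D.u d) p₃ * 1))) =
      P (D.u a) q₀ * (P (D.u b) q₁ * (P (D.u c) q₂ * (P (D.u d) q₃ * 1)))) :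
    p₀ = q₀ ∧ p₁ = q₁ ∧ p₂ = q₂ ∧ p₃ = q₃ := by
  have := hp.coords_eq 1 1 ![a, b, c, d] ![1, 0, 1, 2] ![0, 1, 1, 1]
    (fun k => by fin_cases k <;> [exact co_left; exact co_right; exact hc; exact hd]) (by decide)
    (fun k => by fin_cases k <;> norm_num) ![p₀, p₁, p₂, p₃] ![q₀, q₁, q₂, q₃] (by simpa [prodPts_succ] using h)
  exact ⟨congrFun this 0, congrFun this 1, congrFun this 2, congrFun this 3⟩

theorem coords_acd {X : Over S} (p₀ p₂ p₃ q₀ q₂ q₃ : Γ(X.left, ⊤))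
    (h : P (D.u a) p₀ * (P (D.u c) p₂ * P (D.u d) p₃) = P (D.u a) q₀ * (P (D.u c) q₂ * P (D.u d) q₃)) :
    p₀ = q₀ ∧ p₂ = q₂ ∧ p₃ = q₃ := by
  obtain ⟨h0, -, h2, h3⟩ := coords hp hc hd p₀ 0 p₂ p₃ q₀ 0 q₂ q₃
    (by simpa only [P_zero, _root_.one_mul, _root_.mul_one] using h)
  exact ⟨h0, h2, h3⟩

theorem coords_bcd {X : Over S} (p₁ p₂ p₃ q₁ q₂ q₃ : Γ(X.left, ⊤))
    (h : P (D.u b) p₁ * (P (D.u c) p₂ * P (D.u d) p₃) = P (D.u b) q₁ * (P (D.u c) q₂ * P (D.u d) q₃)) :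
    p₁ = q₁ ∧ p₂ = q₂ ∧ p₃ = q₃ := by
  obtain ⟨-, h1, h2, h3⟩ := coords hp hc hd 0 p₁ p₂ p₃ 0 q₁ q₂ q₃
    (by simpa only [P_zero, _root_.one_mul, _root_.mul_one] using h)
  exact ⟨h1, h2, h3⟩

theorem exists_rel : ∃ t s k, Rel D a b c d t s k := by
  obtain ⟨C, hC⟩ := hp.exists_comm (α := a) (β := b) co_left co_right 1 1 (by norm_num) (by norm_num)
    ![c, d] ![1, 2] ![1, 1] (fun k => by fin_cases k <;> [exact ⟨le_rfl, le_rfl, by simpa using hc⟩;
      exact ⟨by simp, by simp, by simpa using hd⟩]) (by decide)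
    (fun p q h1 h2 h => by
      simp [posList, Fin.exists_fin_two] at h ⊢; omega)
  obtain ⟨E, hE⟩ := hp.exists_comm (α := a) (β := c) co_left hc 1 1 (by norm_num) (by norm_num)
    ![d] ![1] ![1] (fun k => by fin_cases k; exact ⟨le_rfl, le_rfl, by simpa using hd⟩)
    (fun k k' _ => Subsingleton.elim k k')
    (fun p q h1 h2 h => ⟨0, by simp [posList] at h ⊢; omega⟩)
  have cb : ∀ (X : Over S) (x y : Γ(X.left, ⊤)) (Z : X ⟶ G), P (D.u c) x * (P (D.u b) y * Z) =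
      P (D.u b) y * (P (D.u c) x * Z) := fun _ =>
    hp.comm hc co_right (by norm_num) (by decide) (by decide)
  have da : ∀ (X : Over S) (x y : Γ(X.left, ⊤)) (Z : X ⟶ G), P (D.u d) x * (P (D.u a) y * Z) =
      P (D.u a) y * (P (D.u d) x * Z) := fun _ =>
    hp.comm hd co_left (by norm_num) (by decide) (by decide)
  have db : ∀ (X : Over S) (x y : Γ(X.left, ⊤)) (Z : X ⟶ G), P (D.u d) x * (P (D.u b) y * Z) =
      P (D.u b) y * (P (D.u d) x * Z) := fun _ =>
    hp.comm hd co_right (by norm_num) (by decide) (by decide)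
  have dc : ∀ (X : Over S) (x y : Γ(X.left, ⊤)) (Z : X ⟶ G), P (D.u d) x * (P (D.u c) y * Z) =
      P (D.u c) y * (P (D.u d) x * Z) := fun _ =>
    hp.comm hd hc (by norm_num) (by decide) (by decide)
  have ba : ∀ (X : Over S) (x y : Γ(X.left, ⊤)) (Z : X ⟶ G), P (D.u b) y * (P (D.u a) x * Z) =
      P (D.u a) x * (P (D.u b) y * (P (D.u c) (res X (-C 0) * (x * y)) *
        (P (D.u d) (res X (C 1) * (x ^ 2 * y)) * Z))) := fun X x y Z => by
    have h := hC X (-x) y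
    simp only [prodPts_succ, prodPts_zero, _root_.mul_one, neg_neg, Matrix.cons_val_zero, Matrix.cons_val_one,
      Fin.succ_zero_eq_one, pow_one] at h
    rw [P_neg, _root_.mul_assoc, inv_mul_eq_iff_eq_mul] at h
    rw [← _root_.mul_assoc, h, show res X (-C 0) * (x * y) = res X (C 0) * -x * y by rw [res, res, map_neg]; ring,
      show res X (C 1) * (x ^ 2 * y) = res X (C 1) * (-x) ^ 2 * y by ring]
    simp only [_root_.mul_assoc]
  have ca : ∀ (X : Over S) (x y : Γ(X.left, ⊤)) (Z : X ⟶ G), P (D.u c) y * (P (D.u a) x * Z) =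
      P (D.u a) x * (P (D.u c) y * (P (D.u d) (res X (-E 0) * (x * y)) * Z)) := fun X x y Z => by
    have h := hE X (-x) y
    simp only [prodPts_succ, prodPts_zero, _root_.mul_one, neg_neg, Matrix.cons_val_zero, pow_one] at h
    rw [P_neg, _root_.mul_assoc, inv_mul_eq_iff_eq_mul] at h
    rw [← _root_.mul_assoc, h, show res X (-E 0) * (x * y) = res X (E 0) * -x * y by rw [res, res, map_neg]; ring]
    simp only [_root_.mul_assoc]
  refine ⟨-C 0, C 1, -E 0, ba, ca, cb, da, db, dc, ?_⟩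
  let X := 𝟙_ (Over S)
  have h1 : P (D.u b) (1 : Γ(X.left, ⊤)) * (P (D.u a) (1 + 1) * 1) =
      P (D.u b) (1 : Γ(X.left, ⊤)) * (P (D.u a) 1 * (P (D.u a) 1 * 1)) := by rw [P_merge]
  rw [ba, ba] at h1
  simp only [ca, cb, da, db, dc, ba, P_merge] at h1
  obtain ⟨-, -, -, h2⟩ := coords hp hc hd _ _ _ _ _ _ _ _ h1
  linear_combination -h2

/-- The conjugation by `el a z`. -/
theorem el_conj_b {t s k z : Γ(S, ⊤)} (hr : Rel D a b c d t s k) (hz : Flip D (el D a z) a z)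
    (hb : Maps (el D a z) b d) (hcc : Maps (el D a z) c c) (hdb : Maps (el D a z) d b) :
    ∀ (X : Over S) (x : Γ(X.left, ⊤)), el D a z X * P (D.u b) x = P (D.u d) (res X s * x) * el D a z X ∧
      el D a z X * P (D.u c) (res X t * x) = P (D.u c) (-(res X t * x)) * el D a z X ∧
      el D a z X * P (D.u d) (res X s * x) = P (D.u b) x * el D a z X := by
  obtain ⟨ba, ca, cb, da, db, dc, -⟩ := hr
  obtain ⟨F, hF⟩ := hp.exists_comm (α := D.P.reflectionPerm a a) (β := d) co_left.neg hd (-1) 5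
    (by norm_num) (by norm_num) ![c, b] ![1, 2] ![1, 1] (fun k => by
      fin_cases k <;> [exact ⟨le_rfl, le_rfl, by simpa using hc⟩; exact ⟨by simp, by simp, by simp [Co]⟩])
    (by decide) (fun p q h1 h2 h => by simp [posList, Fin.exists_fin_two] at h ⊢; omega)
  have hF' : ∀ (X : Over S) (σ w : Γ(X.left, ⊤)),
      P (D.u (D.P.reflectionPerm a a)) σ * P (D.u d) w * P (D.u (D.P.reflectionPerm a a)) (-σ) =
        P (D.u a) 0 * (P (D.u b) (res X (F 1) * σ ^ 2 * w) * (P (D.u c) (res X (F 0) * σ * w) *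
          (P (D.u d) w * 1))) := fun X σ w => by
    rw [hF X σ w]
    simp only [prodPts_succ, prodPts_zero, Matrix.cons_val_zero, Matrix.cons_val_one, Fin.succ_zero_eq_one,
      pow_one]
    simp only [_root_.mul_assoc, cb, db, dc, P_zero, _root_.one_mul]
  have hK : ∀ (X : Over S) (x : Γ(X.left, ⊤)),
      P (D.u a) (1 : Γ(X.left, ⊤)) * P (D.u b) x * P (D.u a) (-1 : Γ(X.left, ⊤)) =
        P (D.u a) 0 * (P (D.u b) x * (P (D.u c) (-(res X t * x)) * (P (D.u d) (res X s * x) * 1))) := fun X x => by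
    rw [← _root_.mul_one (P (D.u a) (1 : Γ(X.left, ⊤)) * P (D.u b) x * P (D.u a) (-1 : Γ(X.left, ⊤)))]
    simp only [_root_.mul_assoc, ba, P_merge, add_neg_cancel]
    simp only [mul_neg, neg_mul, _root_.one_mul, _root_.mul_one, neg_sq, one_pow]
  intro X x
  obtain ⟨x', hx'⟩ := hb X x
  have h1 := el_conj hx'
  have htop : P (D.u a) (-1 : Γ(X.left, ⊤)) * P (D.u d) x' * P (D.u a) (1 : Γ(X.left, ⊤)) = P (D.u d) x' := by
    rw [← _root_.mul_one (P (D.u a) (-1 : Γ(X.left, ⊤)) * P (D.u d) x' * P (D.u a) (1 : Γ(X.left, ⊤)))]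
    simp only [_root_.mul_assoc, da, P_merge, neg_add_cancel, P_zero, _root_.one_mul]
    rw [_root_.mul_one]
  have h2 := hF' X (-res X z) x'
  rw [neg_neg] at h2
  rw [hK, htop, h2] at h1
  obtain ⟨-, e0, e1, e2⟩ := coords hp hc hd _ _ _ _ _ _ _ _ h1
  subst e2
  obtain ⟨v₁, hv₁⟩ := hcc X (-(res X t * x))
  obtain ⟨v₀, hv₀⟩ := hdb X (res X s * x)
  have h3 := el_conj_conj hz hx'
  rw [hK, hF', P_zero, _root_.one_mul, _root_.mul_one, ← _root_.mul_assoc, hx', _root_.mul_assoc _ (el D a z X),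
    ← _root_.mul_assoc (el D a z X), hv₁, _root_.mul_assoc _ (el D a z X), hv₀, ← _root_.mul_assoc,
    ← _root_.mul_assoc, mul_left_inj] at h3
  rw [← _root_.mul_one (P (D.u d) (res X s * x) * P (D.u c) v₁ * P (D.u b) v₀)] at h3
  simp only [_root_.mul_assoc, cb, db, dc] at h3
  simp only [_root_.mul_one, _root_.one_mul] at h3
  obtain ⟨f0, f1, -⟩ := coords_bcd hp hc hd _ _ _ _ _ _ h3
  have g1 : v₁ = res X t * x := by rw [f1]; linear_combination e1
  have g0 : v₀ = x := by rw [f0]; linear_combination -e0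
  subst g1 g0
  refine ⟨hx', ?_, hv₀⟩
  have h4 := congrArg (·⁻¹) (mul_inv_eq_iff_eq_mul.2 hv₁)
  simp only [_root_.mul_inv_rev, _root_.inv_inv, ← P_neg, neg_neg, ← _root_.mul_assoc] at h4
  exact mul_inv_eq_iff_eq_mul.1 h4

/-- The conjugation by `el b z`. -/
theorem el_conj_a {t s k z : Γ(S, ⊤)} (hr : Rel D a b c d t s k) (hz : Flip D (el D b z) b z)
    (ha : Maps (el D b z) a c) (hca : Maps (el D b z) c a) :
    ∀ (X : Over S) (x : Γ(X.left, ⊤)), el D b z X * P (D.u a) x = P (D.u c) (res X t * x) * el D b z X ∧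
      el D b z X * P (D.u c) (res X t * x) = P (D.u a) (-x) * el D b z X ∧
      el D b z X * P (D.u d) x = P (D.u d) x * el D b z X := by
  obtain ⟨ba, ca, cb, da, db, dc, -⟩ := hr
  obtain ⟨F, hF⟩ := hp.exists_comm (α := D.P.reflectionPerm b b) (β := c) co_right.neg hc 10 (-1)
    (by norm_num) (by norm_num) ![a, d] ![1, 1] ![1, 2] (fun k => by
      fin_cases k <;> [exact ⟨le_rfl, le_rfl, by simp [Co]⟩; exact ⟨by simp, by simp, by simpa using hd⟩])
    (by decide) (fun p q h1 h2 h => by simp [posList, Fin.exists_fin_two] at h ⊢; omega)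
  have hF' : ∀ (X : Over S) (σ w : Γ(X.left, ⊤)), ∃ j,
      P (D.u (D.P.reflectionPerm b b)) σ * P (D.u c) w * P (D.u (D.P.reflectionPerm b b)) (-σ) =
        P (D.u a) (res X (F 0) * σ * w) * (P (D.u b) 0 * (P (D.u c) w * (P (D.u d) j * 1))) := fun X σ w => by
    have h := hF X σ w
    simp only [prodPts_succ, prodPts_zero, Matrix.cons_val_zero, Matrix.cons_val_one, Fin.succ_zero_eq_one,
      pow_one, ca, P_merge] at h
    simp only [P_zero, _root_.one_mul]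
    exact ⟨_, h⟩
  have hK : ∀ (X : Over S) (x : Γ(X.left, ⊤)),
      P (D.u b) (1 : Γ(X.left, ⊤)) * P (D.u a) x * P (D.u b) (-1 : Γ(X.left, ⊤)) =
        P (D.u a) x * (P (D.u b) 0 * (P (D.u c) (res X t * x) * (P (D.u d) (res X s * x ^ 2) * 1))) := fun X x => by
    rw [← _root_.mul_one (P (D.u b) (1 : Γ(X.left, ⊤)) * P (D.u a) x * P (D.u b) (-1 : Γ(X.left, ⊤)))]
    simp only [_root_.mul_assoc, ba, cb, db, P_merge, add_neg_cancel]
    simp only [_root_.mul_one]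
  have hd' : ∀ (X : Over S) (x : Γ(X.left, ⊤)), el D b z X * P (D.u d) x = P (D.u d) x * el D b z X := fun X x => by
    have h : ∀ (σ : Γ(X.left, ⊤)) (Z : X ⟶ G), P (D.u (D.P.reflectionPerm b b)) σ * (P (D.u d) x * Z) =
        P (D.u d) x * (P (D.u (D.P.reflectionPerm b b)) σ * Z) := fun σ Z =>
      hp.comm co_right.neg hd (by norm_num) (by decide) (by decide) σ x Z
    rw [← _root_.mul_one (el D b z X * P (D.u d) x), ← _root_.mul_one (P (D.u d) x * el D b z X), el]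
    simp only [_root_.mul_assoc, ← db, h]
  intro X x
  obtain ⟨x', hx'⟩ := ha X x
  have h1 := el_conj hx'
  have htop : P (D.u b) (-1 : Γ(X.left, ⊤)) * P (D.u c) x' * P (D.u b) (1 : Γ(X.left, ⊤)) = P (D.u c) x' := by
    rw [← _root_.mul_one (P (D.u b) (-1 : Γ(X.left, ⊤)) * P (D.u c) x' * P (D.u b) (1 : Γ(X.left, ⊤)))]
    simp only [_root_.mul_assoc, cb, P_merge, neg_add_cancel, P_zero, _root_.one_mul]
    rw [_root_.mul_one]
  obtain ⟨j, h2⟩ := hF' X (-res X z) x'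
  rw [neg_neg] at h2
  rw [hK, htop, h2] at h1
  obtain ⟨e0, -, e1, -⟩ := coords hp hc hd _ _ _ _ _ _ _ _ h1
  subst e1
  obtain ⟨v, hv⟩ := hca X (res X t * x)
  refine ⟨hx', ?_, hd' X x⟩
  have h3 := el_conj_conj hz hx'
  obtain ⟨j', h4⟩ := hF' X (res X z) (res X t * x)
  rw [hK, h4, P_zero, _root_.one_mul, _root_.mul_one, ← _root_.mul_assoc, hx', _root_.mul_assoc _ (el D b z X),
    ← _root_.mul_assoc (el D b z X), hv, _root_.mul_assoc _ (el D b z X), hd' X, ← _root_.mul_assoc,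
    ← _root_.mul_assoc, mul_left_inj] at h3
  rw [← _root_.mul_one (P (D.u c) (res X t * x) * P (D.u a) v * P (D.u d) (res X s * x ^ 2))] at h3
  simp only [_root_.mul_assoc, ca, P_merge] at h3
  simp only [_root_.mul_one, _root_.one_mul] at h3
  obtain ⟨f0, -, -⟩ := coords_acd hp hc hd _ _ _ _ _ _ h3
  obtain rfl : v = -x := by rw [f0]; linear_combination e0
  exact hv

end Groth.Agent.H82.R2.B2
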