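import Groth.Agent.H82.R2.ChevComm

/-!
# Pairs of type B₂ when twice the short root may be a root
-/

set_option autoImplicit false
set_option maxHeartbeats 400000
set_option linter.style.haveILetI false
set_option linter.unusedSectionVars false
universe u

open CategoryTheory MonoidalCategory CartesianMonoidalCategory MonObj GrpObj AlgebraicGeometry
open Groth.Agent.Lib.RedPts Groth.Agent.H82.BigCell Groth.Agent.H82.Contract
open Groth.Agent.H82.RankOne (P P_eq P_add P_zero P_neg P_comp)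

namespace Groth.Agent.H82.R2.BC

variable {S : Scheme.{u}} {G : Over S} [GrpObj G] {D : Red.SplitRed G} [D.P.IsCrystallographic]

/-- The pairings of two independent roots. -/
theorem pair_set {x y : D.idx} (hli : LinearIndependent ℤ ![D.P.root x, D.P.root y]) :
    (D.P.pairing x y, D.P.pairing y x) ∈
      ({(0, 0), (1, 1), (-1, -1), (1, 2), (2, 1), (-1, -2), (-2, -1), (1, 3), (3, 1), (-1, -3), (-3, -1)} :
        Set (ℤ × ℤ)) := by
  have h4 := (D.P.linearIndependent_iff_coxeterWeightIn_ne_four ℤ).1 hli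
  have hset := D.P.pairingIn_pairingIn_mem_set_of_isCrystallographic x y
  rw [RootPairing.coxeterWeightIn, pairingIn_eq, pairingIn_eq] at h4
  rw [pairingIn_eq, pairingIn_eq] at hset
  simp only [Set.mem_insert_iff, Set.mem_singleton_iff, Prod.mk.injEq] at hset ⊢
  rcases hset with h | h | h | h | h | h | h | h | h | h | h | h | h | h | h | h | h <;>
    first
      | omega
      | (rw [h.1, h.2] at h4; norm_num at h4)

/-- The positive roots. -/
def L : List (ℤ × ℤ) := [(1, 0), (0, 1), (1, 1), (2, 1), (2, 0), (2, 2)]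

/-- A short root `a`, a root `b` with pairings `(-2, -1)`, and the root `e = 2a`. -/
structure Data (D : Red.SplitRed G) (a b e : D.idx) : Prop where
  pba : D.P.pairing b a = -2
  pab : D.P.pairing a b = -1
  he : D.P.root e = D.P.root a + D.P.root a

variable {a b e : D.idx} (hp : Data D a b e)
include hp

theorem Data.indep {i j : ℤ} (h : i • D.P.root a + j • D.P.root b = 0) : i = 0 ∧ j = 0 := by
  have h1 := congrArg (D.P.coroot' a) h
  have h2 := congrArg (D.P.coroot' b) h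
  simp only [map_add, map_zsmul, map_zero, D.P.root_coroot'_eq_pairing, D.P.pairing_same, hp.pba, hp.pab,
    smul_eq_mul] at h1 h2
  omega

theorem Data.coef_eq {i j i' j' : ℤ}
    (h : i • D.P.root a + j • D.P.root b = i' • D.P.root a + j' • D.P.root b) : i = i' ∧ j = j' := by
  obtain ⟨h1, h2⟩ := hp.indep (i := i - i') (j := j - j') (by
    rw [sub_smul, sub_smul, sub_add_sub_comm, h, sub_self])
  omega

theorem Data.co_inj {c c' : D.idx} {i j : ℤ} (h : Co a b c i j) (h' : Co a b c' i j) : c = c' :=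
  D.P.root.injective (h.trans h'.symm)

theorem Data.pairings {c : D.idx} {i j : ℤ} (hc : Co a b c i j) :
    D.P.pairing c a = 2 * i - 2 * j ∧ D.P.pairing c b = 2 * j - i ∧
      i * D.P.pairing a c + j * D.P.pairing b c = 2 := by
  refine ⟨?_, ?_, ?_⟩
  · have h := congrArg (D.P.coroot' a) hc
    simp only [map_add, map_zsmul, D.P.root_coroot'_eq_pairing, D.P.pairing_same, hp.pba, smul_eq_mul] at h
    linarith
  · have h := congrArg (D.P.coroot' b) hc
    simp only [map_add, map_zsmul, D.P.root_coroot'_eq_pairing, D.P.pairing_same, hp.pab, smul_eq_mul] at h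
    linarith
  · have h := congrArg (D.P.coroot' c) hc
    simp only [map_add, map_zsmul, D.P.root_coroot'_eq_pairing, D.P.pairing_same, smul_eq_mul] at h
    linarith

theorem Data.co_e : Co a b e 2 0 := by
  rw [Co, hp.he]; module

theorem Data.pair : Pair D b e 2 := by
  refine ⟨?_, ?_, fun ⟨x, hx⟩ => ?_, Or.inr (Or.inl rfl), fun ⟨x, hx⟩ => ?_⟩
  · have := (hp.pairings hp.co_e).2.1
    omega
  · have := pairing_nsmul (k := 2) (c := e) (x := a) (by rw [hp.he, two_zsmul]) b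
    rw [hp.pba] at this
    omega
  · have hc : Co a b x 2 (-1) := by rw [Co, hx, hp.he]; module
    have hli : LinearIndependent ℤ ![D.P.root x, D.P.root a] := LinearIndependent.pair_iff.2 fun p q h => by
      rw [hc] at h
      obtain ⟨h1, h2⟩ := hp.indep (i := p * 2 + q) (j := -p) (by rw [← h]; module)
      omega
    have := pair_set hli
    simp only [Set.mem_insert_iff, Set.mem_singleton_iff, Prod.mk.injEq, (hp.pairings hc).1] at this
    omega
  · have := pairing_nsmul (k := 2) (c := x) (x := b) (by rw [hx, two_zsmul]) a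
    rw [hp.pab] at this
    omega

theorem Data.mem {c : D.idx} {i j : ℤ} (hc : Co a b c i j) : (i, j) ∈ L ∨ (-i, -j) ∈ L := by
  rcases Int.even_or_odd' i with ⟨m, rfl | rfl⟩
  · have := hp.pair.mem_posList (c := c) (i := j) (j := m) (by rw [hc, hp.he]; module)
    have key : ∀ p q : ℤ, (p, q) ∈ posList 2 → (2 * q, p) ∈ L := fun p q h => by
      simp [posList] at h
      rcases h with ⟨rfl, rfl⟩ | ⟨rfl, rfl⟩ | ⟨rfl, rfl⟩ | ⟨rfl, rfl⟩ <;> decide
    exact this.imp (key _ _) fun h => by simpa [mul_neg] using key _ _ h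
  obtain ⟨hP, hQ, hsum⟩ := hp.pairings hc
  rcases eq_or_ne j 0 with rfl | hj
  · rw [zero_mul, add_zero] at hsum
    have h2 : (2 * m + 1).natAbs ≤ 2 := Nat.le_of_dvd (by norm_num) (Int.natAbs_dvd_natAbs.2 ⟨_, hsum.symm⟩)
    simp [L]
    omega
  have hliA : LinearIndependent ℤ ![D.P.root c, D.P.root a] := LinearIndependent.pair_iff.2 fun p q h => by
    rw [hc] at h
    obtain ⟨h1, h2⟩ := hp.indep (i := p * (2 * m + 1) + q) (j := p * j) (by rw [← h]; module)
    obtain rfl : p = 0 := (mul_eq_zero.1 h2).resolve_right hj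
    exact ⟨rfl, by simpa using h1⟩
  have hliB : LinearIndependent ℤ ![D.P.root c, D.P.root b] := LinearIndependent.pair_iff.2 fun p q h => by
    rw [hc] at h
    obtain ⟨h1, h2⟩ := hp.indep (i := p * (2 * m + 1)) (j := p * j + q) (by rw [← h]; module)
    obtain rfl : p = 0 := (mul_eq_zero.1 h1).resolve_right (by omega)
    exact ⟨rfl, by simpa using h2⟩
  have hA := pair_set hliA
  have hB := pair_set hliB
  simp only [Set.mem_insert_iff, Set.mem_singleton_iff, Prod.mk.injEq, hP, hQ] at hA hB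
  have h3 : 2 * m + 1 = j ∧ -3 ≤ j ∧ j ≤ 3 := by
    have hbA : D.P.pairing a c = 0 ∧ 2 * m + 1 = j ∨
        (D.P.pairing a c = 1 ∨ D.P.pairing a c = -1) ∧ j % 2 = 0 := by omega
    rcases hbA with ⟨-, hij⟩ | ⟨hA', hj2⟩
    · omega
    · exfalso
      obtain ⟨k, rfl⟩ : ∃ k, j = 2 * k := ⟨j / 2, by omega⟩
      rw [_root_.mul_assoc] at hsum
      generalize k * D.P.pairing b c = t at hsum
      rcases hA' with h | h <;> rw [h] at hsum <;> omega
  obtain ⟨rfl, hb1, hb2⟩ := h3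
  obtain ⟨d, hd⟩ : ∃ d : D.idx, Co a b d 1 1 := ⟨D.P.reflectionPerm b a, by rw [Co, root_refl, hp.pab]; module⟩
  have hk := pairing_nsmul (k := 2 * m + 1) (c := c) (x := d) (by rw [hc, hd]; module) d
  rw [D.P.pairing_same] at hk
  have h2 : (2 * m + 1).natAbs ≤ 2 := Nat.le_of_dvd (by norm_num) (Int.natAbs_dvd_natAbs.2 ⟨_, hk.symm⟩)
  simp [L]
  omega

theorem Data.not_root {i j : ℤ} (h : (i, j) ∉ L) (h' : (-i, -j) ∉ L) :
    i • D.P.root a + j • D.P.root b ∉ Set.range D.P.root := fun ⟨_, hc⟩ => (hp.mem hc).elim h h'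

theorem Data.exists_functional (α β : ℤ) : ∃ l : D.M →+ ℤ, (∀ c, l (D.P.root c) ≠ 0) ∧
    ∀ (c : D.idx) (i j : ℤ), Co a b c i j → 0 < i * α + j * β → 0 < l (D.P.root c) := by
  let φ : D.M →+ ℤ := ((2 * α + β) • D.P.coroot' a + (2 * α + 2 * β) • D.P.coroot' b).toAddMonoidHom
  obtain ⟨l, hl, hpos, -⟩ := R2.exists_functional D φ
  refine ⟨l, hl, fun c i j hc h => hpos c ?_⟩
  have e : φ (D.P.root c) = 2 * (i * α + j * β) := by
    rw [hc]
    simp only [φ, LinearMap.toAddMonoidHom_coe, LinearMap.add_apply, LinearMap.smul_apply, map_add, map_zsmul,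
      D.P.root_coroot'_eq_pairing, D.P.pairing_same, hp.pab, hp.pba, smul_eq_mul]
    ring
  rw [e]; omega

theorem Data.comm {c c' : D.idx} {i j i' j' : ℤ} (h : Co a b c i j) (h' : Co a b c' i' j')
    (h0 : (i + i', j + j') ≠ (0, 0)) (h1 : (i + i', j + j') ∉ L) (h2 : (-(i + i'), -(j + j')) ∉ L)
    {X : Over S} (x y : Γ(X.left, ⊤)) (Z : X ⟶ G) :
    P (D.u c) x * (P (D.u c') y * Z) = P (D.u c') y * (P (D.u c) x * Z) := by
  have e : D.P.root c + D.P.root c' = (i + i') • D.P.root a + (j + j') • D.P.root b := by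
    rw [h, h', add_smul, add_smul]; abel
  have hc := Groth.Agent.S8458.result S G D c c'
    (fun hz => h0 (by obtain ⟨p, q⟩ := hp.indep (e.symm.trans hz); rw [p, q]))
    (e ▸ hp.not_root h1 h2) X (Ga.gaPt x) (Ga.gaPt y)
  simp only [P_eq, Ga.gaFn_gaPt] at hc
  rw [← _root_.mul_assoc, hc, _root_.mul_assoc]

theorem Data.exists_comm {α β : D.idx} {i₁ j₁ i₂ j₂ : ℤ} (hα : Co a b α i₁ j₁) (hβ : Co a b β i₂ j₂) (u v : ℤ)
    (hu : 0 < i₁ * u + j₁ * v) (hv : 0 < i₂ * u + j₂ * v) {m : ℕ} (c : Fin m → D.idx) (i j : Fin m → ℕ)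
    (hij : ∀ k, 1 ≤ i k ∧ 1 ≤ j k ∧
      Co a b (c k) ((i k : ℤ) * i₁ + (j k : ℤ) * i₂) ((i k : ℤ) * j₁ + (j k : ℤ) * j₂))
    (hinj : Function.Injective fun k => ((i k : ℤ) * i₁ + (j k : ℤ) * i₂, (i k : ℤ) * j₁ + (j k : ℤ) * j₂))
    (hall : ∀ p q : ℤ, 1 ≤ p → 1 ≤ q → ((p * i₁ + q * i₂, p * j₁ + q * j₂) ∈ L ∨
      (-(p * i₁ + q * i₂), -(p * j₁ + q * j₂)) ∈ L) → ∃ k, ((i k : ℤ), (j k : ℤ)) = (p, q))
    (hdet : i₁ * j₂ - j₁ * i₂ ≠ 0 := by norm_num) :
    ∃ C : Fin m → Γ(S, ⊤), ∀ (X : Over S) (x y : Γ(X.left, ⊤)),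
      P (D.u α) x * P (D.u β) y * P (D.u α) (-x) =
        P (D.u β) y * prodPts m fun k => P (D.u (c k)) (res X (C k) * x ^ i k * y ^ j k) := by
  obtain ⟨l, hl, hpos⟩ := hp.exists_functional u v
  have key : ∀ p q : ℤ, p • D.P.root α + q • D.P.root β =
      (p * i₁ + q * i₂) • D.P.root a + (p * j₁ + q * j₂) • D.P.root b := fun p q => by
    rw [hα, hβ]; module
  refine R2.exists_comm hl (hpos α _ _ hα hu) (hpos β _ _ hβ hv) c i j
    (fun k k' h => hinj ?_) (LinearIndependent.pair_iff.2 fun p q h => ?_) (fun k => ⟨(hij k).1, (hij k).2.1, (key _ _).symm ▸ (hij k).2.2⟩) ?_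
  · obtain ⟨h1, h2⟩ := hp.coef_eq ((hij k).2.2.symm.trans (h ▸ (hij k').2.2))
    exact Prod.ext h1 h2
  · rw [key] at h
    obtain ⟨h1, h2⟩ := hp.indep h
    exact ⟨(mul_eq_zero.1 (show p * (i₁ * j₂ - j₁ * i₂) = 0 by linear_combination j₂ * h1 - i₂ * h2)).resolve_right hdet,
      (mul_eq_zero.1 (show q * (i₁ * j₂ - j₁ * i₂) = 0 by linear_combination i₁ * h2 - j₁ * h1)).resolve_right hdet⟩
  · intro d p q hp1 hq1 hd
    rw [key] at hd
    obtain ⟨k, hk⟩ := hall p q (by omega) (by omega) (hp.mem hd)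
    obtain ⟨h1, h2⟩ := Prod.mk.injEq .. ▸ hk
    refine ⟨k, hp.co_inj (hij k).2.2 ?_⟩
    rw [h1, h2]
    exact hd

/-- Coordinates in the order `a, b, c, d, e, h`. -/
theorem Data.coords {c d h : D.idx} (hc : Co a b c 1 1) (hd : Co a b d 2 1) (hh : Co a b h 2 2) {X : Over S}
    (p₀ p₁ p₂ p₃ p₄ p₅ q₀ q₁ q₂ q₃ q₄ q₅ : Γ(X.left, ⊤))
    (e' : P (D.u a) p₀ * (P (D.u b) p₁ * (P (D.u c) p₂ * (P (D.u d) p₃ * (P (D.u e) p₄ * (P (D.u h) p₅ * 1))))) =
      P (D.u a) q₀ * (P (D.u b) q₁ * (P (D.u c) q₂ * (P (D.u d) q₃ * (P (D.u e) q₄ * (P (D.u h) q₅ * 1)))))) :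
    p₀ = q₀ ∧ p₁ = q₁ ∧ p₂ = q₂ ∧ p₃ = q₃ ∧ p₄ = q₄ ∧ p₅ = q₅ := by
  obtain ⟨l, -, hl⟩ := hp.exists_functional 1 1
  let i : Fin 6 → ℤ := ![1, 0, 1, 2, 2, 2]
  let j : Fin 6 → ℤ := ![0, 1, 1, 1, 0, 2]
  have hcd : ∀ k, Co a b (![a, b, c, d, e, h] k) (i k) (j k) := fun k => by
    fin_cases k <;> [exact co_left; exact co_right; exact hc; exact hd; exact hp.co_e; exact hh]
  have hinj : Function.Injective fun k => (i k, j k) := by decide
  have := R2.coords_eq (l := l) ![a, b, c, d, e, h] (fun k k' ek => hinj ?_)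
    (fun k => hl _ _ _ (hcd k) (by fin_cases k <;> norm_num [i, j])) ![p₀, p₁, p₂, p₃, p₄, p₅]
    ![q₀, q₁, q₂, q₃, q₄, q₅] (by simpa [prodPts_succ] using e')
  · exact ⟨congrFun this 0, congrFun this 1, congrFun this 2, congrFun this 3, congrFun this 4, congrFun this 5⟩
  · obtain ⟨h1, h2⟩ := hp.coef_eq ((hcd k).symm.trans (ek ▸ hcd k'))
    exact Prod.ext h1 h2

/-- The rules of type B₂ hold, with constants `t`, `s` that are signs. -/
theorem exists_rel (hC : ∀ c, ∃ z, ChevEl D c z) {c d : D.idx} (hc : Co a b c 1 1) (hd : Co a b d 2 1) :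
    ∃ t s k, B2.Rel D a b c d t s k ∧ (t = 1 ∨ t = -1) ∧ (s = 1 ∨ s = -1) := by
  obtain ⟨h, hh⟩ : ∃ h : D.idx, Co a b h 2 2 :=
    ⟨D.P.reflectionPerm b e, by rw [Co, root_refl, (hp.pairings hp.co_e).2.1, hp.he]; module⟩
  obtain ⟨A, hA⟩ := hp.exists_comm (α := a) (β := b) co_left co_right 1 1 (by norm_num) (by norm_num)
    ![c, d, h] ![1, 2, 2] ![1, 1, 2] (fun k => by
      fin_cases k <;> [exact ⟨le_rfl, le_rfl, by simpa using hc⟩; exact ⟨by simp, by simp, by simpa using hd⟩;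
        exact ⟨by simp, by simp, by simpa using hh⟩])
    (by decide) (fun p q h1 h2 h' => by simp [L, Fin.exists_fin_succ] at h' ⊢; omega)
  obtain ⟨B, hB⟩ := hp.exists_comm (α := a) (β := c) co_left hc 1 1 (by norm_num) (by norm_num)
    ![d] ![1] ![1] (fun k => by fin_cases k; exact ⟨le_rfl, le_rfl, by simpa using hd⟩)
    (fun k k' _ => Subsingleton.elim k k') (fun p q h1 h2 h' => ⟨0, by simp [L] at h' ⊢; omega⟩)
  obtain ⟨E, hE⟩ := hp.exists_comm (α := b) (β := d) co_right hd 1 1 (by norm_num) (by norm_num)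
    ![h] ![1] ![1] (fun k => by fin_cases k; exact ⟨le_rfl, le_rfl, by simpa using hh⟩)
    (fun k k' _ => Subsingleton.elim k k') (fun p q h1 h2 h' => ⟨0, by simp [L] at h' ⊢; omega⟩)
  obtain ⟨F, hF⟩ := hp.exists_comm (α := D.P.reflectionPerm b b) (β := c) co_right.neg hc 10 (-1)
    (by norm_num) (by norm_num) ![a, d, e] ![1, 1, 2] ![1, 2, 2] (fun k => by
      fin_cases k <;> [exact ⟨le_rfl, le_rfl, by simp [Co]⟩; exact ⟨by simp, by simp, by simpa using hd⟩;
        exact ⟨by simp, by simp, by simpa using hp.co_e⟩])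
    (by decide) (fun p q h1 h2 h' => by simp [L, Fin.exists_fin_succ] at h' ⊢; omega)
  obtain ⟨F', hF'⟩ := hp.exists_comm (α := D.P.reflectionPerm a a) (β := d) co_left.neg hd (-1) 5
    (by norm_num) (by norm_num) ![c, b, h] ![1, 2, 2] ![1, 1, 2] (fun k => by
      fin_cases k <;> [exact ⟨le_rfl, le_rfl, by simpa using hc⟩; exact ⟨by simp, by simp, by simp [Co]⟩;
        exact ⟨by simp, by simp, by simpa using hh⟩])
    (by decide) (fun p q h1 h2 h' => by simp [L, Fin.exists_fin_succ] at h' ⊢; omega)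
  have cb : ∀ (X : Over S) (x y : Γ(X.left, ⊤)) (Z : X ⟶ G), P (D.u c) x * (P (D.u b) y * Z) =
      P (D.u b) y * (P (D.u c) x * Z) := fun _ => hp.comm hc co_right (by norm_num) (by decide) (by decide)
  have da : ∀ (X : Over S) (x y : Γ(X.left, ⊤)) (Z : X ⟶ G), P (D.u d) x * (P (D.u a) y * Z) =
      P (D.u a) y * (P (D.u d) x * Z) := fun _ => hp.comm hd co_left (by norm_num) (by decide) (by decide)
  have dc : ∀ (X : Over S) (x y : Γ(X.left, ⊤)) (Z : X ⟶ G), P (D.u d) x * (P (D.u c) y * Z) =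
      P (D.u c) y * (P (D.u d) x * Z) := fun _ => hp.comm hd hc (by norm_num) (by decide) (by decide)
  have ha : ∀ (X : Over S) (x y : Γ(X.left, ⊤)) (Z : X ⟶ G), P (D.u h) x * (P (D.u a) y * Z) =
      P (D.u a) y * (P (D.u h) x * Z) := fun _ => hp.comm hh co_left (by norm_num) (by decide) (by decide)
  have hb : ∀ (X : Over S) (x y : Γ(X.left, ⊤)) (Z : X ⟶ G), P (D.u h) x * (P (D.u b) y * Z) =
      P (D.u b) y * (P (D.u h) x * Z) := fun _ => hp.comm hh co_right (by norm_num) (by decide) (by decide)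
  have hc' : ∀ (X : Over S) (x y : Γ(X.left, ⊤)) (Z : X ⟶ G), P (D.u h) x * (P (D.u c) y * Z) =
      P (D.u c) y * (P (D.u h) x * Z) := fun _ => hp.comm hh hc (by norm_num) (by decide) (by decide)
  have hd' : ∀ (X : Over S) (x y : Γ(X.left, ⊤)) (Z : X ⟶ G), P (D.u h) x * (P (D.u d) y * Z) =
      P (D.u d) y * (P (D.u h) x * Z) := fun _ => hp.comm hh hd (by norm_num) (by decide) (by decide)
  obtain ⟨t, ht⟩ : ∃ t, t = -A 0 := ⟨_, rfl⟩
  obtain ⟨s, hs⟩ : ∃ s, s = A 1 := ⟨_, rfl⟩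
  obtain ⟨w, hw⟩ : ∃ w, w = A 2 := ⟨_, rfl⟩
  obtain ⟨k, hk⟩ : ∃ k, k = -B 0 := ⟨_, rfl⟩
  obtain ⟨g, hg⟩ : ∃ g, g = -E 0 := ⟨_, rfl⟩
  have ba : ∀ (X : Over S) (x y : Γ(X.left, ⊤)) (Z : X ⟶ G), P (D.u b) y * (P (D.u a) x * Z) =
      P (D.u a) x * (P (D.u b) y * (P (D.u c) (res X t * (x * y)) * (P (D.u d) (res X s * (x ^ 2 * y)) *
        (P (D.u h) (res X w * (x ^ 2 * y ^ 2)) * Z)))) := fun X x y Z => by
    have e1 := hA X (-x) y
    simp [prodPts_succ] at e1
    rw [P_neg, _root_.mul_assoc, inv_mul_eq_iff_eq_mul] at e1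
    rw [← _root_.mul_assoc, e1, ht, hs, hw, res_neg]
    simp only [_root_.mul_assoc]
    ring_nf
  have ca : ∀ (X : Over S) (x y : Γ(X.left, ⊤)) (Z : X ⟶ G), P (D.u c) y * (P (D.u a) x * Z) =
      P (D.u a) x * (P (D.u c) y * (P (D.u d) (res X k * (x * y)) * Z)) := fun X x y Z => by
    have e1 := hB X (-x) y
    simp [prodPts_succ] at e1
    rw [P_neg, _root_.mul_assoc, inv_mul_eq_iff_eq_mul] at e1
    rw [← _root_.mul_assoc, e1, hk, res_neg]
    simp only [_root_.mul_assoc]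
    ring_nf
  have db : ∀ (X : Over S) (x y : Γ(X.left, ⊤)) (Z : X ⟶ G), P (D.u d) y * (P (D.u b) x * Z) =
      P (D.u b) x * (P (D.u d) y * (P (D.u h) (res X g * (x * y)) * Z)) := fun X x y Z => by
    have e1 := hE X (-x) y
    simp [prodPts_succ] at e1
    rw [P_neg, _root_.mul_assoc, inv_mul_eq_iff_eq_mul] at e1
    rw [← _root_.mul_assoc, e1, hg, res_neg]
    simp only [_root_.mul_assoc]
    ring_nf
  let X := 𝟙_ (Over S)
  have hwg : 2 * w = g * s := by
    have e1 : P (D.u b) ((1 : Γ(X.left, ⊤)) + 1) * (P (D.u a) 1 * 1) =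
        P (D.u b) (1 : Γ(X.left, ⊤)) * (P (D.u b) 1 * (P (D.u a) 1 * 1)) := by rw [P_merge (D := D) b]
    rw [ba, ba] at e1
    simp only [ba, ca, db, cb, da, dc, ha, hb, hc', hd', P_merge] at e1
    obtain ⟨-, -, -, -, -, e2⟩ := hp.coords hc hd hh _ _ _ _ 0 _ _ _ _ _ 0 _
      (by simpa only [P_zero, _root_.one_mul] using e1)
    simp only [X, res_unit] at e2
    linear_combination e2
  have htk : res X t * res X k = 2 * res X s := by
    have e1 : P (D.u b) (1 : Γ(X.left, ⊤)) * (P (D.u a) (1 + 1) * 1) =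
        P (D.u b) (1 : Γ(X.left, ⊤)) * (P (D.u a) 1 * (P (D.u a) 1 * 1)) := by rw [P_merge]
    rw [ba, ba] at e1
    simp only [ba, ca, db, cb, da, dc, ha, hb, hc', hd', P_merge] at e1
    obtain ⟨-, -, -, e2, -⟩ := hp.coords hc hd hh _ _ _ _ 0 _ _ _ _ _ 0 _
      (by simpa only [P_zero, _root_.one_mul] using e1)
    linear_combination -e2
  -- conjugation by `el b`
  obtain ⟨z, hz⟩ := hC b
  have bac : D.P.reflectionPerm b a = c := hp.co_inj (by rw [Co, root_refl, hp.pab]; module) hc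
  obtain ⟨x', hx'⟩ := hz.maps bac X 1
  have h1 := el_conj hx'
  have htop : P (D.u b) (-1 : Γ(X.left, ⊤)) * P (D.u c) x' * P (D.u b) (1 : Γ(X.left, ⊤)) = P (D.u c) x' := by
    rw [← _root_.mul_one (P (D.u b) (-1 : Γ(X.left, ⊤)) * P (D.u c) x' * P (D.u b) (1 : Γ(X.left, ⊤)))]
    simp only [_root_.mul_assoc, cb, P_merge, neg_add_cancel, P_zero, _root_.one_mul]
    rw [_root_.mul_one]
  have h2 := hF X (-res X z) x'
  rw [neg_neg] at h2
  simp only [prodPts_succ, prodPts_zero, Matrix.cons_val_zero, Matrix.cons_val_one, Fin.succ_zero_eq_one,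
    Matrix.cons_val_succ] at h2
  rw [htop, h2] at h1
  rw [← _root_.mul_one (P (D.u b) (1 : Γ(X.left, ⊤)) * P (D.u a) 1 * P (D.u b) (-1 : Γ(X.left, ⊤)))] at h1
  simp only [_root_.mul_assoc, ba, db, cb, hb, hc', hd', ca, P_merge] at h1
  obtain ⟨-, -, e3, -, -, e4⟩ := hp.coords hc hd hh _ _ _ _ 0 _ _ 0 _ _ _ 0
    (by simpa only [P_zero, _root_.one_mul] using h1)
  simp only [X, res_unit] at e3 e4
  have hts : t = 1 ∨ t = -1 := hz.sign bac (Or.inl rfl) (by
    simp only [X] at hx'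
    rw [res_one, hx', ← e3]; simp [res_unit])
  have hw0 : w = 0 := by linear_combination -e4 + hwg
  -- conjugation by `el a`
  obtain ⟨z', hz'⟩ := hC a
  have abd : D.P.reflectionPerm a b = d := hp.co_inj (by rw [Co, root_refl, hp.pba]; module) hd
  obtain ⟨y', hy'⟩ := hz'.maps abd X 1
  have k1 := el_conj hy'
  have ktop : P (D.u a) (-1 : Γ(X.left, ⊤)) * P (D.u d) y' * P (D.u a) (1 : Γ(X.left, ⊤)) = P (D.u d) y' := by
    rw [← _root_.mul_one (P (D.u a) (-1 : Γ(X.left, ⊤)) * P (D.u d) y' * P (D.u a) (1 : Γ(X.left, ⊤)))]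
    simp only [_root_.mul_assoc, da, P_merge, neg_add_cancel, P_zero, _root_.one_mul]
    rw [_root_.mul_one]
  have k2 := hF' X (-res X z') y'
  rw [neg_neg] at k2
  simp only [prodPts_succ, prodPts_zero, Matrix.cons_val_zero, Matrix.cons_val_one, Fin.succ_zero_eq_one,
    Matrix.cons_val_succ] at k2
  rw [ktop, k2] at k1
  rw [← _root_.mul_one (P (D.u a) (1 : Γ(X.left, ⊤)) * P (D.u b) 1 * P (D.u a) (-1 : Γ(X.left, ⊤)))] at k1
  simp only [_root_.mul_assoc, ba, db, dc, cb, hb, hc', hd', P_merge] at k1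
  obtain ⟨-, -, -, e5, -, -⟩ := hp.coords hc hd hh _ _ _ _ 0 _ 0 _ _ _ 0 _
    (by simpa only [P_zero, _root_.one_mul] using k1)
  simp only [X, res_unit] at e5
  have hss : s = 1 ∨ s = -1 := hz'.sign abd (Or.inl rfl) (by
    simp only [X] at hy'
    rw [res_one, hy', ← e5]; simp [res_unit])
  have hg0 : g = 0 := by linear_combination (-s) * hwg + 2 * s * hw0 - g * sign_sq hss
  refine ⟨t, s, k, ⟨?_, ca, cb, da, ?_, dc, htk⟩, hts, hss⟩
  · intro X x y Z
    rw [ba, hw0, show res X (0 : Γ(S, ⊤)) = 0 from map_zero _, MulZeroClass.zero_mul, P_zero, _root_.one_mul]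
  · intro X x y Z
    rw [db, hg0, show res X (0 : Γ(S, ⊤)) = 0 from map_zero _, MulZeroClass.zero_mul, P_zero, _root_.one_mul]

end Groth.Agent.H82.R2.BC
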