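import Groth.Agent.H82.R2.Pinned

/-!
# The braid identity from the rule of a dual pair
-/

set_option autoImplicit false
set_option linter.style.haveILetI false
set_option linter.unusedSectionVars false
universe u

open CategoryTheory MonoidalCategory CartesianMonoidalCategory MonObj GrpObj AlgebraicGeometry
open Groth.Agent.Lib.RedPts Groth.Agent.H82.BigCell Groth.Agent.H82.Contract
open Groth.Agent.H82.RankOne (P P_eq P_add P_zero P_neg P_comp)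

namespace Groth.Agent.H82.R2

variable {S : Scheme.{u}} {G : Over S} [GrpObj G]

/-- `pp(1) pm(-1) pp(1) = pm(-1) pp(1) pm(-1)`, given only the commutation rule of `pp` and `pm` and the
action of `H` on `pp`. -/
theorem braid (pp pm : Red.Ga S ⟶ G) [IsMonHom pp] [IsMonHom pm]
    (H : ∀ {X : Over S}, Γ(X.left, ⊤)ˣ → (X ⟶ G))
    (hmul : ∀ {X : Over S} (u v : Γ(X.left, ⊤)ˣ), H (u * v) = H u * H v)
    (hP : ∀ {X : Over S} (u : Γ(X.left, ⊤)ˣ) (x : Γ(X.left, ⊤)),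
      H u * P pp x = P pp ((u : Γ(X.left, ⊤)) * (u : Γ(X.left, ⊤)) * x) * H u)
    (rule : ∀ {X : Over S} (a b : Γ(X.left, ⊤)) (u : Γ(X.left, ⊤)ˣ), (u : Γ(X.left, ⊤)) = 1 + a * b →
      P pp a * P pm b = P pm (b * (↑u⁻¹ : Γ(X.left, ⊤))) * H u * P pp (a * (↑u⁻¹ : Γ(X.left, ⊤))))
    (X : Over S) : P pp (1 : Γ(X.left, ⊤)) * P pm (-1 : Γ(X.left, ⊤)) * P pp 1 =
      P pm (-1 : Γ(X.left, ⊤)) * P pp 1 * P pm (-1) := by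
  obtain ⟨X', c, hc, r, s, hrs⟩ := RankOne.exists_cover X
  refine RankOne.eq_of_epi hc ?_
  simp only [MonObj.comp_mul, P_comp, map_one, map_neg]
  clear hc c
  have hone : H (1 : Γ(X'.left, ⊤)ˣ) = 1 := by
    have h := hmul (X := X') 1 1
    rw [_root_.mul_one] at h
    exact left_eq_mul.1 h
  have hinv : ∀ u : Γ(X'.left, ⊤)ˣ, H u⁻¹ = (H u)⁻¹ := fun u => by
    rw [eq_inv_iff_mul_eq_one, ← hmul, inv_mul_cancel, hone]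
  -- the action of `H` on units in `pm`
  have hM : ∀ u β : Γ(X'.left, ⊤)ˣ, H u * P pm (β : Γ(X'.left, ⊤)) = P pm ((↑u⁻¹ : Γ(X'.left, ⊤)) * (↑u⁻¹ : Γ(X'.left, ⊤)) * (β : Γ(X'.left, ⊤))) * H u := fun u β => by
    have h1 := rule (((u : Γ(X'.left, ⊤)) - 1) * (↑β⁻¹ : Γ(X'.left, ⊤))) (β : Γ(X'.left, ⊤)) u
      (by linear_combination (1 - (u : Γ(X'.left, ⊤))) * β.mul_inv)
    have h2 := rule ((((u : Γ(X'.left, ⊤)) - 1) * (↑β⁻¹ : Γ(X'.left, ⊤))) * (↑u⁻¹ : Γ(X'.left, ⊤))) ((β : Γ(X'.left, ⊤)) * (u : Γ(X'.left, ⊤))) u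
      (by linear_combination (1 - (u : Γ(X'.left, ⊤))) * β.mul_inv + (1 - (u : Γ(X'.left, ⊤))) * (↑β⁻¹ : Γ(X'.left, ⊤)) * β * u.mul_inv)
    have h3 := rule (((u : Γ(X'.left, ⊤)) - 1) * (↑β⁻¹ : Γ(X'.left, ⊤))) ((β : Γ(X'.left, ⊤)) + (β : Γ(X'.left, ⊤)) * (u : Γ(X'.left, ⊤))) (u * u)
      (by rw [Units.val_mul]; linear_combination (1 - (u : Γ(X'.left, ⊤))) * (1 + (u : Γ(X'.left, ⊤))) * β.mul_inv)
    rw [P_add pm (β : Γ(X'.left, ⊤)) (β * u), ← _root_.mul_assoc, h1, _root_.mul_assoc _ (P pp _) (P pm _), h2, hmul,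
      show ((u : Γ(X'.left, ⊤)) - 1) * (↑β⁻¹ : Γ(X'.left, ⊤)) * (↑(u * u)⁻¹ : Γ(X'.left, ⊤)) = ((u : Γ(X'.left, ⊤)) - 1) * (↑β⁻¹ : Γ(X'.left, ⊤)) * (↑u⁻¹ : Γ(X'.left, ⊤)) * (↑u⁻¹ : Γ(X'.left, ⊤)) by
        rw [_root_.mul_inv, Units.val_mul, _root_.mul_assoc (_ * (↑β⁻¹ : Γ(X'.left, ⊤)))],
      ← _root_.mul_assoc, mul_left_inj, ← _root_.mul_assoc _ (P pm _) (H u), ← _root_.mul_assoc _ (H u) (H u),
      mul_left_inj, show (β : Γ(X'.left, ⊤)) * u * (↑u⁻¹ : Γ(X'.left, ⊤)) = β by rw [_root_.mul_assoc, u.mul_inv, _root_.mul_one]] at h3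
    rw [_root_.mul_assoc, ← eq_inv_mul_iff_mul_eq, ← _root_.mul_assoc, ← P_neg, ← P_add] at h3
    rw [h3]
    congr 2
    rw [_root_.mul_inv, Units.val_mul]
    linear_combination (β : Γ(X'.left, ⊤)) * (↑u⁻¹ : Γ(X'.left, ⊤)) * u.mul_inv
  have hY : ∀ k : Γ(X'.left, ⊤)ˣ, P pm (-(k : Γ(X'.left, ⊤))) * P pp (↑k⁻¹ : Γ(X'.left, ⊤)) * P pm (-(k : Γ(X'.left, ⊤))) =
      P pm (-1) * P pp 1 * P pm (-1) * H k := fun k => by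
    have h1 := rule (-1 : Γ(X'.left, ⊤)) (1 - (k : Γ(X'.left, ⊤))) k (by ring)
    have h2 : P pm (1 : Γ(X'.left, ⊤)) * P pp (-1) * P pm 1 * (P pm (-(k : Γ(X'.left, ⊤))) * P pp (↑k⁻¹ : Γ(X'.left, ⊤)) * P pm (-(k : Γ(X'.left, ⊤)))) = H k := by
      calc P pm (1 : Γ(X'.left, ⊤)) * P pp (-1) * P pm 1 * (P pm (-(k : Γ(X'.left, ⊤))) * P pp (↑k⁻¹ : Γ(X'.left, ⊤)) * P pm (-(k : Γ(X'.left, ⊤))))
          = P pm (1 : Γ(X'.left, ⊤)) * (P pp (-1) * P pm (1 - (k : Γ(X'.left, ⊤)))) * (P pp (↑k⁻¹ : Γ(X'.left, ⊤)) * P pm (-(k : Γ(X'.left, ⊤)))) := by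
            rw [sub_eq_add_neg, P_add pm]; simp only [_root_.mul_assoc]
        _ = P pm ((1 : Γ(X'.left, ⊤)) + (1 - (k : Γ(X'.left, ⊤))) * (↑k⁻¹ : Γ(X'.left, ⊤))) * (H k * P pm (-(k : Γ(X'.left, ⊤)))) := by
            rw [h1, P_add pm]
            simp only [neg_mul, _root_.one_mul, P_neg pp, _root_.mul_assoc, inv_mul_cancel_left]
        _ = H k := by
            rw [show -(k : Γ(X'.left, ⊤)) = ((-k : Γ(X'.left, ⊤)ˣ) : Γ(X'.left, ⊤)) from (Units.val_neg k).symm, hM, ← _root_.mul_assoc, ← P_add,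
              Units.val_neg,
              show (1 : Γ(X'.left, ⊤)) + (1 - (k : Γ(X'.left, ⊤))) * (↑k⁻¹ : Γ(X'.left, ⊤)) + (↑k⁻¹ : Γ(X'.left, ⊤)) * (↑k⁻¹ : Γ(X'.left, ⊤)) * -(k : Γ(X'.left, ⊤)) = 0 by
                linear_combination (-(1 : Γ(X'.left, ⊤)) - (↑k⁻¹ : Γ(X'.left, ⊤))) * k.mul_inv, P_zero, _root_.one_mul]
    rw [← h2]
    simp only [P_neg]
    group
  have h1 := rule (1 : Γ(X'.left, ⊤)) (-(s : Γ(X'.left, ⊤))) r (by linear_combination hrs)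
  have h2 := rule (-1 : Γ(X'.left, ⊤)) (r : Γ(X'.left, ⊤)) s (by linear_combination hrs)
  rw [_root_.one_mul] at h1
  have h2' : P pm (-(r : Γ(X'.left, ⊤))) * P pp 1 = P pp (↑s⁻¹ : Γ(X'.left, ⊤)) * (H s)⁻¹ * P pm (-((r : Γ(X'.left, ⊤)) * (↑s⁻¹ : Γ(X'.left, ⊤)))) := by
    have := congrArg (·⁻¹) h2
    simp only [_root_.mul_inv_rev, neg_mul, _root_.one_mul, P_neg, _root_.inv_inv, ← _root_.mul_assoc] at this ⊢
    exact this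
  have hk := hY (s * r⁻¹)
  have hHP : H (r * s⁻¹) * P pm (-((r : Γ(X'.left, ⊤)) * (↑s⁻¹ : Γ(X'.left, ⊤)))) =
      P pm (-((s * r⁻¹ : Γ(X'.left, ⊤)ˣ) : Γ(X'.left, ⊤))) * H (r * s⁻¹) := by
    have := hM (r * s⁻¹) (-(r * s⁻¹))
    rw [Units.val_neg, Units.val_mul] at this
    rw [this]
    simp only [_root_.mul_inv_rev, _root_.inv_inv, Units.val_mul]
    congr 2
    linear_combination (-(s : Γ(X'.left, ⊤)) * (↑r⁻¹ : Γ(X'.left, ⊤)) * s * (↑s⁻¹ : Γ(X'.left, ⊤))) * r.mul_inv -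
      ((s : Γ(X'.left, ⊤)) * (↑r⁻¹ : Γ(X'.left, ⊤))) * s.mul_inv
  calc P pp (1 : Γ(X'.left, ⊤)) * P pm (-1) * P pp 1
      = (P pp (1 : Γ(X'.left, ⊤)) * P pm (-(s : Γ(X'.left, ⊤)))) * (P pm (-(r : Γ(X'.left, ⊤))) * P pp 1) := by
        rw [_root_.mul_assoc (P pp _) (P pm _) (P pm _ * _), ← _root_.mul_assoc (P pm _) (P pm _), ← P_add pm,
          show -(s : Γ(X'.left, ⊤)) + -(r : Γ(X'.left, ⊤)) = -1 by linear_combination -hrs, _root_.mul_assoc]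
    _ = P pm (-(s : Γ(X'.left, ⊤)) * (↑r⁻¹ : Γ(X'.left, ⊤))) * (H r * P pp ((↑r⁻¹ : Γ(X'.left, ⊤)) + (↑s⁻¹ : Γ(X'.left, ⊤))) * (H s)⁻¹) *
          P pm (-((r : Γ(X'.left, ⊤)) * (↑s⁻¹ : Γ(X'.left, ⊤)))) := by
        rw [h1, h2', P_add]; simp only [_root_.mul_assoc]
    _ = P pm (-((s * r⁻¹ : Γ(X'.left, ⊤)ˣ) : Γ(X'.left, ⊤))) * P pp ((r : Γ(X'.left, ⊤)) * (↑s⁻¹ : Γ(X'.left, ⊤))) *
          (H (r * s⁻¹) * P pm (-((r : Γ(X'.left, ⊤)) * (↑s⁻¹ : Γ(X'.left, ⊤))))) := by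
        rw [hP, hmul, hinv, Units.val_mul, show (r : Γ(X'.left, ⊤)) * r * ((↑r⁻¹ : Γ(X'.left, ⊤)) + (↑s⁻¹ : Γ(X'.left, ⊤))) = r * (↑s⁻¹ : Γ(X'.left, ⊤)) by
          linear_combination (r : Γ(X'.left, ⊤)) * (↑s⁻¹ : Γ(X'.left, ⊤)) * hrs + (r : Γ(X'.left, ⊤)) * r.mul_inv - (r : Γ(X'.left, ⊤)) * s.mul_inv, neg_mul]
        simp only [_root_.mul_assoc]
    _ = P pm (-((s * r⁻¹ : Γ(X'.left, ⊤)ˣ) : Γ(X'.left, ⊤))) * P pp (↑(s * r⁻¹)⁻¹ : Γ(X'.left, ⊤)) * P pm (-((s * r⁻¹ : Γ(X'.left, ⊤)ˣ) : Γ(X'.left, ⊤))) * H (r * s⁻¹) := by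
        rw [hHP, _root_.mul_inv_rev, _root_.inv_inv, Units.val_mul]; simp only [_root_.mul_assoc]
        rfl
    _ = P pm (-1 : Γ(X'.left, ⊤)) * P pp 1 * P pm (-1) := by
        rw [hk, _root_.mul_assoc _ (H _) (H _), ← hmul, show s * r⁻¹ * (r * s⁻¹) = 1 by group, hone, _root_.mul_one]

end Groth.Agent.H82.R2
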