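import Groth.Agent.H82.R2.Coxeter
import Groth.Agent.H82.R2.BC

/-!
# Transported normalisations of the root groups are unique up to sign
-/

set_option autoImplicit false
set_option maxHeartbeats 1000000
set_option linter.style.haveILetI false
set_option linter.unusedSectionVars false
universe u

open CategoryTheory MonoidalCategory CartesianMonoidalCategory MonObj GrpObj AlgebraicGeometry
open Groth.Agent.Lib.RedPts Groth.Agent.H82.BigCell Groth.Agent.H82.Contract
open Groth.Agent.H82.RankOne (P P_eq P_add P_zero P_neg P_comp gmPt_comp Sys)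

namespace Groth.Agent.H82.R2

/-- Equality up to sign. -/
def Sg {R : Type*} [CommRing R] (x y : R) : Prop := x = y ∨ x = -y

namespace Sg

variable {R : Type*} [CommRing R] {x y z x' y' : R}

theorem refl (x : R) : Sg x x := Or.inl rfl

theorem symm (h : Sg x y) : Sg y x := by
  rcases h with rfl | rfl
  exacts [Or.inl rfl, Or.inr (neg_neg y).symm]

theorem trans (h : Sg x y) (h' : Sg y z) : Sg x z := by
  rcases h with rfl | rfl <;> rcases h' with rfl | rfl <;> simp [Sg]

theorem mul (h : Sg x y) (h' : Sg x' y') : Sg (x * x') (y * y') := by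
  rcases h with rfl | rfl <;> rcases h' with rfl | rfl <;> simp [Sg]

theorem isUnit (h : Sg x y) (hy : IsUnit y) : IsUnit x := by
  rcases h with rfl | rfl
  exacts [hy, hy.neg]

theorem cancel (hz : IsUnit z) (h : Sg (x * z) (y * z)) : Sg x y := by
  rcases h with h | h
  · exact Or.inl (hz.mul_left_inj.1 h)
  · exact Or.inr (hz.mul_left_inj.1 (by rw [h, neg_mul]))

theorem neg_one : Sg (-1 : R) 1 := Or.inr rfl

end Sg

variable {S : Scheme.{u}} {G : Over S} [GrpObj G] (D : Red.SplitRed G)

/-- The element of a simple root. -/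
noncomputable def w (a : D.idx) : 𝟙_ (Over S) ⟶ G := el D a (-1) (𝟙_ (Over S))

/-- The element of a word. -/
noncomputable def wL (L : List D.idx) : 𝟙_ (Over S) ⟶ G := (L.map (w D)).prod

/-- `g` carries `u_c(x)` to `u_{c'}(ν x)`. -/
def Cj (g : 𝟙_ (Over S) ⟶ G) (c c' : D.idx) (ν : Γ(S, ⊤)) : Prop :=
  ∀ (X : Over S) (x : Γ(X.left, ⊤)),
    (toUnit X ≫ g) * P (D.u c) x = P (D.u c') (res X ν * x) * (toUnit X ≫ g)

/-- The normalisations obtained by descending to a simple root. -/
inductive Chain (bs : D.P.Base) : D.idx → Γ(S, ⊤) → Prop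
  | simple {a : D.idx} : a ∈ bs.support → Chain bs a 1
  | step {c s : D.idx} {ν mu : Γ(S, ⊤)} : s ∈ bs.support → c ≠ s → 0 < D.P.pairing c s →
      Cj D (w D s) (D.P.reflectionPerm s c) c ν → Chain bs (D.P.reflectionPerm s c) mu → Chain bs c (ν * mu)

/-- All pairings along a word are positive. -/
def Desc : D.idx → List D.idx → Prop
  | _, [] => True
  | c, s :: L => 0 < D.P.pairing c s ∧ Desc (D.P.reflectionPerm s c) L

/-- The end of a descent. -/
def fin : D.idx → List D.idx → D.idx
  | c, [] => c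
  | c, s :: L => fin (D.P.reflectionPerm s c) L

/-- `c` is outside of the span of `s` and `t`. -/
def Off (s t c : D.idx) : Prop := ∀ i j : ℤ, D.P.root c ≠ i • D.P.root s + j • D.P.root t

variable {D}

theorem toUnit_w (X : Over S) (a : D.idx) : toUnit X ≫ w D a = el D a (-1) X := el_comp a (-1) _

theorem wL_cons (a : D.idx) (L : List D.idx) : wL D (a :: L) = w D a * wL D L := by simp [wL]

theorem wL_nil : wL D ([] : List D.idx) = 1 := by simp [wL]

theorem refl_refl (s c : D.idx) : D.P.reflectionPerm s (D.P.reflectionPerm s c) = c :=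
  D.P.root.injective (by rw [D.P.root_reflectionPerm, D.P.root_reflectionPerm, D.P.reflection_same])

theorem pr (s c t : D.idx) :
    D.P.pairing (D.P.reflectionPerm s c) t = D.P.pairing c t - D.P.pairing c s * D.P.pairing s t := by
  have h := congrArg (D.P.coroot' t) (root_refl D s c)
  simpa only [map_sub, map_zsmul, D.P.root_coroot'_eq_pairing, smul_eq_mul] using h

namespace Cj

variable {g h : 𝟙_ (Over S) ⟶ G} {c c' c'' : D.idx} {mu ν : Γ(S, ⊤)}

theorem one (c : D.idx) : Cj D 1 c c 1 := fun X x => by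
  rw [MonObj.comp_one, res_one, _root_.one_mul, _root_.one_mul, _root_.mul_one]

theorem mul (hg : Cj D g c' c'' mu) (hh : Cj D h c c' ν) : Cj D (g * h) c c'' (mu * ν) := fun X x => by
  rw [MonObj.comp_mul, _root_.mul_assoc, hh X x, ← _root_.mul_assoc, hg X, _root_.mul_assoc,
    res, res, res, map_mul, _root_.mul_assoc (_ : Γ(X.left, ⊤))]

theorem unique (h₁ : Cj D g c c' mu) (h₂ : Cj D g c c' ν) : mu = ν := by
  have e := (h₁ (𝟙_ (Over S)) 1).symm.trans (h₂ (𝟙_ (Over S)) 1)
  simpa [res_unit] using P_inj (mul_right_cancel e)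

end Cj

/-- The action of the square of an element. -/
theorem cj_sq {s : D.idx} (hd : Weyl.Dual D s) (c : D.idx) :
    ∃ σ : Γ(S, ⊤), (σ = 1 ∨ σ = -1) ∧ Cj D (w D s * w D s) c c σ := by
  refine ⟨(((-1 : Γ(S, ⊤)ˣ) ^ D.P.pairing c s : Γ(S, ⊤)ˣ) : Γ(S, ⊤)), ?_, fun X x => ?_⟩
  · rcases Int.even_or_odd (D.P.pairing c s) with h | h
    · exact Or.inl (by simp [h.neg_one_zpow])
    · exact Or.inr (by simp [h.neg_one_zpow])
  · have h1 := isRootPts D c (toUnit X ≫ Gm.gmPt (-1 : Γ((𝟙_ (Over S)).left, ⊤)ˣ) ≫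
      cochar D (D.P.coroot s).toAddMonoidHom) x
    rw [w, el_sq hd, Hm, Sys.H]
    simp only [Category.assoc] at h1 ⊢
    refine h1.trans ?_
    congr 2
    rw [← Category.assoc (toUnit X), gmPt_comp, ← Category.assoc, gmFn_cochar]
    have hp : (D.P.coroot s).toAddMonoidHom (D.P.root c) = D.P.pairing c s := by
      have := D.P.root_coroot_eq_pairing c s
      rw [D.pairing_eq] at this
      exact this
    rw [hp, show Units.map (toUnit X).left.appTop.hom.toMonoidHom (-1) = Units.map X.hom.appTop.hom.toMonoidHom (-1) by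
      ext; simp, ← map_zpow]
    rfl

/-- Orthogonal simple roots. -/
theorem orth {bs : D.P.Base} {s t : D.idx} [D.P.IsCrystallographic] [D.P.IsReduced] (hs : s ∈ bs.support)
    (ht : t ∈ bs.support) (hne : s ≠ t) (hst : D.P.pairing s t = 0) :
    Cj D (w D t) s s 1 ∧ (Weyl.Dual D t → w D t * w D s = w D s * w D t) := by
  have hts : D.P.pairing t s = 0 := (D.P.pairing_eq_zero_iff').1 hst
  have hneg : ∀ c, D.P.root (D.P.reflectionPerm c c) = -D.P.root c := root_neg D
  have hsub : D.P.root s - D.P.root t ∉ Set.range D.P.root := bs.sub_notMem_range_root hs ht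
  have hsub' : D.P.root t - D.P.root s ∉ Set.range D.P.root := bs.sub_notMem_range_root ht hs
  have hsum : D.P.root s + D.P.root t ∉ Set.range D.P.root := fun ⟨e, he⟩ =>
    hsub ⟨D.P.reflectionPerm t e, by rw [D.P.root_reflectionPerm, he, map_add, D.P.reflection_apply_self,
      D.P.reflection_apply, D.P.root_coroot'_eq_pairing, hst, zero_smul, sub_zero]; abel⟩
  have hsum' : -(D.P.root s + D.P.root t) ∉ Set.range D.P.root := fun ⟨e, he⟩ =>
    hsum ⟨D.P.reflectionPerm e e, by rw [hneg, he, neg_neg]⟩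
  have ne0 : D.P.root s + D.P.root t ≠ 0 ∧ D.P.root s - D.P.root t ≠ 0 := by
    refine ⟨fun h => ?_, fun h => ?_⟩ <;> have := congrArg (D.P.coroot' t) h <;>
      simp [D.P.root_coroot'_eq_pairing, hst] at this
  have key : ∀ q q' : D.idx, D.P.root q + D.P.root q' ≠ 0 → D.P.root q + D.P.root q' ∉ Set.range D.P.root →
      ∀ (X : Over S) (x y : Γ(X.left, ⊤)), Commute (P (D.u q) x) (P (D.u q') y) := fun q q' h0 h1 X x y => by
    have hc := Groth.Agent.S8458.result S G D q q' h0 h1 X (Ga.gaPt x) (Ga.gaPt y)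
    simp only [P_eq, Ga.gaFn_gaPt] at hc
    exact hc
  have k1 := key s t ne0.1 hsum
  have k2 := key s (D.P.reflectionPerm t t) (by rw [hneg, ← sub_eq_add_neg]; exact ne0.2)
    (by rw [hneg, ← sub_eq_add_neg]; exact hsub)
  have k3 := key (D.P.reflectionPerm s s) t (by rw [hneg, ← neg_ne_zero, neg_add, neg_neg, ← sub_eq_add_neg]; exact ne0.2)
    (by rw [hneg, neg_add_eq_sub]; exact hsub')
  have k4 := key (D.P.reflectionPerm s s) (D.P.reflectionPerm t t) (by rw [hneg, hneg, ← neg_add, neg_ne_zero]; exact ne0.1)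
    (by rw [hneg, hneg, ← neg_add]; exact hsum')
  have cs : ∀ (X : Over S) (x : Γ(X.left, ⊤)), Commute (el D t (-1) X) (P (D.u s) x) := fun X x =>
    (((k1 X x _).mul_right (k2 X x _)).mul_right (k1 X x _)).symm
  refine ⟨fun X x => ?_, fun _ => ?_⟩
  · rw [toUnit_w, res_one, _root_.one_mul]; exact cs X x
  · have cns : Commute (el D t (-1) (𝟙_ (Over S))) (P (D.u (D.P.reflectionPerm s s)) (res (𝟙_ (Over S)) (-1))) :=
      (((k3 _ _ _).mul_right (k4 _ _ _)).mul_right (k3 _ _ _)).symm
    exact (((cs _ 1).mul_right cns).mul_right (cs _ 1)).eq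

variable [D.P.IsCrystallographic] [D.P.IsReduced] {bs : D.P.Base}
variable (hd : ∀ a ∈ bs.support, Weyl.Dual D a)

theorem pairing_nonpos {s t : D.idx} (hs : s ∈ bs.support) (ht : t ∈ bs.support) (hne : s ≠ t) :
    D.P.pairing s t ≤ 0 := by
  haveI : IsAddTorsionFree D.M := .of_isTorsionFree ℤ D.M
  rw [← pairingIn_eq]
  exact bs.pairingIn_le_zero_of_ne hne hs ht

theorem simple_cases {s t : D.idx} (hs : s ∈ bs.support) (ht : t ∈ bs.support) (hne : s ≠ t) :
    (D.P.pairing s t = 0 ∧ D.P.pairing t s = 0) ∨ ∃ n, Pair D s t n ∨ Pair D t s n := by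
  have h1 := pairing_nonpos hs ht hne
  have h2 := pairing_nonpos ht hs hne.symm
  have hli : LinearIndependent ℤ ![D.P.root s, D.P.root t] :=
    RootPairing.IsReduced.linearIndependent D.P hne fun h => bs.root_ne_neg_of_ne hs ht hne h
  have h := BC.pair_set hli
  simp only [Set.mem_insert_iff, Set.mem_singleton_iff, Prod.mk.injEq] at h
  rcases h with h | h | h | h | h | h | h | h | h | h | h <;>
    first
    | omega
    | exact Or.inl h
    | exact Or.inr ⟨1, Or.inl (pair_of_base bs hs ht (Or.inl rfl) h.2 h.1)⟩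
    | exact Or.inr ⟨2, Or.inl (pair_of_base bs hs ht (Or.inr (Or.inl rfl)) h.2 h.1)⟩
    | exact Or.inr ⟨2, Or.inr (pair_of_base bs ht hs (Or.inr (Or.inl rfl)) h.1 h.2)⟩
    | exact Or.inr ⟨3, Or.inl (pair_of_base bs hs ht (Or.inr (Or.inr rfl)) h.2 h.1)⟩
    | exact Or.inr ⟨3, Or.inr (pair_of_base bs ht hs (Or.inr (Or.inr rfl)) h.1 h.2)⟩

include hd

theorem exists_cj {s : D.idx} (hs : s ∈ bs.support) (c : D.idx) :
    ∃ ν, Cj D (w D s) c (D.P.reflectionPerm s c) ν := by
  obtain ⟨ν, hν⟩ := exists_conj_scalar [s] (w D s) (fun X => by rw [toUnit_w]; exact rep_el (hd s hs) X) c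
  rw [Bruhat.wordPerm_singleton] at hν
  exact ⟨ν, hν⟩

theorem cj_back {s c c' : D.idx} (hs : s ∈ bs.support) {ν ν' : Γ(S, ⊤)} (h : Cj D (w D s) c c' ν)
    (h' : Cj D (w D s) c' c ν') : Sg (ν' * ν) 1 := by
  obtain ⟨σ, hσ, hc⟩ := cj_sq (hd s hs) c
  rw [(h'.mul h).unique hc]
  exact hσ

theorem cj_isUnit {s c : D.idx} (hs : s ∈ bs.support) {ν : Γ(S, ⊤)}
    (h : Cj D (w D s) c (D.P.reflectionPerm s c) ν) : IsUnit ν := by
  obtain ⟨ν', h'⟩ := exists_cj hd hs (D.P.reflectionPerm s c)
  rw [refl_refl] at h'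
  exact isUnit_of_mul_isUnit_right ((cj_back hd hs h h').isUnit isUnit_one)

theorem cj_isUnit' {s c : D.idx} (hs : s ∈ bs.support) {ν : Γ(S, ⊤)}
    (h : Cj D (w D s) (D.P.reflectionPerm s c) c ν) : IsUnit ν := by
  refine cj_isUnit hd hs (c := D.P.reflectionPerm s c) ?_
  rw [refl_refl]; exact h

theorem chain_isUnit {c : D.idx} {l : Γ(S, ⊤)} (h : Chain D bs c l) : IsUnit l := by
  induction h with
  | simple => exact isUnit_one
  | step hs _ _ hcj _ ih => exact (cj_isUnit' hd hs hcj).mul ih

omit hd in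
theorem step_props {c s : D.idx} (hc : bs.IsPos c) (hs : s ∈ bs.support) (hne : c ≠ s)
    (hp : 0 < D.P.pairing c s) :
    bs.IsPos (D.P.reflectionPerm s c) ∧ bs.height (D.P.reflectionPerm s c) < bs.height c := by
  haveI : IsAddTorsionFree D.M := .of_isTorsionFree ℤ D.M
  refine ⟨hc.reflectionPerm hs hne, ?_⟩
  have h := bs.height_add_zsmul (i := c) (j := s) (k := D.P.reflectionPerm s c) (z := -D.P.pairing c s)
    (by rw [root_refl]; module)
  rw [h, RootPairing.Base.height_one_of_mem_support hs, smul_eq_mul, _root_.mul_one]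
  omega

theorem exists_chain {c : D.idx} (hc : bs.IsPos c) : ∃ l, Chain D bs c l := by
  generalize hN : (bs.height c).toNat = N
  induction N using Nat.strong_induction_on generalizing c with
  | _ N ih =>
    obtain ⟨s, hs, hp⟩ := hc.exists_mem_support_pos_pairingIn
    rw [D.P.zero_lt_pairingIn_iff', pairingIn_eq] at hp
    rcases eq_or_ne c s with rfl | hne
    · exact ⟨1, .simple hs⟩
    obtain ⟨h1, h2⟩ := step_props hc hs hne hp
    obtain ⟨mu, hmu⟩ := ih _ (by have := (RootPairing.Base.isPos_iff _).1 h1; omega) h1 rfl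
    obtain ⟨ν, hν⟩ := exists_cj hd hs (D.P.reflectionPerm s c)
    rw [refl_refl] at hν
    exact ⟨ν * mu, .step hs hne hp hν hmu⟩

omit hd in
theorem chain_simple {a : D.idx} (ha : a ∈ bs.support) {l : Γ(S, ⊤)} (h : Chain D bs a l) : l = 1 := by
  cases h with
  | simple => rfl
  | step hs hne hp => exact absurd hp (not_lt.2 (pairing_nonpos ha hs hne))

omit hd in
theorem Off.refl {s t c r : D.idx} (h : Off D s t c) (hr : r = s ∨ r = t) :
    Off D s t (D.P.reflectionPerm r c) := fun i j e => by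
  rw [root_refl, sub_eq_iff_eq_add] at e
  rcases hr with rfl | rfl
  · exact h (i + D.P.pairing c r) j (by rw [e]; module)
  · exact h i (j + D.P.pairing c r) (by rw [e]; module)

omit hd in
theorem Off.ne {s t c r : D.idx} (h : Off D s t c) (hr : r = s ∨ r = t) : c ≠ r := by
  rintro rfl
  rcases hr with rfl | rfl
  · exact h 1 0 (by module)
  · exact h 0 1 (by module)

theorem chain_word {s t : D.idx} (hs : s ∈ bs.support) (ht : t ∈ bs.support) :
    ∀ (L : List D.idx) (c : D.idx), (∀ r ∈ L, r = s ∨ r = t) → bs.IsPos c → Off D s t c → Desc D c L →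
      bs.IsPos (fin D c L) ∧ (bs.height (fin D c L) + L.length ≤ bs.height c) ∧
        ∀ mu, Chain D bs (fin D c L) mu → ∃ ν, IsUnit ν ∧ Cj D (wL D L) (fin D c L) c ν ∧ Chain D bs c (ν * mu)
  | [], c, _, hc, _, _ => ⟨hc, by simp [fin], fun mu hmu => ⟨1, isUnit_one, by rw [wL_nil]; exact Cj.one c,
      by rw [_root_.one_mul]; exact hmu⟩⟩
  | r :: L, c, hL, hc, ho, ⟨hp, hD⟩ => by
    have hr : r = s ∨ r = t := hL r List.mem_cons_self
    have hrs : r ∈ bs.support := by rcases hr with rfl | rfl <;> assumption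
    obtain ⟨h1, h2⟩ := step_props hc hrs (ho.ne hr) hp
    obtain ⟨k1, k2, k3⟩ := chain_word hs ht L _ (fun x hx => hL x (List.mem_cons_of_mem _ hx)) h1 (ho.refl hr) hD
    refine ⟨k1, ?_, fun mu hmu => ?_⟩
    · simp only [fin, List.length_cons, Nat.cast_add, Nat.cast_one]; omega
    · obtain ⟨ν, u1, hν, hch⟩ := k3 mu hmu
      obtain ⟨ν₀, h₀⟩ := exists_cj hd hrs (D.P.reflectionPerm r c)
      rw [refl_refl] at h₀
      refine ⟨ν₀ * ν, (cj_isUnit' hd hrs h₀).mul u1, by rw [wL_cons]; exact h₀.mul hν, ?_⟩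
      rw [_root_.mul_assoc]
      exact .step hrs (ho.ne hr) hp h₀ hch

/-- Uniqueness below a given root. -/
def Below (bs : D.P.Base) (c : D.idx) : Prop :=
  ∀ d, bs.IsPos d → bs.height d < bs.height c →
    (∀ l l', Chain D bs d l → Chain D bs d l' → Sg l l') ∧
      ∀ s ∈ bs.support, D.P.pairing d s = 0 → ∀ ν, Cj D (w D s) d d ν → Sg ν 1

omit hd in
theorem off_zero {s t c : D.idx} (hs : s ∈ bs.support) (ht : t ∈ bs.support) (hne : s ≠ t)
    (hst : D.P.pairing s t = 0) (hts : D.P.pairing t s = 0) (hc : c ≠ s) (hp : 0 < D.P.pairing c s)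
    (hq : 0 ≤ D.P.pairing c t) : Off D s t c := fun i j e => by
  have e1 := congrArg (D.P.coroot' s) e
  have e2 := congrArg (D.P.coroot' t) e
  simp only [map_add, map_zsmul, D.P.root_coroot'_eq_pairing, D.P.pairing_same, hst, hts, smul_eq_mul] at e1 e2
  haveI : IsAddTorsionFree D.M := .of_isTorsionFree ℤ D.M
  rcases eq_or_ne j 0 with rfl | hj
  · rw [zero_zsmul, add_zero] at e
    have h1 := pairing_nsmul e s
    rw [D.P.pairing_same] at h1
    have h2 : i.natAbs ≤ 2 := Nat.le_of_dvd (by norm_num) (Int.natAbs_dvd_natAbs.2 ⟨_, h1.symm⟩)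
    rcases (show i = 1 ∨ i = 2 by omega) with rfl | rfl
    · exact hc (D.P.root.injective (by rw [e, one_zsmul]))
    · exact D.P.nsmul_notMem_range_root (n := 2) (i := s) ⟨c, by rw [e, two_zsmul, two_nsmul]⟩
  have hli : ∀ r : D.idx, r = s ∨ r = t → (r = t → i ≠ 0) → LinearIndependent ℤ ![D.P.root c, D.P.root r] := by
    intro r hr hr'
    refine LinearIndependent.pair_iff.2 fun a b h => ?_
    have f1 := congrArg (D.P.coroot' s) h
    have f2 := congrArg (D.P.coroot' t) h
    rcases hr with rfl | rfl <;>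
      simp only [map_add, map_zsmul, map_zero, D.P.root_coroot'_eq_pairing, D.P.pairing_same, hst, hts, e1, e2,
        smul_eq_mul] at f1 f2
    · obtain rfl : a = 0 := (mul_eq_zero.1 (show a * (j * 2) = 0 by linear_combination f2)).resolve_right (by omega)
      exact ⟨rfl, by linarith⟩
    · obtain rfl : a = 0 := (mul_eq_zero.1 (show a * (i * 2) = 0 by linear_combination f1)).resolve_right (by have := hr' rfl; omega)
      exact ⟨rfl, by linarith⟩
  have hP := BC.pair_set (hli s (Or.inl rfl) fun h => absurd h hne)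
  have hQ := BC.pair_set (hli t (Or.inr rfl) fun _ => by omega)
  simp only [Set.mem_insert_iff, Set.mem_singleton_iff, Prod.mk.injEq] at hP hQ
  obtain ⟨rfl, rfl⟩ : i = 1 ∧ j = 1 := by omega
  refine bs.sub_notMem_range_root ht hs ⟨D.P.reflectionPerm s c, ?_⟩
  rw [root_refl, e, show D.P.pairing c s = 2 by omega]
  module

/-- The two routes given by a pair of words agree. -/
theorem agree_of_words {c s t : D.idx} (hbelow : Below bs c) (hc : bs.IsPos c) (hs : s ∈ bs.support)
    (ht : t ∈ bs.support) (ho : Off D s t c) {Ls Lt : List D.idx} (hLs : ∀ r ∈ Ls, r = s ∨ r = t)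
    (hLt : ∀ r ∈ Lt, r = s ∨ r = t) (hDs : Desc D c (s :: Ls)) (hDt : Desc D c (t :: Lt))
    (hfin : fin D (D.P.reflectionPerm s c) Ls = fin D (D.P.reflectionPerm t c) Lt)
    (hbr : wL D (s :: Ls) = wL D (t :: Lt)) {νs mSs νt mTt : Γ(S, ⊤)}
    (h1 : Cj D (w D s) (D.P.reflectionPerm s c) c νs) (h1' : Chain D bs (D.P.reflectionPerm s c) mSs)
    (h2 : Cj D (w D t) (D.P.reflectionPerm t c) c νt) (h2' : Chain D bs (D.P.reflectionPerm t c) mTt) :
    Sg (νs * mSs) (νt * mTt) := by
  obtain ⟨ps, ls⟩ := step_props hc hs (ho.ne (Or.inl rfl)) hDs.1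
  obtain ⟨pt, lt⟩ := step_props hc ht (ho.ne (Or.inr rfl)) hDt.1
  obtain ⟨a1, -, a3⟩ := chain_word hd hs ht Ls _ hLs ps (ho.refl (Or.inl rfl)) hDs.2
  obtain ⟨-, -, b3⟩ := chain_word hd hs ht Lt _ hLt pt (ho.refl (Or.inr rfl)) hDt.2
  obtain ⟨mu, hmu⟩ := exists_chain hd a1
  obtain ⟨x, -, hx, hxc⟩ := a3 mu hmu
  obtain ⟨y, -, hy, hyc⟩ := b3 mu (hfin ▸ hmu)
  have e1 := (hbelow _ ps ls).1 _ _ h1' hxc
  have e2 := (hbelow _ pt lt).1 _ _ h2' hyc
  rw [← hfin] at hy
  have e3 : νs * x = νt * y := by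
    have hx' := h1.mul hx
    have hy' := h2.mul hy
    rw [← wL_cons] at hx' hy'
    rw [hbr] at hx'
    exact hx'.unique hy'
  refine ((Sg.refl νs).mul e1).trans ?_
  rw [← _root_.mul_assoc, e3, _root_.mul_assoc]
  exact ((Sg.refl νt).mul e2).symm

/-- A reflection fixing a root preserves its normalisation up to sign. -/
theorem sign_of_word {c s t r : D.idx} (hbelow : Below bs c) (hc : bs.IsPos c) (hs : s ∈ bs.support)
    (ht : t ∈ bs.support) (ho : Off D s t c) {L : List D.idx} (hL : ∀ r ∈ L, r = s ∨ r = t)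
    (hD : Desc D c (s :: L)) (hr : r = s ∨ r = t) (hzero : D.P.pairing (fin D c (s :: L)) r = 0)
    (hbr : w D t * wL D (s :: L) = wL D (s :: L) * w D r)
    {ν : Γ(S, ⊤)} (hν : Cj D (w D t) c c ν) : Sg ν 1 := by
  obtain ⟨a1, a2, a3⟩ := chain_word hd hs ht (s :: L) c (by
    intro x hx
    rcases List.mem_cons.1 hx with rfl | hx
    exacts [Or.inl rfl, hL x hx]) hc ho hD
  obtain ⟨mu, hmu⟩ := exists_chain hd a1
  obtain ⟨N, hN, hNc, -⟩ := a3 mu hmu
  have hrs : r ∈ bs.support := by rcases hr with rfl | rfl <;> assumption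
  obtain ⟨νr, hνr⟩ := exists_cj hd hrs (fin D c (s :: L))
  have hfix : D.P.reflectionPerm r (fin D c (s :: L)) = fin D c (s :: L) :=
    D.P.root.injective (by rw [root_refl, hzero, zero_zsmul, sub_zero])
  rw [hfix] at hνr
  have hsign := (hbelow _ a1 (by simp only [List.length_cons, Nat.cast_add, Nat.cast_one] at a2; omega)).2
    r hrs hzero νr hνr
  have e1 := hν.mul hNc
  have e2 := hNc.mul hνr
  rw [hbr] at e1
  have e3 : ν * N = νr * N := by rw [e1.unique e2, mul_comm]
  rwa [hN.mul_left_inj.1 e3]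

omit hd in
theorem off_pair {c s t : D.idx} {n : ℤ} (hp : Pair D s t n) (hc : ¬ Off D s t c) :
    ∃ i j : ℤ, Co s t c i j ∧ D.P.pairing c s = 2 * i - n * j ∧ D.P.pairing c t = 2 * j - i ∧
      ((i, j) ∈ posList n ∨ (-i, -j) ∈ posList n) := by
  simp only [Off, not_forall, not_not] at hc
  obtain ⟨i, j, e⟩ := hc
  exact ⟨i, j, e, (hp.pairing_a e).1, (hp.pairing_a e).2.1, hp.mem_posList e⟩

omit hd in
theorem braids {a b : D.idx} {n : ℤ} (hda : Weyl.Dual D a) (hdb : Weyl.Dual D b) (hp : Pair D a b n) :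
    (n = 1 → wL D [a, b, a] = wL D [b, a, b]) ∧
    (n = 2 → wL D [a, b, a, b] = wL D [b, a, b, a]) ∧
    (n = 3 → wL D [a, b, a, b, a, b] = wL D [b, a, b, a, b, a]) := by
  obtain ⟨h1, h2, h3⟩ := braid_rel hda hdb hp
  refine ⟨fun h => ?_, fun h => ?_, fun h => ?_⟩
  · simpa [wL, w, _root_.mul_assoc] using h1 h
  · simpa [wL, w, _root_.mul_assoc] using h2 h
  · simpa [wL, w, _root_.mul_assoc] using h3 h

theorem cj_unit_step {a c : D.idx} {b : D.idx} (hb : b ∈ bs.support) (hac : D.P.reflectionPerm b a = c)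
    {t : Γ(S, ⊤)} (h : Cj D (w D b) a c t) : IsUnit t := cj_isUnit hd hb (hac.symm ▸ h)

/-- The main induction. -/
theorem below_all {c : D.idx} (hc : bs.IsPos c) :
    (∀ l l', Chain D bs c l → Chain D bs c l' → Sg l l') ∧
      ∀ s ∈ bs.support, D.P.pairing c s = 0 → ∀ ν, Cj D (w D s) c c ν → Sg ν 1 := by
  generalize hN : (bs.height c).toNat = N
  induction N using Nat.strong_induction_on generalizing c with
  | _ N ih =>
  have hbelow : Below bs c := fun d hd' hlt => ih _ (by
    have := (RootPairing.Base.isPos_iff _).1 hd'; omega) hd' rfl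
  have hnil : ∀ {s t : D.idx}, ∀ r ∈ ([] : List D.idx), r = s ∨ r = t := fun r h => absurd h List.not_mem_nil
  refine ⟨fun l l' h h' => ?_, fun t ht hq ν hν => ?_⟩
  · by_cases hsimp : c ∈ bs.support
    · rw [chain_simple hsimp h, chain_simple hsimp h']; exact Sg.refl _
    cases h with
    | simple ha => exact absurd ha hsimp
    | @step _ s νs mSs hs hcs hp h1 h1' =>
    cases h' with
    | simple ha => exact absurd ha hsimp
    | @step _ t νt mTt ht hct hq h2 h2' =>
    by_cases hne : s = t
    · subst hne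
      obtain ⟨ps, ls⟩ := step_props hc hs hcs hp
      rw [h1.unique h2]
      exact (Sg.refl _).mul ((hbelow _ ps ls).1 _ _ h1' h2')
    rcases simple_cases hs ht hne with ⟨e1, e2⟩ | ⟨n, hP⟩
    · refine agree_of_words hd hbelow hc hs ht (off_zero hs ht hne e1 e2 hcs hp hq.le) (Ls := [t]) (Lt := [s])
        (by simp) (by simp) ⟨hp, by simp [pr, e1, hq], trivial⟩ ⟨hq, by simp [pr, e2, hp], trivial⟩
        (D.P.root.injective ?_) ?_ h1 h1' h2 h2'
      · simp only [fin, root_refl, pr, e1, e2]; module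
      · simpa [wL] using ((orth hs ht hne e1).2 (hd t ht)).symm
    wlog hst : Pair D s t n generalizing s t νs mSs νt mTt with H
    · exact (H ht hct hq h2 h2' hs hcs hp h1 h1' (Ne.symm hne) hP.symm
        (hP.resolve_left hst)).symm
    clear hP
    have hst' := hst.pba
    have hts' := hst.pab
    obtain ⟨B1, B2, B3⟩ := braids (hd s hs) (hd t ht) hst
    by_cases ho : Off D s t c
    · rcases hst.hn with rfl | rfl | rfl
      · refine agree_of_words hd hbelow hc hs ht ho (Ls := [t, s]) (Lt := [s, t]) (by simp) (by simp) ?_ ?_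
          (D.P.root.injective ?_) (B1 rfl) h1 h1' h2 h2'
        · simp [Desc, pr, hst', hts']; omega
        · simp [Desc, pr, hst', hts']; omega
        · simp only [fin, root_refl, pr, hst', hts', D.P.pairing_same]; module
      · refine agree_of_words hd hbelow hc hs ht ho (Ls := [t, s, t]) (Lt := [s, t, s]) (by simp) (by simp) ?_ ?_
          (D.P.root.injective ?_) (B2 rfl) h1 h1' h2 h2'
        · simp [Desc, pr, hst', hts']; omega
        · simp [Desc, pr, hst', hts']; omega
        · simp only [fin, root_refl, pr, hst', hts', D.P.pairing_same]; module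
      · refine agree_of_words hd hbelow hc hs ht ho (Ls := [t, s, t, s, t]) (Lt := [s, t, s, t, s]) (by simp)
          (by simp) ?_ ?_ (D.P.root.injective ?_) (B3 rfl) h1 h1' h2 h2'
        · simp [Desc, pr, hst', hts']; omega
        · simp [Desc, pr, hst', hts']; omega
        · simp only [fin, root_refl, pr, hst', hts', D.P.pairing_same]; module
    · obtain ⟨i, j, e, hpe, hqe, hmem⟩ := off_pair hst ho
      obtain ⟨rfl, rfl, rfl⟩ : n = 1 ∧ i = 1 ∧ j = 1 := by
        rcases hst.hn with rfl | rfl | rfl <;> simp [posList] at hmem <;> omega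
      obtain ⟨k, hk⟩ := A2.exists_rel hst e
      have ts : D.P.reflectionPerm t s = c := hst.co_inj (by simpa using hst.co_refl_b co_left) e
      have st : D.P.reflectionPerm s t = c := hst.co_inj (by simpa using hst.co_refl_a co_right) e
      obtain ⟨gb, -⟩ := A2.el_conj_a hst e hk (ts ▸ maps_el (hd t ht) s)
      obtain ⟨ga, -⟩ := A2.el_conj_a (A2.pair_symm hst) (show Co t s c 1 1 by rw [Co, e, add_comm])
        (A2.rel_symm hst e hk) (st ▸ maps_el (hd s hs) t)
      have sc : D.P.reflectionPerm s c = t := by rw [← st, refl_refl]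
      have tc : D.P.reflectionPerm t c = s := by rw [← ts, refl_refl]
      rw [sc] at h1 h1'
      rw [tc] at h2 h2'
      have c1 : Cj D (w D s) t c (-k) := fun X x => by rw [toUnit_w]; exact ga X x
      have c2 : Cj D (w D t) s c k := fun X x => by rw [toUnit_w]; exact gb X x
      rw [chain_simple ht h1', chain_simple hs h2', h1.unique c1, h2.unique c2]
      exact Or.inr (by ring)
  · by_cases hsimp : c ∈ bs.support
    · have hne : c ≠ t := by
        rintro rfl
        rw [D.P.pairing_same] at hq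
        omega
      rw [hν.unique (orth hsimp ht hne hq).1]
      exact Sg.refl _
    obtain ⟨s, hs, hp⟩ := hc.exists_mem_support_pos_pairingIn
    rw [D.P.zero_lt_pairingIn_iff', pairingIn_eq] at hp
    have hcs : c ≠ s := fun h => hsimp (h ▸ hs)
    have hne : s ≠ t := by
      rintro rfl
      omega
    rcases simple_cases hs ht hne with ⟨e1, e2⟩ | ⟨n, hP⟩
    · refine sign_of_word hd hbelow hc hs ht (off_zero hs ht hne e1 e2 hcs hp hq.ge) (L := []) (r := t)
        hnil ⟨hp, trivial⟩ (Or.inr rfl) ?_ ?_ hν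
      · simp [fin, pr, e1, hq]
      · simpa [wL] using (orth hs ht hne e1).2 (hd t ht)
    by_cases ho : Off D s t c
    · rcases hP with hP | hP
      · have hst' := hP.pba
        have hts' := hP.pab
        obtain ⟨B1, B2, B3⟩ := braids (hd s hs) (hd t ht) hP
        rcases hP.hn with rfl | rfl | rfl
        · refine sign_of_word hd hbelow hc hs ht ho (L := [t]) (r := s) (by simp) ?_ (Or.inl rfl) ?_ ?_ hν
          · simp [Desc, pr, hst', hts', hq, hp]
          · simp [fin, pr, hst', hts', hq]; ring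
          · simpa [wL, _root_.mul_assoc] using (B1 rfl).symm
        · refine sign_of_word hd hbelow hc hs ht ho (L := [t, s]) (r := t) (by simp) ?_ (Or.inr rfl) ?_ ?_ hν
          · simp [Desc, pr, hst', hts', hq, hp]
          · simp [fin, pr, hst', hts', hq]; omega
          · simpa [wL, _root_.mul_assoc] using (B2 rfl).symm
        · refine sign_of_word hd hbelow hc hs ht ho (L := [t, s, t, s]) (r := t) (by simp) ?_ (Or.inr rfl) ?_ ?_ hν
          · simp [Desc, pr, hst', hts', hq, hp]; omega
          · simp [fin, pr, hst', hts', hq]; omega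
          · simpa [wL, _root_.mul_assoc] using (B3 rfl).symm
      · have hst' := hP.pab
        have hts' := hP.pba
        obtain ⟨B1, B2, B3⟩ := braids (hd t ht) (hd s hs) hP
        rcases hP.hn with rfl | rfl | rfl
        · refine sign_of_word hd hbelow hc hs ht ho (L := [t]) (r := s) (by simp) ?_ (Or.inl rfl) ?_ ?_ hν
          · simp [Desc, pr, hst', hts', hq, hp]
          · simp [fin, pr, hst', hts', hq]; ring
          · simpa [wL, _root_.mul_assoc] using B1 rfl
        · refine sign_of_word hd hbelow hc hs ht ho (L := [t, s]) (r := t) (by simp) ?_ (Or.inr rfl) ?_ ?_ hν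
          · simp [Desc, pr, hst', hts', hq, hp]
          · simp [fin, pr, hst', hts', hq]; omega
          · simpa [wL, _root_.mul_assoc] using B2 rfl
        · refine sign_of_word hd hbelow hc hs ht ho (L := [t, s, t, s]) (r := t) (by simp) ?_ (Or.inr rfl) ?_ ?_ hν
          · simp [Desc, pr, hst', hts', hq, hp]; omega
          · simp [fin, pr, hst', hts', hq]; omega
          · simpa [wL, _root_.mul_assoc] using B3 rfl
    · rcases hP with hP | hP
      · -- `s` short, `t` long: `c = 2 s + t`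
        obtain ⟨i, j, e, hpe, hqe, hmem⟩ := off_pair hP ho
        obtain ⟨rfl, rfl, hn⟩ : i = 2 ∧ j = 1 ∧ (n = 2 ∨ n = 3) := by
          rcases hP.hn with rfl | rfl | rfl <;> simp [posList] at hmem <;> omega
        have c1 : Cj D (w D t) c c 1 := fun X x => by
          rw [toUnit_w, res_one, _root_.one_mul]
          have hn' : ∀ (σ : Γ(X.left, ⊤)) (Z : X ⟶ G),
              P (D.u (D.P.reflectionPerm t t)) σ * (P (D.u c) x * Z) =
                P (D.u c) x * (P (D.u (D.P.reflectionPerm t t)) σ * Z) := fun σ Z =>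
            hP.comm co_right.neg e (by norm_num) (by rcases hn with rfl | rfl <;> decide)
              (by rcases hn with rfl | rfl <;> decide) σ x Z
          have hn'' : ∀ (σ : Γ(X.left, ⊤)) (Z : X ⟶ G),
              P (D.u t) σ * (P (D.u c) x * Z) = P (D.u c) x * (P (D.u t) σ * Z) := fun σ Z =>
            hP.comm co_right e (by norm_num) (by rcases hn with rfl | rfl <;> decide)
              (by rcases hn with rfl | rfl <;> decide) σ x Z
          rw [← _root_.mul_one (el D t (-1) X * P (D.u c) x), ← _root_.mul_one (P (D.u c) x * el D t (-1) X), el]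
          simp only [_root_.mul_assoc, hn', hn'']
        rw [hν.unique c1]
        exact Sg.refl _
      · -- `t` short, `s` long
        obtain ⟨i, j, e, hpe, hqe, hmem⟩ := off_pair hP (fun h => ho fun i j e => h j i (by rw [e, add_comm]))
        have hij : n = 2 ∧ i = 1 ∧ j = 1 ∨ n = 3 ∧ i = 3 ∧ j = 2 := by
          rcases hP.hn with rfl | rfl | rfl <;> simp [posList] at hmem <;> omega
        rcases hij with ⟨rfl, rfl, rfl⟩ | ⟨rfl, rfl, rfl⟩
        · obtain ⟨d, hd'⟩ := hP.exists_root (i := 2) (j := 1) (by decide)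
          obtain ⟨k₁, k₂, k₃, hr⟩ := B2.exists_rel hP e hd'
          have bac : D.P.reflectionPerm s t = c := hP.co_inj (by simpa using hP.co_refl_b co_left) e
          have bca : D.P.reflectionPerm s c = t := hP.co_inj (by simpa using hP.co_refl_b e) co_left
          have abd : D.P.reflectionPerm t s = d := hP.co_inj (by simpa using hP.co_refl_a co_right) hd'
          have adb : D.P.reflectionPerm t d = s := hP.co_inj (by simpa using hP.co_refl_a hd') co_right
          have acc : D.P.reflectionPerm t c = c := hP.co_inj (by simpa using hP.co_refl_a e) e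
          have fa := B2.el_conj_a hP e hd' hr (flip_el (hd s hs)) (bac ▸ maps_el (hd s hs) t)
            (by simpa [bca] using maps_el (hd s hs) c)
          have fb := B2.el_conj_b hP e hd' hr (flip_el (hd t ht)) (abd ▸ maps_el (hd t ht) s)
            (by simpa [acc] using maps_el (hd t ht) c) (by simpa [adb] using maps_el (hd t ht) d)
          have c1 : Cj D (w D s) t c k₁ := fun X x => by rw [toUnit_w]; exact (fa X x).1
          have hk : IsUnit k₁ := cj_unit_step hd hs bac c1
          have e1 := (fb (𝟙_ (Over S)) 1).2.1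
          have e2 := hν (𝟙_ (Over S)) (res (𝟙_ (Over S)) k₁ * 1)
          rw [toUnit_w] at e2
          have e3 := P_inj (mul_right_cancel (e2.symm.trans e1))
          simp only [res_unit, _root_.mul_one] at e3
          exact Or.inr (hk.mul_left_inj.1 (by rw [e3, neg_mul, _root_.one_mul]))
        · have c1 : Cj D (w D t) c c 1 := fun X x => by
            rw [toUnit_w, res_one, _root_.one_mul]
            have hn' : ∀ (σ : Γ(X.left, ⊤)) (Z : X ⟶ G),
                P (D.u (D.P.reflectionPerm t t)) σ * (P (D.u c) x * Z) =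
                  P (D.u c) x * (P (D.u (D.P.reflectionPerm t t)) σ * Z) := fun σ Z =>
              hP.comm co_left.neg e (by norm_num) (by decide) (by decide) σ x Z
            have hn'' : ∀ (σ : Γ(X.left, ⊤)) (Z : X ⟶ G),
                P (D.u t) σ * (P (D.u c) x * Z) = P (D.u c) x * (P (D.u t) σ * Z) := fun σ Z =>
              hP.comm co_left e (by norm_num) (by decide) (by decide) σ x Z
            rw [← _root_.mul_one (el D t (-1) X * P (D.u c) x), ← _root_.mul_one (P (D.u c) x * el D t (-1) X), el]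
            simp only [_root_.mul_assoc, hn', hn'']
          rw [hν.unique c1]
          exact Sg.refl _

/-- Two descents to simple roots give the same normalisation up to sign. -/
theorem chain_unique {c : D.idx} (hc : bs.IsPos c) {l l' : Γ(S, ⊤)} (h : Chain D bs c l)
    (h' : Chain D bs c l') : Sg l l' :=
  (below_all hd hc).1 l l' h h'

theorem fixed_sign {c s : D.idx} (hc : bs.IsPos c) (hs : s ∈ bs.support) (h0 : D.P.pairing c s = 0)
    {ν : Γ(S, ⊤)} (h : Cj D (w D s) c c ν) : Sg ν 1 :=
  (below_all hd hc).2 s hs h0 ν h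

end Groth.Agent.H82.R2
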