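import Groth.Agent.H82.R2.A2

/-!
# Type G₂ (`a` short)
-/

set_option autoImplicit false
set_option linter.style.haveILetI false
set_option linter.unusedSectionVars false
universe u

open CategoryTheory MonoidalCategory CartesianMonoidalCategory MonObj GrpObj AlgebraicGeometry
open Groth.Agent.Lib.RedPts Groth.Agent.H82.BigCell Groth.Agent.H82.Contract
open Groth.Agent.H82.RankOne (P P_eq P_add P_zero P_neg P_comp)

namespace Groth.Agent.H82.R2.G2

variable {S : Scheme.{u}} {G : Over S} [GrpObj G] {D : Red.SplitRed G} [D.P.IsCrystallographic]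

/-- The roots `a + b`, `2a + b`, `3a + b`, `3a + 2b`. -/
structure Ix (D : Red.SplitRed G) (a b c d e f : D.idx) : Prop where
  pair : Pair D a b 3
  hc : Co a b c 1 1
  hd : Co a b d 2 1
  he : Co a b e 3 1
  hf : Co a b f 3 2

/-- The structure constants. -/
structure Cst (S : Scheme.{u}) where
  (t s r q k₂ k₃ k₄ l g k : Γ(S, ⊤))

/-- The commutation rules of a pair of type G₂. -/
structure Rel (D : Red.SplitRed G) (a b c d e f : D.idx) (C : Cst S) : Prop where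
  ba : ∀ (X : Over S) (x y : Γ(X.left, ⊤)) (Z : X ⟶ G), P (D.u b) y * (P (D.u a) x * Z) =
    P (D.u a) x * (P (D.u b) y * (P (D.u c) (res X C.t * (x * y)) * (P (D.u d) (res X C.s * (x ^ 2 * y)) *
      (P (D.u e) (res X C.r * (x ^ 3 * y)) * (P (D.u f) (res X C.q * (x ^ 3 * y ^ 2)) * Z)))))
  ca : ∀ (X : Over S) (x y : Γ(X.left, ⊤)) (Z : X ⟶ G), P (D.u c) y * (P (D.u a) x * Z) =
    P (D.u a) x * (P (D.u c) y * (P (D.u d) (res X C.k₂ * (x * y)) *
      (P (D.u e) (res X C.k₃ * (x ^ 2 * y)) * (P (D.u f) (res X C.k₄ * (x * y ^ 2)) * Z))))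
  da : ∀ (X : Over S) (x y : Γ(X.left, ⊤)) (Z : X ⟶ G), P (D.u d) y * (P (D.u a) x * Z) =
    P (D.u a) x * (P (D.u d) y * (P (D.u e) (res X C.l * (x * y)) * Z))
  eb : ∀ (X : Over S) (x y : Γ(X.left, ⊤)) (Z : X ⟶ G), P (D.u e) y * (P (D.u b) x * Z) =
    P (D.u b) x * (P (D.u e) y * (P (D.u f) (res X C.g * (x * y)) * Z))
  dc : ∀ (X : Over S) (x y : Γ(X.left, ⊤)) (Z : X ⟶ G), P (D.u d) y * (P (D.u c) x * Z) =
    P (D.u c) x * (P (D.u d) y * (P (D.u f) (res X C.k * (x * y)) * Z))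
  cb : ∀ (X : Over S) (x y : Γ(X.left, ⊤)) (Z : X ⟶ G), P (D.u c) x * (P (D.u b) y * Z) =
    P (D.u b) y * (P (D.u c) x * Z)
  db : ∀ (X : Over S) (x y : Γ(X.left, ⊤)) (Z : X ⟶ G), P (D.u d) x * (P (D.u b) y * Z) =
    P (D.u b) y * (P (D.u d) x * Z)
  ea : ∀ (X : Over S) (x y : Γ(X.left, ⊤)) (Z : X ⟶ G), P (D.u e) x * (P (D.u a) y * Z) =
    P (D.u a) y * (P (D.u e) x * Z)
  ec : ∀ (X : Over S) (x y : Γ(X.left, ⊤)) (Z : X ⟶ G), P (D.u e) x * (P (D.u c) y * Z) =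
    P (D.u c) y * (P (D.u e) x * Z)
  ed : ∀ (X : Over S) (x y : Γ(X.left, ⊤)) (Z : X ⟶ G), P (D.u e) x * (P (D.u d) y * Z) =
    P (D.u d) y * (P (D.u e) x * Z)
  fa : ∀ (X : Over S) (x y : Γ(X.left, ⊤)) (Z : X ⟶ G), P (D.u f) x * (P (D.u a) y * Z) =
    P (D.u a) y * (P (D.u f) x * Z)
  fb : ∀ (X : Over S) (x y : Γ(X.left, ⊤)) (Z : X ⟶ G), P (D.u f) x * (P (D.u b) y * Z) =
    P (D.u b) y * (P (D.u f) x * Z)
  fc : ∀ (X : Over S) (x y : Γ(X.left, ⊤)) (Z : X ⟶ G), P (D.u f) x * (P (D.u c) y * Z) =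
    P (D.u c) y * (P (D.u f) x * Z)
  fd : ∀ (X : Over S) (x y : Γ(X.left, ⊤)) (Z : X ⟶ G), P (D.u f) x * (P (D.u d) y * Z) =
    P (D.u d) y * (P (D.u f) x * Z)
  fe : ∀ (X : Over S) (x y : Γ(X.left, ⊤)) (Z : X ⟶ G), P (D.u f) x * (P (D.u e) y * Z) =
    P (D.u e) y * (P (D.u f) x * Z)

variable {a b c d e f : D.idx} (h : Ix D a b c d e f)
include h

/-- Coordinates in the order `a, b, c, d, e, f`. -/
theorem coords {X : Over S} (p₀ p₁ p₂ p₃ p₄ p₅ q₀ q₁ q₂ q₃ q₄ q₅ : Γ(X.left, ⊤))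
    (hh : P (D.u a) p₀ * (P (D.u b) p₁ * (P (D.u c) p₂ * (P (D.u d) p₃ * (P (D.u e) p₄ * P (D.u f) p₅)))) =
      P (D.u a) q₀ * (P (D.u b) q₁ * (P (D.u c) q₂ * (P (D.u d) q₃ * (P (D.u e) q₄ * P (D.u f) q₅))))) :
    p₀ = q₀ ∧ p₁ = q₁ ∧ p₂ = q₂ ∧ p₃ = q₃ ∧ p₄ = q₄ ∧ p₅ = q₅ := by
  have := h.pair.coords_eq 1 1 ![a, b, c, d, e, f] ![1, 0, 1, 2, 3, 3] ![0, 1, 1, 1, 1, 2]
    (fun k => by fin_cases k <;> [exact co_left; exact co_right; exact h.hc; exact h.hd; exact h.he; exact h.hf])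
    (by decide) (fun k => by fin_cases k <;> norm_num) ![p₀, p₁, p₂, p₃, p₄, p₅] ![q₀, q₁, q₂, q₃, q₄, q₅]
    (by simpa [prodPts_succ] using hh)
  exact ⟨congrFun this 0, congrFun this 1, congrFun this 2, congrFun this 3, congrFun this 4, congrFun this 5⟩

theorem coords_bcdef {X : Over S} (p₁ p₂ p₃ p₄ p₅ q₁ q₂ q₃ q₄ q₅ : Γ(X.left, ⊤))
    (hh : P (D.u b) p₁ * (P (D.u c) p₂ * (P (D.u d) p₃ * (P (D.u e) p₄ * P (D.u f) p₅))) =
      P (D.u b) q₁ * (P (D.u c) q₂ * (P (D.u d) q₃ * (P (D.u e) q₄ * P (D.u f) q₅)))) :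
    p₁ = q₁ ∧ p₂ = q₂ ∧ p₃ = q₃ ∧ p₄ = q₄ ∧ p₅ = q₅ :=
  (coords h 0 _ _ _ _ _ 0 _ _ _ _ _ (congrArg (P (D.u a) (0 : Γ(X.left, ⊤)) * ·) hh)).2

theorem coords_acdef {X : Over S} (p₀ p₂ p₃ p₄ p₅ q₀ q₂ q₃ q₄ q₅ : Γ(X.left, ⊤))
    (hh : P (D.u a) p₀ * (P (D.u c) p₂ * (P (D.u d) p₃ * (P (D.u e) p₄ * P (D.u f) p₅))) =
      P (D.u a) q₀ * (P (D.u c) q₂ * (P (D.u d) q₃ * (P (D.u e) q₄ * P (D.u f) q₅)))) :
    p₀ = q₀ ∧ p₂ = q₂ ∧ p₃ = q₃ ∧ p₄ = q₄ ∧ p₅ = q₅ := by
  obtain ⟨h0, -, h2⟩ := coords h p₀ 0 p₂ p₃ p₄ p₅ q₀ 0 q₂ q₃ q₄ q₅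
    (by simpa only [P_zero, _root_.one_mul] using hh)
  exact ⟨h0, h2⟩

theorem exists_rel : ∃ C : Cst S, Rel D a b c d e f C := by
  obtain ⟨hp, hc, hd, he, hf⟩ := h
  obtain ⟨A, hA⟩ := hp.exists_comm (α := a) (β := b) co_left co_right 1 1 (by norm_num) (by norm_num)
    ![c, d, e, f] ![1, 2, 3, 3] ![1, 1, 1, 2] (fun k => by
      fin_cases k <;> [exact ⟨le_rfl, le_rfl, by simpa using hc⟩; exact ⟨by simp, by simp, by simpa using hd⟩;
        exact ⟨by simp, by simp, by simpa using he⟩; exact ⟨by simp, by simp, by simpa using hf⟩])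
    (by decide) (fun p q h1 h2 h => by simp [posList, Fin.exists_fin_succ] at h ⊢; omega)
  obtain ⟨B, hB⟩ := hp.exists_comm (α := a) (β := c) co_left hc 1 1 (by norm_num) (by norm_num)
    ![d, e, f] ![1, 2, 1] ![1, 1, 2] (fun k => by
      fin_cases k <;> [exact ⟨le_rfl, le_rfl, by simpa using hd⟩; exact ⟨by simp, by simp, by simpa using he⟩;
        exact ⟨by simp, by simp, by simpa using hf⟩])
    (by decide) (fun p q h1 h2 h => by simp [posList, Fin.exists_fin_succ] at h ⊢; omega)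
  obtain ⟨C, hC⟩ := hp.exists_comm (α := a) (β := d) co_left hd 1 1 (by norm_num) (by norm_num)
    ![e] ![1] ![1] (fun k => by fin_cases k; exact ⟨le_rfl, le_rfl, by simpa using he⟩)
    (fun k k' _ => Subsingleton.elim k k') (fun p q h1 h2 h => ⟨0, by simp [posList] at h ⊢; omega⟩)
  obtain ⟨E, hE⟩ := hp.exists_comm (α := b) (β := e) co_right he 1 1 (by norm_num) (by norm_num)
    ![f] ![1] ![1] (fun k => by fin_cases k; exact ⟨le_rfl, le_rfl, by simpa using hf⟩)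
    (fun k k' _ => Subsingleton.elim k k') (fun p q h1 h2 h => ⟨0, by simp [posList] at h ⊢; omega⟩)
  obtain ⟨K, hK⟩ := hp.exists_comm (α := c) (β := d) hc hd 1 1 (by norm_num) (by norm_num)
    ![f] ![1] ![1] (fun k => by fin_cases k; exact ⟨le_rfl, le_rfl, by simpa using hf⟩)
    (fun k k' _ => Subsingleton.elim k k') (fun p q h1 h2 h => ⟨0, by simp [posList] at h ⊢; omega⟩)
  have hneg : ∀ (X : Over S) (W : Γ(S, ⊤)), res X (-W) = -res X W := fun X W => by rw [res, res, map_neg]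
  refine ⟨⟨-A 0, A 1, -A 2, -A 3, -B 0, B 1, -B 2, -C 0, -E 0, -K 0⟩, ?_, ?_, ?_, ?_, ?_,
    fun _ => hp.comm hc co_right (by norm_num) (by decide) (by decide),
    fun _ => hp.comm hd co_right (by norm_num) (by decide) (by decide),
    fun _ => hp.comm he co_left (by norm_num) (by decide) (by decide),
    fun _ => hp.comm he hc (by norm_num) (by decide) (by decide),
    fun _ => hp.comm he hd (by norm_num) (by decide) (by decide),
    fun _ => hp.comm hf co_left (by norm_num) (by decide) (by decide),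
    fun _ => hp.comm hf co_right (by norm_num) (by decide) (by decide),
    fun _ => hp.comm hf hc (by norm_num) (by decide) (by decide),
    fun _ => hp.comm hf hd (by norm_num) (by decide) (by decide),
    fun _ => hp.comm hf he (by norm_num) (by decide) (by decide)⟩
  · intro X x y Z
    have h := hA X (-x) y
    simp [prodPts_succ] at h
    rw [P_neg, _root_.mul_assoc, inv_mul_eq_iff_eq_mul] at h
    simp only [hneg]
    rw [← _root_.mul_assoc, h]
    simp only [_root_.mul_assoc]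
    ring_nf
  · intro X x y Z
    have h := hB X (-x) y
    simp [prodPts_succ] at h
    rw [P_neg, _root_.mul_assoc, inv_mul_eq_iff_eq_mul] at h
    simp only [hneg]
    rw [← _root_.mul_assoc, h]
    simp only [_root_.mul_assoc]
    ring_nf
  · intro X x y Z
    have h := hC X (-x) y
    simp [prodPts_succ] at h
    rw [P_neg, _root_.mul_assoc, inv_mul_eq_iff_eq_mul] at h
    simp only [hneg]
    rw [← _root_.mul_assoc, h]
    simp only [_root_.mul_assoc]
    ring_nf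
  · intro X x y Z
    have h := hE X (-x) y
    simp [prodPts_succ] at h
    rw [P_neg, _root_.mul_assoc, inv_mul_eq_iff_eq_mul] at h
    simp only [hneg]
    rw [← _root_.mul_assoc, h]
    simp only [_root_.mul_assoc]
    ring_nf
  · intro X x y Z
    have h := hK X (-x) y
    simp [prodPts_succ] at h
    rw [P_neg, _root_.mul_assoc, inv_mul_eq_iff_eq_mul] at h
    simp only [hneg]
    rw [← _root_.mul_assoc, h]
    simp only [_root_.mul_assoc]
    ring_nf

variable {C : Cst S} (hr : Rel D a b c d e f C)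
include hr

/-- Additivity in `x` of the rule for `b` and `a`. -/
theorem assoc_x (X : Over S) (x y : Γ(X.left, ⊤)) :
    res X C.s * (x + y) ^ 2 = res X C.s * (x ^ 2 + y ^ 2) + res X C.t * res X C.k₂ * (x * y) ∧
      res X C.r * (x + y) ^ 3 = res X C.r * (x ^ 3 + y ^ 3) + res X C.t * res X C.k₃ * (x * y ^ 2) +
        res X C.s * res X C.l * (x ^ 2 * y) ∧
      res X C.q * (x + y) ^ 3 = res X C.q * (x ^ 3 + y ^ 3) + res X C.k * res X C.t * res X C.s * (x * y ^ 2) +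
        res X C.t * res X C.t * res X C.k₄ * (x ^ 2 * y) := by
  obtain ⟨ba, ca, da, eb, dc, cb, db, ea, ec, ed, fa, fb, fc, fd, fe⟩ := hr
  have h1 : P (D.u b) (1 : Γ(X.left, ⊤)) * (P (D.u a) (x + y) * 1) =
      P (D.u b) (1 : Γ(X.left, ⊤)) * (P (D.u a) x * (P (D.u a) y * 1)) := by rw [P_merge]
  rw [ba, ba] at h1
  simp only [ba, ca, da, eb, dc, cb, db, ea, ec, ed, fa, fb, fc, fd, fe, P_merge] at h1
  simp only [_root_.mul_one] at h1
  obtain ⟨-, -, -, h2, h3, h4⟩ := coords h _ _ _ _ _ _ _ _ _ _ _ _ h1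
  exact ⟨by linear_combination h2, by linear_combination h3, by linear_combination h4⟩

/-- Additivity in `y` of the rule for `b` and `a`. -/
theorem assoc_y (X : Over S) : 2 * res X C.q = res X C.g * res X C.r + res X C.k * res X C.t * res X C.s := by
  obtain ⟨ba, ca, da, eb, dc, cb, db, ea, ec, ed, fa, fb, fc, fd, fe⟩ := hr
  have h1 : P (D.u b) ((1 : Γ(X.left, ⊤)) + 1) * (P (D.u a) 1 * 1) =
      P (D.u b) (1 : Γ(X.left, ⊤)) * (P (D.u b) 1 * (P (D.u a) 1 * 1)) := by rw [P_merge (D := D) b]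
  rw [ba, ba] at h1
  simp only [ba, ca, da, eb, dc, cb, db, ea, ec, ed, fa, fb, fc, fd, fe, P_merge] at h1
  simp only [_root_.mul_one] at h1
  obtain ⟨-, -, -, -, -, h4⟩ := coords h _ _ _ _ _ _ _ _ _ _ _ _ h1
  linear_combination h4

/-- The relations between the structure constants. -/
theorem relations : C.t * C.k₂ = 2 * C.s ∧ C.t * C.k₃ = 3 * C.r ∧ C.s * C.l = 3 * C.r ∧
    C.k * C.t * C.s = 3 * C.q ∧ C.t * C.t * C.k₄ = 3 * C.q ∧ C.q = -(C.g * C.r) := by
  have e1 : C.t * C.k₂ = 2 * C.s := by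
    obtain ⟨h1, -, -⟩ := assoc_x h hr (𝟙_ (Over S)) 1 1
    simp only [res_unit] at h1
    linear_combination -h1
  have sq' : ∀ {A : Type u} [CommRing A] {ε : A}, ε * ε = 0 → ε ^ 2 = 0 ∧ ε ^ 3 = 0 := fun h =>
    ⟨by rw [_root_.sq, h], by rw [pow_succ, _root_.sq, h, MulZeroClass.zero_mul]⟩
  have hm : ∀ (X : Over S) (A B : Γ(S, ⊤)), res X (A * B) = res X A * res X B := fun X A B => map_mul _ A B
  have h3 : ∀ (X : Over S), res X (3 : Γ(S, ⊤)) = 3 := fun X => map_ofNat _ 3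
  have e2 : C.t * C.k₃ = 3 * C.r := eq_of_res_mul_sqZero fun X ε hε => by
    obtain ⟨-, h2, -⟩ := assoc_x h hr X ε 1
    obtain ⟨s2, s3⟩ := sq' hε
    rw [hm, hm, h3]
    linear_combination -h2 + (3 * res X C.r - res X C.s * res X C.l) * s2
  have e3 : C.s * C.l = 3 * C.r := eq_of_res_mul_sqZero fun X ε hε => by
    obtain ⟨-, h2, -⟩ := assoc_x h hr X 1 ε
    obtain ⟨s2, s3⟩ := sq' hε
    rw [hm, hm, h3]
    linear_combination -h2 + (3 * res X C.r - res X C.t * res X C.k₃) * s2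
  have e4 : C.k * C.t * C.s = 3 * C.q := eq_of_res_mul_sqZero fun X ε hε => by
    obtain ⟨-, -, h2⟩ := assoc_x h hr X ε 1
    obtain ⟨s2, s3⟩ := sq' hε
    rw [hm, hm, hm, h3]
    linear_combination -h2 + (3 * res X C.q - res X C.t * res X C.t * res X C.k₄) * s2
  have e5 : C.t * C.t * C.k₄ = 3 * C.q := eq_of_res_mul_sqZero fun X ε hε => by
    obtain ⟨-, -, h2⟩ := assoc_x h hr X 1 ε
    obtain ⟨s2, s3⟩ := sq' hε
    rw [hm, hm, hm, h3]
    linear_combination -h2 + (3 * res X C.q - res X C.k * res X C.t * res X C.s) * s2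
  refine ⟨e1, e2, e3, e4, e5, ?_⟩
  have h6 := assoc_y h hr (𝟙_ (Over S))
  simp only [res_unit] at h6
  linear_combination -h6 - e4

/-- The conjugation by `el a z`. -/
theorem el_conj_b {z : Γ(S, ⊤)} (hz : Flip D (el D a z) a z) (hb : Maps (el D a z) b e)
    (hc' : Maps (el D a z) c d) (hd' : Maps (el D a z) d c) (he' : Maps (el D a z) e b) :
    ∀ (X : Over S) (x : Γ(X.left, ⊤)),
      el D a z X * P (D.u b) x = P (D.u e) (-(res X C.r * x)) * el D a z X ∧
      el D a z X * P (D.u c) (res X C.t * x) = P (D.u d) (res X C.s * x) * el D a z X ∧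
      el D a z X * P (D.u d) (res X C.s * x) = P (D.u c) (-(res X C.t * x)) * el D a z X ∧
      el D a z X * P (D.u e) (res X C.r * x) = P (D.u b) x * el D a z X ∧
      el D a z X * P (D.u f) x = P (D.u f) x * el D a z X := by
  obtain ⟨ba, ca, da, eb, dc, cb, db, ea, ec, ed, fa, fb, fc, fd, fe⟩ := hr
  obtain ⟨F, hF⟩ := h.pair.exists_comm (α := D.P.reflectionPerm a a) (β := e) co_left.neg h.he (-1) 10
    (by norm_num) (by norm_num) ![d, c, b, f] ![1, 2, 3, 3] ![1, 1, 1, 2] (fun k => by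
      fin_cases k <;> [exact ⟨le_rfl, le_rfl, by simpa using h.hd⟩; exact ⟨by simp, by simp, by simpa using h.hc⟩;
        exact ⟨by simp, by simp, by simp [Co]⟩; exact ⟨by simp, by simp, by simpa using h.hf⟩])
    (by decide) (fun p q h1 h2 hh => by simp [posList, Fin.exists_fin_succ] at hh ⊢; omega)
  have hF' : ∀ (X : Over S) (σ w : Γ(X.left, ⊤)), ∃ j,
      P (D.u (D.P.reflectionPerm a a)) σ * P (D.u e) w * P (D.u (D.P.reflectionPerm a a)) (-σ) =
        P (D.u b) (res X (F 2) * σ ^ 3 * w) * (P (D.u c) (res X (F 1) * σ ^ 2 * w) *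
          (P (D.u d) (res X (F 0) * σ * w) * (P (D.u e) w * P (D.u f) j))) := fun X σ w => by
    have h1 := hF X σ w
    simp [prodPts_succ] at h1
    rw [← _root_.mul_one (P (D.u f) _)] at h1
    simp only [_root_.mul_assoc, cb, db, eb, dc, ec, ed, fb, fc, fd, fe, P_merge] at h1
    simp only [_root_.mul_one] at h1
    simp only [_root_.mul_assoc]
    exact ⟨_, h1⟩
  have hK : ∀ (X : Over S) (x : Γ(X.left, ⊤)), ∃ j,
      P (D.u a) (1 : Γ(X.left, ⊤)) * P (D.u b) x * P (D.u a) (-1 : Γ(X.left, ⊤)) =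
        P (D.u b) x * (P (D.u c) (-(res X C.t * x)) * (P (D.u d) (res X C.s * x) *
          (P (D.u e) (-(res X C.r * x)) * P (D.u f) j))) := fun X x => by
    refine ⟨res X C.q * ((-1) ^ 3 * x ^ 2), ?_⟩
    rw [_root_.mul_assoc, ← _root_.mul_one (P (D.u a) (-1 : Γ(X.left, ⊤))), ba, P_merge, add_neg_cancel, P_zero,
      _root_.one_mul, _root_.mul_one]
    ring_nf
  have hf' : ∀ (X : Over S) (x : Γ(X.left, ⊤)), el D a z X * P (D.u f) x = P (D.u f) x * el D a z X := fun X x => by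
    have hn : ∀ (σ : Γ(X.left, ⊤)) (Z : X ⟶ G), P (D.u (D.P.reflectionPerm a a)) σ * (P (D.u f) x * Z) =
        P (D.u f) x * (P (D.u (D.P.reflectionPerm a a)) σ * Z) := fun σ Z =>
      h.pair.comm co_left.neg h.hf (by norm_num) (by decide) (by decide) σ x Z
    rw [← _root_.mul_one (el D a z X * P (D.u f) x), ← _root_.mul_one (P (D.u f) x * el D a z X), el]
    simp only [_root_.mul_assoc, ← fa, hn]
  have main : ∀ (X : Over S) (x : Γ(X.left, ⊤)),
      el D a z X * P (D.u b) x = P (D.u e) (-(res X C.r * x)) * el D a z X ∧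
      el D a z X * P (D.u c) (-(res X C.t * x)) = P (D.u d) (-(res X C.s * x)) * el D a z X ∧
      el D a z X * P (D.u d) (res X C.s * x) = P (D.u c) (-(res X C.t * x)) * el D a z X ∧
      el D a z X * P (D.u e) (-(res X C.r * x)) = P (D.u b) (-x) * el D a z X := by
    intro X x
    obtain ⟨x', hx'⟩ := hb X x
    have h1 := el_conj hx'
    have htop : P (D.u a) (-1 : Γ(X.left, ⊤)) * P (D.u e) x' * P (D.u a) (1 : Γ(X.left, ⊤)) = P (D.u e) x' := by
      rw [_root_.mul_assoc, ← _root_.mul_one (P (D.u a) (1 : Γ(X.left, ⊤))), ea, P_merge, neg_add_cancel, P_zero,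
        _root_.one_mul, _root_.mul_one]
    obtain ⟨j, h2⟩ := hF' X (-res X z) x'
    rw [neg_neg] at h2
    obtain ⟨j', hk⟩ := hK X x
    rw [hk, htop, h2] at h1
    obtain ⟨e0, e1, e2, e3, -⟩ := coords_bcdef h _ _ _ _ _ _ _ _ _ _ h1
    subst e3
    obtain ⟨v₂, hv₂⟩ := hc' X (-(res X C.t * x))
    obtain ⟨v₁, hv₁⟩ := hd' X (res X C.s * x)
    obtain ⟨v₀, hv₀⟩ := he' X (-(res X C.r * x))
    have h3 := el_conj_conj hz hx'
    obtain ⟨j'', h4⟩ := hF' X (res X z) (-(res X C.r * x))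
    rw [hk, h4, ← _root_.mul_assoc, hx', _root_.mul_assoc _ (el D a z X), ← _root_.mul_assoc (el D a z X), hv₂,
      _root_.mul_assoc _ (el D a z X), ← _root_.mul_assoc (el D a z X), hv₁, _root_.mul_assoc _ (el D a z X),
      ← _root_.mul_assoc (el D a z X), hv₀, _root_.mul_assoc _ (el D a z X), hf' X, ← _root_.mul_assoc,
      ← _root_.mul_assoc, ← _root_.mul_assoc, ← _root_.mul_assoc, mul_left_inj] at h3
    rw [← _root_.mul_one (P (D.u e) (-(res X C.r * x)) * P (D.u d) v₂ * P (D.u c) v₁ * P (D.u b) v₀ *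
      P (D.u f) j')] at h3
    simp only [_root_.mul_assoc, cb, db, eb, dc, ec, ed, fb, fc, fd, fe, P_merge] at h3
    simp only [_root_.mul_one] at h3
    obtain ⟨f0, f1, f2, -, -⟩ := coords_bcdef h _ _ _ _ _ _ _ _ _ _ h3
    obtain rfl : v₂ = -(res X C.s * x) := by rw [f2]; linear_combination e2
    obtain rfl : v₁ = -(res X C.t * x) := by rw [f1]; linear_combination -e1
    obtain rfl : v₀ = -x := by rw [f0]; linear_combination e0
    exact ⟨hx', hv₂, hv₁, hv₀⟩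
  intro X x
  obtain ⟨m1, -, m3, -⟩ := main X x
  obtain ⟨-, m2, -, m4⟩ := main X (-x)
  rw [mul_neg, neg_neg] at m2 m4
  rw [mul_neg, neg_neg] at m2
  rw [neg_neg] at m4
  exact ⟨m1, m2, m3, m4, hf' X x⟩

/-- The conjugation by `el b z`. -/
theorem el_conj_a {z : Γ(S, ⊤)} (hz : Flip D (el D b z) b z) (ha : Maps (el D b z) a c)
    (hc' : Maps (el D b z) c a) (he' : Maps (el D b z) e f) (hfe : Maps (el D b z) f e) :
    ∀ (X : Over S) (x : Γ(X.left, ⊤)),
      el D b z X * P (D.u a) x = P (D.u c) (res X C.t * x) * el D b z X ∧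
      el D b z X * P (D.u c) (res X C.t * x) = P (D.u a) (-x) * el D b z X ∧
      el D b z X * P (D.u d) x = P (D.u d) x * el D b z X ∧
      el D b z X * P (D.u e) (res X C.r * x) = P (D.u f) (res X C.q * x) * el D b z X ∧
      el D b z X * P (D.u f) (res X C.q * x) = P (D.u e) (-(res X C.r * x)) * el D b z X := by
  have hq := (relations h hr).2.2.2.2.2
  have hq' : ∀ X : Over S, res X C.q = -(res X C.g * res X C.r) := fun X => by
    rw [hq, res, res, res, map_neg, map_mul]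
  obtain ⟨ba, ca, da, eb, dc, cb, db, ea, ec, ed, fa, fb, fc, fd, fe⟩ := hr
  -- the pair `(e, b)`
  have hp' : Pair D e b 1 := by
    obtain ⟨-, h1, h2⟩ := h.pair.pairing_a h.he
    have hA := h.pair.bounds h.he one_ne_zero
    simp only [Set.mem_insert_iff, Set.mem_singleton_iff, Prod.mk.injEq] at hA
    refine ⟨?_, by rw [h1]; norm_num, fun ⟨v, hv⟩ => ?_, Or.inl rfl, fun ⟨v, hv⟩ =>
      h.pair.not_root (i := 6) (j := 2) (by decide) (by decide) ⟨v, by rw [hv, h.he]; module⟩⟩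
    · have h0 := (h.pair.pairing_a h.he).1
      omega
    · refine h.pair.not_root (i := -3) (j := 0) (by decide) (by decide) ⟨v, ?_⟩
      rw [hv, h.he]; module
  have hef : Co e b f 1 1 := by
    rw [Co, h.he, h.hf]; module
  have hrel : A2.Rel D e b f (-C.g) := fun X x y Z => by
    rw [eb X y x, P_merge, show res X C.g * (y * x) + res X (-C.g) * (x * y) = 0 by
      rw [res, res, map_neg]; ring, P_zero, _root_.one_mul]
  obtain ⟨ge, gf⟩ := A2.el_conj_a hp' hef hrel he'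
  obtain ⟨F, hF⟩ := h.pair.exists_comm (α := D.P.reflectionPerm b b) (β := c) co_right.neg h.hc 10 (-1)
    (by norm_num) (by norm_num) ![a, d, f, e] ![1, 1, 1, 2] ![1, 2, 3, 3] (fun k => by
      fin_cases k <;> [exact ⟨le_rfl, le_rfl, by simp [Co]⟩; exact ⟨by simp, by simp, by simpa using h.hd⟩;
        exact ⟨by simp, by simp, by simpa using h.hf⟩; exact ⟨by simp, by simp, by simpa using h.he⟩])
    (by decide) (fun p q h1 h2 hh => by simp [posList, Fin.exists_fin_succ] at hh ⊢; omega)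
  have hF' : ∀ (X : Over S) (σ w : Γ(X.left, ⊤)), ∃ j₃ j₄ j₅,
      P (D.u (D.P.reflectionPerm b b)) σ * P (D.u c) w * P (D.u (D.P.reflectionPerm b b)) (-σ) =
        P (D.u a) (res X (F 0) * σ * w) * (P (D.u c) w * (P (D.u d) j₃ * (P (D.u e) j₄ * P (D.u f) j₅))) :=
    fun X σ w => by
    have h1 := hF X σ w
    simp [prodPts_succ] at h1
    rw [← _root_.mul_one (P (D.u e) _)] at h1
    simp only [_root_.mul_assoc, ca, da, dc, ea, ec, ed, fa, fc, fd, fe, P_merge] at h1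
    simp only [_root_.mul_one] at h1
    simp only [_root_.mul_assoc]
    exact ⟨_, _, _, h1⟩
  have hK : ∀ (X : Over S) (x : Γ(X.left, ⊤)), ∃ j,
      P (D.u b) (1 : Γ(X.left, ⊤)) * P (D.u a) x * P (D.u b) (-1 : Γ(X.left, ⊤)) =
        P (D.u a) x * (P (D.u c) (res X C.t * x) * (P (D.u d) (res X C.s * x ^ 2) *
          (P (D.u e) (res X C.r * x ^ 3) * P (D.u f) j))) := fun X x => by
    have h1 : P (D.u b) (1 : Γ(X.left, ⊤)) * P (D.u a) x * P (D.u b) (-1 : Γ(X.left, ⊤)) =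
        P (D.u b) (1 : Γ(X.left, ⊤)) * (P (D.u a) x * (P (D.u b) (-1 : Γ(X.left, ⊤)) * 1)) := by
      rw [_root_.mul_one, _root_.mul_assoc]
    rw [ba] at h1
    simp only [cb, db, eb, fb, fe, P_merge] at h1
    simp only [_root_.mul_one, add_neg_cancel, P_zero, _root_.one_mul, one_pow] at h1
    exact ⟨_, h1⟩
  have hd' : ∀ (X : Over S) (x : Γ(X.left, ⊤)), el D b z X * P (D.u d) x = P (D.u d) x * el D b z X := fun X x => by
    have hn : ∀ (σ : Γ(X.left, ⊤)) (Z : X ⟶ G), P (D.u (D.P.reflectionPerm b b)) σ * (P (D.u d) x * Z) =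
        P (D.u d) x * (P (D.u (D.P.reflectionPerm b b)) σ * Z) := fun σ Z =>
      h.pair.comm co_right.neg h.hd (by norm_num) (by decide) (by decide) σ x Z
    rw [← _root_.mul_one (el D b z X * P (D.u d) x), ← _root_.mul_one (P (D.u d) x * el D b z X), el]
    simp only [_root_.mul_assoc, ← db, hn]
  intro X x
  obtain ⟨x', hx'⟩ := ha X x
  have h1 := el_conj hx'
  have htop : P (D.u b) (-1 : Γ(X.left, ⊤)) * P (D.u c) x' * P (D.u b) (1 : Γ(X.left, ⊤)) = P (D.u c) x' := by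
    rw [_root_.mul_assoc, ← _root_.mul_one (P (D.u b) (1 : Γ(X.left, ⊤))), cb, P_merge, neg_add_cancel, P_zero,
      _root_.one_mul, _root_.mul_one]
  obtain ⟨j₃, j₄, j₅, h2⟩ := hF' X (-res X z) x'
  rw [neg_neg] at h2
  obtain ⟨j, hk⟩ := hK X x
  rw [hk, htop, h2] at h1
  obtain ⟨e0, e1, -, -, -⟩ := coords_acdef h _ _ _ _ _ _ _ _ _ _ h1
  subst e1
  obtain ⟨v, hv⟩ := hc' X (res X C.t * x)
  have hf' : ∀ y : Γ(X.left, ⊤), el D b z X * P (D.u f) (res X C.q * y) =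
      P (D.u e) (-(res X C.r * y)) * el D b z X := fun y => by
    rw [show res X C.q * y = res X (-C.g) * (res X C.r * y) by rw [hq', res, res, res, map_neg]; ring]
    exact gf hz X (res X C.r * y)
  have he'' : ∀ y : Γ(X.left, ⊤), el D b z X * P (D.u e) (res X C.r * y) =
      P (D.u f) (res X C.q * y) * el D b z X := fun y => by
    rw [ge X, show res X (-C.g) * (res X C.r * y) = res X C.q * y by rw [hq', res, res, res, map_neg]; ring]
  refine ⟨hx', ?_, hd' X x, he'' x, hf' x⟩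
  have h3 := el_conj_conj hz hx'
  obtain ⟨i₃, i₄, i₅, h4⟩ := hF' X (res X z) (res X C.t * x)
  obtain ⟨w, hw⟩ := hfe X j
  rw [hk, h4, ← _root_.mul_assoc, hx', _root_.mul_assoc _ (el D b z X), ← _root_.mul_assoc (el D b z X), hv,
    _root_.mul_assoc _ (el D b z X), ← _root_.mul_assoc (el D b z X), hd' X, _root_.mul_assoc _ (el D b z X),
    ← _root_.mul_assoc (el D b z X), he'', _root_.mul_assoc _ (el D b z X), hw, ← _root_.mul_assoc,
    ← _root_.mul_assoc, ← _root_.mul_assoc, ← _root_.mul_assoc, mul_left_inj] at h3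
  rw [← _root_.mul_one (P (D.u c) (res X C.t * x) * P (D.u a) v * P (D.u d) (res X C.s * x ^ 2) *
    P (D.u f) (res X C.q * x ^ 3) * P (D.u e) w)] at h3
  simp only [_root_.mul_assoc, ca, da, dc, ec, ed, fd, fe, P_merge] at h3
  simp only [_root_.mul_one] at h3
  obtain ⟨f0, -, -, -, -⟩ := coords_acdef h _ _ _ _ _ _ _ _ _ _ h3
  obtain rfl : v = -x := by rw [f0]; linear_combination e0
  exact hv

end Groth.Agent.H82.R2.G2
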