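import Groth.Agent.H82.R2.Braid
import Groth.Agent.H82.R2.B2
import Groth.Agent.H82.R2.G2
import Mathlib.LinearAlgebra.RootSystem.Chain

/-!
# Chevalley systems at the level of root groups
-/

set_option autoImplicit false
set_option linter.style.haveILetI false
set_option linter.unusedSectionVars false
universe u

open CategoryTheory MonoidalCategory CartesianMonoidalCategory MonObj GrpObj AlgebraicGeometry
open Groth.Agent.Lib.RedPts Groth.Agent.H82.BigCell Groth.Agent.H82.Contract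
open Groth.Agent.H82.RankOne (P P_eq P_add P_zero P_neg P_comp gmPt_eq)

namespace Groth.Agent.H82.R2

variable {S : Scheme.{u}} {G : Over S} [GrpObj G] {D : Red.SplitRed G}

/-- Conjugation by `u_c(1) u_{-c}(z) u_c(1)` carries every root group to the reflected one up to sign. -/
structure ChevEl (D : Red.SplitRed G) (c : D.idx) (z : Γ(S, ⊤)) : Prop where
  flip : Flip D (el D c z) c z
  conj : ∀ b, ∃ ε : Γ(S, ⊤), (ε = 1 ∨ ε = -1) ∧ ∀ (X : Over S) (x : Γ(X.left, ⊤)),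
    el D c z X * P (D.u b) x = P (D.u (D.P.reflectionPerm c b)) (res X ε * x) * el D c z X

theorem ChevEl.maps {c : D.idx} {z : Γ(S, ⊤)} (h : ChevEl D c z) {b b' : D.idx}
    (hb : D.P.reflectionPerm c b = b') : Maps (el D c z) b b' := fun X x => by
  obtain ⟨ε, -, he⟩ := h.conj b
  exact ⟨_, hb ▸ he X x⟩

/-- A constant in the conjugation is a sign. -/
theorem ChevEl.sign {c : D.idx} {z : Γ(S, ⊤)} (h : ChevEl D c z) {b b' : D.idx}
    (hb : D.P.reflectionPerm c b = b') {A B : Γ(S, ⊤)} (hA : A = 1 ∨ A = -1)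
    (hAB : el D c z (𝟙_ (Over S)) * P (D.u b) (res (𝟙_ (Over S)) A) =
      P (D.u b') (res (𝟙_ (Over S)) B) * el D c z (𝟙_ (Over S))) : B = 1 ∨ B = -1 := by
  obtain ⟨ε, hε, he⟩ := h.conj b
  rw [he, hb, mul_left_inj] at hAB
  haveI : IsClosedImmersion (D.u b').left := (D.rootHom b').2.1
  haveI : Mono (D.u b') := mono_of_isClosedImmersion _ inferInstance
  have h2 := congrArg Red.gaFn ((cancel_mono (D.u b')).1 hAB)
  rw [Ga.gaFn_gaPt, Ga.gaFn_gaPt, res_unit, res_unit, res_unit] at h2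
  rcases hA with rfl | rfl <;> rcases hε with rfl | rfl <;> rw [← h2] <;> simp

theorem res_intCast (X : Over S) (e : ℤ) : res X (e : Γ(S, ⊤)) = (e : Γ(X.left, ⊤)) := map_intCast _ e

/-- The data of a Chevalley system at the level of root groups. -/
theorem exists_chevEl (v vd : D.idx → (Red.Ga S ⟶ G))
    (hv : ∀ c, Red.IsRootHom D.i (D.split.hom.hom.hom ≫ Red.chi S (D.P.root c)) (v c))
    (avc : D.idx → (Red.Gm S ⟶ D.T))
    (havc : ∀ a, avc a = Red.DSmap S (D.P.coroot a).toAddMonoidHom ≫ D.split.inv.hom.hom)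
    (hvd : ∀ c, IsMonHom (vd c) ∧ ∀ (X : Over S) (x y : X ⟶ Red.Ga S), IsUnit (1 + Red.gaFn x * Red.gaFn y) →
        ∃ (x' y' : X ⟶ Red.Ga S) (z : X ⟶ Red.Gm S), Red.gmFn z = 1 + Red.gaFn x * Red.gaFn y ∧
          Red.gaFn x' * Red.gmFn z = Red.gaFn x ∧ Red.gaFn y' * Red.gmFn z = Red.gaFn y ∧
          (x ≫ v c) * (y ≫ vd c) = (y' ≫ vd c) * (z ≫ avc c ≫ D.i) * (x' ≫ v c))
    (e₁ : 𝟙_ (Over S) ⟶ Red.Ga S) (he₁ : Red.gaFn e₁ = 1)
    (n : D.idx → (𝟙_ (Over S) ⟶ G)) (hn : ∀ c, n c = (e₁ ≫ v c) * (e₁ ≫ vd c)⁻¹ * (e₁ ≫ v c))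
    (hSC : ∀ c b, ∃ ε : ℤ, (ε = 1 ∨ ε = -1) ∧ ∀ (X : Over S) (x y : X ⟶ Red.Ga S),
      Red.gaFn y = (ε : Γ(X.left, ⊤)) * Red.gaFn x →
        (toUnit X ≫ n c) * (x ≫ v b) * (toUnit X ≫ n c)⁻¹ = y ≫ v (D.P.reflectionPerm c b)) (c : D.idx) :
    ∃ z, ChevEl ({ D with u := v, rootHom := hv } : Red.SplitRed G) c z := by
  haveI : IsMonHom (v c) := (hv c).1
  haveI : IsMonHom (vd c) := (hvd c).1
  let D' : Red.SplitRed G := { D with u := v, rootHom := hv }
  let av : Red.Gm S ⟶ D.T := cochar D (D.P.coroot c).toAddMonoidHom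
  let H : ∀ {X : Over S}, Γ(X.left, ⊤)ˣ → (X ⟶ G) := fun u => Gm.gmPt u ≫ av ≫ D.i
  have hbr : ∀ X : Over S, P (v c) (1 : Γ(X.left, ⊤)) * P (vd c) (-1 : Γ(X.left, ⊤)) * P (v c) 1 =
      P (vd c) (-1 : Γ(X.left, ⊤)) * P (v c) 1 * P (vd c) (-1) := by
    refine braid (v c) (vd c) H (fun u w => ?_) (fun {X} u x => ?_) (fun {X} a b u hu => ?_)
    · simp only [H, ← Category.assoc, RankOne.gmPt_mul, MonObj.mul_comp]
    · have h1 := isRootPts D' c (Gm.gmPt u ≫ av) x
      have h2 : Red.gmFn ((Gm.gmPt u ≫ av) ≫ chr D (D.P.root c)) = (u : Γ(X.left, ⊤)) * (u : Γ(X.left, ⊤)) := by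
        rw [gmFn_cochar, show (D.P.coroot c).toAddMonoidHom (D.P.root c) = 2 by
          have := D.P.root_coroot_eq_pairing c c
          rw [D.P.pairing_same, D.pairing_eq] at this
          exact this, zpow_two, Units.val_mul]
      rw [show Red.gmFn ((Gm.gmPt u ≫ av) ≫ chr D' (D'.P.root c)) = _ from h2] at h1
      simp only [H, ← Category.assoc]
      exact h1
    · obtain ⟨x', y', w, hw, hx', hy', hxy⟩ := (hvd c).2 X (Ga.gaPt a) (Ga.gaPt b) (by simpa [← hu] using u.isUnit)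
      simp only [Ga.gaFn_gaPt, ← hu] at hw hx' hy'
      rw [hw] at hx' hy'
      rw [← Units.eq_mul_inv_iff_mul_eq] at hx' hy'
      rw [P_eq, P_eq, P_eq, P_eq, hx', hy', Ga.gaFn_gaPt, Ga.gaFn_gaPt, gmPt_eq w hw, havc] at hxy
      exact hxy
  have hN : ∀ X : Over S, toUnit X ≫ n c =
      P (v c) (1 : Γ(X.left, ⊤)) * P (vd c) (-1 : Γ(X.left, ⊤)) * P (v c) 1 := fun X => by
    rw [hn]
    simp only [MonObj.comp_mul, GrpObj.comp_inv, P_eq, he₁, P_comp, map_one, P_neg]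
  obtain ⟨ε, hε, he⟩ := hSC c c
  have hgd : ∀ X : Over S, P (vd c) (-1 : Γ(X.left, ⊤)) = P (v (D.P.reflectionPerm c c)) (ε : Γ(X.left, ⊤)) := fun X => by
    have h1 := he X (Ga.gaPt 1) (Ga.gaPt ε) (by simp [Ga.gaFn_gaPt])
    simp only [P_eq, Ga.gaFn_gaPt] at h1
    rw [← h1, eq_comm, hN]
    conv_lhs =>
      arg 1
      arg 1
      rw [hbr X]
    rw [hbr X]
    have h2 := hbr X
    calc P (vd c) (-1 : Γ(X.left, ⊤)) * P (v c) 1 * P (vd c) (-1) * P (v c) 1 *
          (P (vd c) (-1 : Γ(X.left, ⊤)) * P (v c) 1 * P (vd c) (-1))⁻¹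
        = P (vd c) (-1) * (P (v c) 1 * P (vd c) (-1) * P (v c) 1) *
          (P (vd c) (-1 : Γ(X.left, ⊤)) * P (v c) 1 * P (vd c) (-1))⁻¹ := by group
      _ = P (vd c) (-1) := by rw [h2]; group
  refine ⟨(ε : Γ(S, ⊤)), ?_⟩
  have hel : ∀ X : Over S, el D' c (ε : Γ(S, ⊤)) X = toUnit X ≫ n c := fun X => by
    rw [hN, hgd, el, res_intCast]
  refine ⟨fun X => ?_, fun b => ?_⟩
  · rw [hel]
    obtain h1 := he X (Ga.gaPt 1) (Ga.gaPt ε) (by simp [Ga.gaFn_gaPt])
    simp only [P_eq, Ga.gaFn_gaPt] at h1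
    rw [res_intCast]
    exact mul_inv_eq_iff_eq_mul.1 h1
  · obtain ⟨ζ, hζ, hb⟩ := hSC c b
    refine ⟨(ζ : Γ(S, ⊤)), by rcases hζ with rfl | rfl <;> simp, fun X x => ?_⟩
    have h1 := hb X (Ga.gaPt x) (Ga.gaPt (ζ * x)) (by simp [Ga.gaFn_gaPt])
    simp only [P_eq, Ga.gaFn_gaPt] at h1
    rw [hel, res_intCast]
    exact mul_inv_eq_iff_eq_mul.1 h1

/-- A pair from a root string. -/
theorem exists_pair_of_string [D.P.IsCrystallographic] {a b : D.idx}
    (hind : ∀ r s : ℤ, r • D.P.root a + s • D.P.root b = 0 → r = 0 ∧ s = 0) {bot top : ℕ} (htop : 1 ≤ top)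
    (h1 : D.P.root b - (bot : ℤ) • D.P.root a ∈ Set.range D.P.root)
    (h2 : D.P.root b - ((bot + 1 : ℕ) : ℤ) • D.P.root a ∉ Set.range D.P.root)
    (h3 : D.P.root b + (top : ℤ) • D.P.root a ∈ Set.range D.P.root)
    (h4 : D.P.root b + ((top + 1 : ℕ) : ℤ) • D.P.root a ∉ Set.range D.P.root)
    (hlen : |D.P.pairing a b| ≤ |D.P.pairing b a|) :
    bot + top ≤ 3 ∧ ∃ b₀, Co a b₀ b bot 1 ∧ D.P.root b₀ = D.P.root b - (bot : ℤ) • D.P.root a ∧
      D.P.pairing b₀ a = -((bot + top : ℕ) : ℤ) ∧ D.P.pairing a b₀ = -1 ∧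
      D.P.root b₀ - D.P.root a ∉ Set.range D.P.root := by
  have hli : LinearIndependent ℤ ![D.P.root a, D.P.root b] := LinearIndependent.pair_iff.2 hind
  have eb := D.P.root_sub_nsmul_mem_range_iff_le_chainBotCoeff hli (n := bot)
  have eb' := D.P.root_sub_nsmul_mem_range_iff_le_chainBotCoeff hli (n := bot + 1)
  have et := D.P.root_add_nsmul_mem_range_iff_le_chainTopCoeff hli (n := top)
  have et' := D.P.root_add_nsmul_mem_range_iff_le_chainTopCoeff hli (n := top + 1)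
  rw [← natCast_zsmul] at eb eb' et et'
  have hb : D.P.chainBotCoeff a b = bot := by
    have := eb.1 h1
    have := mt eb'.2 h2
    omega
  have ht : D.P.chainTopCoeff a b = top := by
    have := et.1 h3
    have := mt et'.2 h4
    omega
  have hp : D.P.pairing b a = (bot : ℤ) - top := by
    rw [← pairingIn_eq, ← D.P.chainBotCoeff_sub_chainTopCoeff hli, hb, ht]
  have h5 : bot + top ≤ 3 := by
    have e := D.P.chainBotCoeff_add_chainTopCoeff_eq_pairingIn_chainTopIdx hli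
    have hli' : LinearIndependent ℤ ![D.P.root (D.P.chainTopIdx a b), D.P.root a] := by
      refine LinearIndependent.pair_iff.2 fun p q h => ?_
      rw [D.P.root_chainTopIdx] at h
      obtain ⟨h1, h2⟩ := hind (p * D.P.chainTopCoeff a b + q) p (by rw [← h]; push_cast; module)
      exact ⟨h2, by subst h2; simpa using h1⟩
    have h4 := (D.P.linearIndependent_iff_coxeterWeightIn_ne_four ℤ).1 hli'
    have hset := D.P.pairingIn_pairingIn_mem_set_of_isCrystallographic (D.P.chainTopIdx a b) a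
    simp only [RootPairing.coxeterWeightIn] at h4
    simp only [Set.mem_insert_iff, Set.mem_singleton_iff, Prod.mk.injEq] at hset
    rcases hset with h | h | h | h | h | h | h | h | h | h | h | h | h | h | h | h | h <;>
      first
        | omega
        | (rw [h.1, h.2] at h4; norm_num at h4)
  obtain ⟨b₀, hb₀⟩ := h1
  have hco : Co a b₀ b bot 1 := by rw [Co, hb₀]; module
  refine ⟨h5, b₀, hco, hb₀, ?_⟩
  have hp0 : D.P.pairing b₀ a = -((bot + top : ℕ) : ℤ) := by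
    have h := congrArg (D.P.coroot' a) hb₀
    simp only [map_sub, map_zsmul, D.P.root_coroot'_eq_pairing, D.P.pairing_same, smul_eq_mul, hp] at h
    omega
  have hne : a ≠ b₀ ∧ D.P.root a ≠ -D.P.root b₀ := by
    refine ⟨fun e => ?_, fun e => ?_⟩
    · obtain ⟨-, h⟩ := hind (1 + bot) (-1) (by rw [hco, ← e]; module)
      omega
    · obtain ⟨-, h⟩ := hind (1 - bot) 1 (by linear_combination (norm := module) e - hb₀)
      omega
  have hli0 : LinearIndependent ℤ ![D.P.root a, D.P.root b₀] := LinearIndependent.pair_iff.2 fun p q h => by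
    obtain ⟨h1, h2⟩ := hind (p - q * bot) q (by rw [← h, hb₀]; module)
    exact ⟨by subst h2; simpa using h1, h2⟩
  have h44 := (D.P.linearIndependent_iff_coxeterWeightIn_ne_four ℤ).1 hli0
  rw [RootPairing.coxeterWeightIn, pairingIn_eq, pairingIn_eq, hp0] at h44
  have hset := D.P.pairingIn_pairingIn_mem_set_of_isCrystallographic a b₀
  rw [pairingIn_eq, pairingIn_eq, hp0] at hset
  simp only [Set.mem_insert_iff, Set.mem_singleton_iff, Prod.mk.injEq] at hset
  have hab : D.P.pairing a b₀ = -1 := by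
    rcases eq_or_lt_of_le (show 1 ≤ bot + top by omega) with e | e
    · obtain rfl : bot = 0 := by omega
      obtain rfl : b₀ = b := D.P.root.injective (by rw [hb₀]; simp)
      rw [hp, show ((0 : ℕ) : ℤ) - top = -1 by omega, abs_neg, abs_one, abs_le] at hlen
      omega
    · rcases hset with h | h | h | h | h | h | h | h | h | h | h | h | h | h | h | h | h <;>
        first
          | omega
          | (rw [h.1, h.2] at h44; norm_num at h44)
  refine ⟨hp0, hab, fun ⟨c, hc⟩ => h2 ⟨c, ?_⟩⟩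
  rw [hc, hb₀]; push_cast; module

end Groth.Agent.H82.R2
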