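import Groth.Agent.H82.R2.BC

/-!
# The commutator table of a Chevalley system: root strings
-/

set_option autoImplicit false
set_option linter.style.haveILetI false
set_option linter.unusedSectionVars false
universe u

open CategoryTheory MonoidalCategory CartesianMonoidalCategory MonObj GrpObj AlgebraicGeometry
open Groth.Agent.Lib.RedPts Groth.Agent.H82.BigCell Groth.Agent.H82.Contract
open Groth.Agent.H82.RankOne (P P_eq P_add P_zero P_neg P_comp)

namespace Groth.Agent.H82.R2

variable {S : Scheme.{u}} {G : Over S} [GrpObj G] {D : Red.SplitRed G} [D.P.IsCrystallographic]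

/-- Without knowing that `2a` is not a root: the rules of type B₂, with constants that are signs. -/
theorem exists_B2 (hC : ∀ c, ∃ z, ChevEl D c z) {a b c d : D.idx} (pba : D.P.pairing b a = -2)
    (pab : D.P.pairing a b = -1) (sub : D.P.root b - D.P.root a ∉ Set.range D.P.root)
    (hc : Co a b c 1 1) (hd : Co a b d 2 1) :
    ∃ t s k, B2.Rel D a b c d t s k ∧ (t = 1 ∨ t = -1) ∧ (s = 1 ∨ s = -1) := by
  by_cases nm : D.P.root a + D.P.root a ∈ Set.range D.P.root
  · obtain ⟨e, he⟩ := nm
    exact BC.exists_rel ⟨pba, pab, he⟩ hC hc hd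
  have hp : Pair D a b 2 := ⟨pba, pab, sub, Or.inr (Or.inl rfl), nm⟩
  obtain ⟨t, s, k, hr⟩ := B2.exists_rel hp hc hd
  obtain ⟨z, hz⟩ := hC b
  obtain ⟨w, hw⟩ := hC a
  have bac : D.P.reflectionPerm b a = c := hp.co_inj (by simpa using hp.co_refl_b co_left) hc
  have bca : D.P.reflectionPerm b c = a := hp.co_inj (by simpa using hp.co_refl_b hc) co_left
  have abd : D.P.reflectionPerm a b = d := hp.co_inj (by simpa using hp.co_refl_a co_right) hd
  have acc : D.P.reflectionPerm a c = c := hp.co_inj (by simpa using hp.co_refl_a hc) hc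
  have adb : D.P.reflectionPerm a d = b := hp.co_inj (by simpa using hp.co_refl_a hd) co_right
  obtain ⟨f1, -, -⟩ := B2.el_conj_a hp hc hd hr hz.flip (hz.maps bac) (hz.maps bca) (𝟙_ (Over S)) 1
  obtain ⟨g1, -, -⟩ := B2.el_conj_b hp hc hd hr hw.flip (hw.maps abd) (hw.maps acc) (hw.maps adb) (𝟙_ (Over S)) 1
  exact ⟨t, s, k, hr, hz.sign bac (Or.inl rfl) (by simpa [res_unit] using f1),
    hw.sign abd (Or.inl rfl) (by simpa [res_unit] using g1)⟩

variable {a b c d : D.idx} {t s k : Γ(S, ⊤)}

/-- The constant `k` of type B₂. -/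
theorem B2_k (hr : B2.Rel D a b c d t s k) (ht : t = 1 ∨ t = -1) (X : Over S) :
    res X k = 2 * res X (t * s) := by
  have h := hr.tk
  rw [res_unit, res_unit, res_unit] at h
  have hk : k = (2 : ℕ) * (t * s) := by linear_combination t * h - k * sign_sq ht
  rw [hk, res_mul', res_natCast, Nat.cast_ofNat]

/-- The commutator of `a` and `a + b` in type B₂. -/
theorem chev_B2_two (hr : B2.Rel D a b c d t s k) (ht : t = 1 ∨ t = -1) (X : Over S) (x y : Γ(X.left, ⊤)) :
    P (D.u c) y * P (D.u a) x * (P (D.u c) y)⁻¹ * (P (D.u a) x)⁻¹ =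
      P (D.u d) (2 * res X (t * s) * (x * y)) := by
  refine commutator_eq ?_
  rw [hr.ca X x y 1, ← B2_k hr ht, hr.da, hr.dc]

/-- The commutator of `a` and `b` in type B₂. -/
theorem chev_B2_one (hr : B2.Rel D a b c d t s k) (X : Over S) (x y : Γ(X.left, ⊤)) :
    P (D.u b) y * P (D.u a) x * (P (D.u b) y)⁻¹ * (P (D.u a) x)⁻¹ =
      P (D.u c) (res X t * (x * y)) * P (D.u d) (res X (-s) * (x ^ 2 * y)) := by
  have m : res X t * res X k = 2 * res X s := by
    have h := hr.tk
    rw [res_unit, res_unit, res_unit] at h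
    rw [← res_mul', h, res_mul', res_two]
  refine commutator_eq ?_
  simp only [_root_.mul_assoc, res_neg]
  rw [hr.ba X x y 1]
  simp only [hr.ba, hr.ca, hr.cb, hr.da, hr.db, hr.dc, P_merge]
  repeat' apply congr_P
  all_goals first
    | rfl
    | linear_combination -(x ^ 2 * y) * m

/-- Twice the short root of a root string of odd total length is not a root. -/
theorem nm_of_odd {n : ℤ} (h : D.P.pairing b a = -n) (hn : n % 2 = 1) :
    D.P.root a + D.P.root a ∉ Set.range D.P.root := fun ⟨e, he⟩ => by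
  have := pairing_nsmul (k := 2) (c := e) (x := a) (by rw [he, two_zsmul]) b
  rw [h] at this
  omega

end Groth.Agent.H82.R2
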