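import Groth.Agent.H82.R2.Chev

/-!
# The commutator table of a Chevalley system
-/

set_option autoImplicit false
set_option linter.style.haveILetI false
set_option linter.unusedSectionVars false
universe u

open CategoryTheory MonoidalCategory CartesianMonoidalCategory MonObj GrpObj AlgebraicGeometry
open Groth.Agent.Lib.RedPts Groth.Agent.H82.BigCell Groth.Agent.H82.Contract
open Groth.Agent.H82.RankOne (P P_eq P_add P_zero P_neg P_comp)

namespace Groth.Agent.H82.R2

variable {S : Scheme.{u}} {G : Over S} [GrpObj G] {D : Red.SplitRed G}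

theorem res_natCast (X : Over S) (k : ℕ) : res X (k : Γ(S, ⊤)) = (k : Γ(X.left, ⊤)) := map_natCast _ k

theorem res_two (X : Over S) : res X (2 : Γ(S, ⊤)) = 2 := map_ofNat _ 2

theorem res_three (X : Over S) : res X (3 : Γ(S, ⊤)) = 3 := map_ofNat _ 3

/-- Products of root elements agree if their coordinates do. -/
theorem congr_P {c : D.idx} {X : Over S} {x x' : Γ(X.left, ⊤)} {Z Z' : X ⟶ G} (h : x = x') (h' : Z = Z') :
    P (D.u c) x * Z = P (D.u c) x' * Z' := by rw [h, h']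

/-- A commutator from a commutation identity. -/
theorem commutator_eq {a b : D.idx} {X : Over S} {x y : Γ(X.left, ⊤)} {R : X ⟶ G}
    (h : P (D.u b) y * (P (D.u a) x * 1) = R * (P (D.u a) x * (P (D.u b) y * 1))) :
    P (D.u b) y * P (D.u a) x * (P (D.u b) y)⁻¹ * (P (D.u a) x)⁻¹ = R := by
  simp only [_root_.mul_one] at h
  rw [h]
  group

theorem res_mul' (X : Over S) (A B : Γ(S, ⊤)) : res X (A * B) = res X A * res X B := map_mul _ A B

theorem sign_mul {R : Type*} [CommRing R] {A B : R} (hA : A = 1 ∨ A = -1) (hB : B = 1 ∨ B = -1) :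
    A * B = 1 ∨ A * B = -1 := by
  rcases hA with rfl | rfl <;> rcases hB with rfl | rfl <;> simp

theorem sign_neg {R : Type*} [CommRing R] {A : R} (hA : A = 1 ∨ A = -1) : -A = 1 ∨ -A = -1 := by
  rcases hA with rfl | rfl <;> simp

theorem sign_sq {R : Type*} [CommRing R] {A : R} (hA : A = 1 ∨ A = -1) : A * A = 1 := by
  rcases hA with rfl | rfl <;> simp

/-- A sign among global functions is an integer sign. -/
theorem sign_int {R : Type*} [CommRing R] {A : R} (hA : A = 1 ∨ A = -1) :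
    ∃ ε : ℤ, (ε = 1 ∨ ε = -1) ∧ A = (ε : R) := by
  rcases hA with rfl | rfl
  exacts [⟨1, Or.inl rfl, by simp⟩, ⟨-1, Or.inr rfl, by simp⟩]

variable [D.P.IsCrystallographic] (hC : ∀ c, ∃ z, ChevEl D c z) {a b : D.idx}
include hC

/-- The commutator in type A₂. -/
theorem chev_A2 (hp : Pair D a b 1) {c : D.idx} (hc : Co a b c 1 1) :
    ∃ t : Γ(S, ⊤), (t = 1 ∨ t = -1) ∧ ∀ (X : Over S) (x y : Γ(X.left, ⊤)),
      P (D.u b) y * P (D.u a) x * (P (D.u b) y)⁻¹ * (P (D.u a) x)⁻¹ = P (D.u c) (res X t * (x * y)) := by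
  obtain ⟨t, hr⟩ := A2.exists_rel hp hc
  obtain ⟨z, hz⟩ := hC b
  have hab : D.P.reflectionPerm b a = c := hp.co_inj (by simpa using hp.co_refl_b co_left) hc
  refine ⟨t, hz.sign hab (Or.inl rfl) ?_, fun X x y => commutator_eq ?_⟩
  · simpa [res_unit] using (A2.el_conj_a hp hc hr (hz.maps hab)).1 (𝟙_ (Over S)) 1
  · have hca : ∀ (u w : Γ(X.left, ⊤)) (Z : X ⟶ G), P (D.u c) u * (P (D.u a) w * Z) =
        P (D.u a) w * (P (D.u c) u * Z) := A2.comm_ac hp hc
    have hcb : ∀ (u w : Γ(X.left, ⊤)) (Z : X ⟶ G), P (D.u c) u * (P (D.u b) w * Z) =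
        P (D.u b) w * (P (D.u c) u * Z) := fun u w Z => (A2.comm_bc hp hc w u Z).symm
    rw [hr X x y 1, hca, hcb]

/-- The constants in type G₂ are signs. -/
theorem G2.signs {c d e f : D.idx} (h : G2.Ix D a b c d e f) {C : G2.Cst S} (hr : G2.Rel D a b c d e f C) :
    (C.t = 1 ∨ C.t = -1) ∧ (C.s = 1 ∨ C.s = -1) ∧ (C.r = 1 ∨ C.r = -1) ∧ (C.q = 1 ∨ C.q = -1) := by
  obtain ⟨z, hz⟩ := hC b
  obtain ⟨w, hw⟩ := hC a
  have hp := h.pair
  have bac : D.P.reflectionPerm b a = c := hp.co_inj (by simpa using hp.co_refl_b co_left) h.hc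
  have bca : D.P.reflectionPerm b c = a := hp.co_inj (by simpa using hp.co_refl_b h.hc) co_left
  have bef : D.P.reflectionPerm b e = f := hp.co_inj (by simpa using hp.co_refl_b h.he) h.hf
  have bfe : D.P.reflectionPerm b f = e := hp.co_inj (by simpa using hp.co_refl_b h.hf) h.he
  have abe : D.P.reflectionPerm a b = e := hp.co_inj (by simpa using hp.co_refl_a co_right) h.he
  have acd : D.P.reflectionPerm a c = d := hp.co_inj (by simpa using hp.co_refl_a h.hc) h.hd
  have adc : D.P.reflectionPerm a d = c := hp.co_inj (by simpa using hp.co_refl_a h.hd) h.hc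
  have aeb : D.P.reflectionPerm a e = b := hp.co_inj (by simpa using hp.co_refl_a h.he) co_right
  obtain ⟨f1, -, -, f4, -⟩ := G2.el_conj_a h hr hz.flip (hz.maps bac) (hz.maps bca) (hz.maps bef) (hz.maps bfe)
    (𝟙_ (Over S)) 1
  obtain ⟨g1, g2, -, -, -⟩ := G2.el_conj_b h hr hw.flip (hw.maps abe) (hw.maps acd) (hw.maps adc) (hw.maps aeb)
    (𝟙_ (Over S)) 1
  have ht : C.t = 1 ∨ C.t = -1 := hz.sign bac (Or.inl rfl) (by simpa [res_unit] using f1)
  have hs : C.s = 1 ∨ C.s = -1 := hw.sign acd ht (by simpa [res_unit] using g2)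
  have hr' : -C.r = 1 ∨ -C.r = -1 := hw.sign abe (Or.inl rfl) (by simpa [res_unit] using g1)
  have hr'' : C.r = 1 ∨ C.r = -1 := by simpa using sign_neg hr'
  exact ⟨ht, hs, hr'', hz.sign bef hr'' (by simpa [res_unit] using f4)⟩

/-- The commutator of `a` and `2a + b` in type G₂. -/
theorem chev_G2_three {c d e f : D.idx} (h : G2.Ix D a b c d e f) :
    ∃ l : Γ(S, ⊤), (l = 1 ∨ l = -1) ∧ ∀ (X : Over S) (x y : Γ(X.left, ⊤)),
      P (D.u d) y * P (D.u a) x * (P (D.u d) y)⁻¹ * (P (D.u a) x)⁻¹ = P (D.u e) (3 * res X l * (x * y)) := by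
  obtain ⟨C, hr⟩ := G2.exists_rel h
  obtain ⟨-, hs, hr', -⟩ := G2.signs hC h hr
  obtain ⟨-, -, e3, -⟩ := G2.relations h hr
  refine ⟨C.s * C.r, sign_mul hs hr', fun X x y => commutator_eq ?_⟩
  have hl : C.l = (3 : ℕ) * (C.s * C.r) := by
    linear_combination C.s * e3 - C.l * sign_sq hs
  have hl' : res X C.l = 3 * res X (C.s * C.r) := by
    rw [hl, res, res, map_mul, map_natCast, Nat.cast_ofNat]
  rw [hr.da X x y 1, ← hl', hr.ea, hr.ed]

/-- The commutator of `a` and `b` in type G₂. -/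
theorem chev_G2_one {c d e f : D.idx} (h : G2.Ix D a b c d e f) :
    ∃ T U V W : Γ(S, ⊤), (T = 1 ∨ T = -1) ∧ (U = 1 ∨ U = -1) ∧ (V = 1 ∨ V = -1) ∧ (W = 1 ∨ W = -1) ∧
      ∀ (X : Over S) (x y : Γ(X.left, ⊤)),
      P (D.u b) y * P (D.u a) x * (P (D.u b) y)⁻¹ * (P (D.u a) x)⁻¹ =
        P (D.u c) (res X T * (x * y)) * P (D.u d) (res X U * (x ^ 2 * y)) *
          P (D.u e) (res X V * (x ^ 3 * y)) * P (D.u f) (res X W * (x ^ 3 * y ^ 2)) := by
  obtain ⟨C, hr⟩ := G2.exists_rel h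
  obtain ⟨ht, hs, hr', hq⟩ := G2.signs hC h hr
  obtain ⟨e1, e2, e3, -, e5, e6⟩ := G2.relations h hr
  refine ⟨C.t, -C.s, C.r, -C.q, ht, sign_neg hs, hr', sign_neg hq, fun X x y => commutator_eq ?_⟩
  have m1 : res X C.t * res X C.k₂ = 2 * res X C.s := by rw [← res_mul', e1, res, res, map_mul, map_ofNat]
  have m2 : res X C.t * res X C.k₃ = 3 * res X C.r := by rw [← res_mul', e2, res, res, map_mul, map_ofNat]
  have m3 : res X C.s * res X C.l = 3 * res X C.r := by rw [← res_mul', e3, res, res, map_mul, map_ofNat]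
  have m5 : res X C.t * res X C.t * res X C.k₄ = 3 * res X C.q := by
    rw [← res_mul', ← res_mul', e5, res, res, map_mul, map_ofNat]
  have m6 : res X C.q = -(res X C.g * res X C.r) := by rw [e6, res_neg, res_mul']
  simp only [_root_.mul_assoc, res_neg]
  rw [hr.ba X x y 1]
  simp only [hr.ba, hr.ca, hr.da, hr.eb, hr.dc, hr.cb, hr.db, hr.ea, hr.ec, hr.ed, hr.fa, hr.fb, hr.fc, hr.fd,
    hr.fe, P_merge]
  repeat' apply congr_P
  all_goals first
    | rfl
    | linear_combination -(x ^ 2 * y) * m1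
    | linear_combination (x ^ 3 * y) * m3 - (x ^ 3 * y) * m2
    | linear_combination -(x ^ 3 * y ^ 2) * m5 - (x ^ 3 * y ^ 2) * m6 + res X C.g * x ^ 3 * y ^ 2 * (m3 - m2)

/-- The commutator of `a` and `a + b` in type G₂. -/
theorem chev_G2_two {c d e f : D.idx} (h : G2.Ix D a b c d e f) :
    ∃ U V W : Γ(S, ⊤), (U = 1 ∨ U = -1) ∧ (V = 1 ∨ V = -1) ∧ (W = 1 ∨ W = -1) ∧
      ∀ (X : Over S) (x y : Γ(X.left, ⊤)),
      P (D.u c) y * P (D.u a) x * (P (D.u c) y)⁻¹ * (P (D.u a) x)⁻¹ =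
        P (D.u d) (2 * res X U * (x * y)) * P (D.u e) (3 * res X V * (x ^ 2 * y)) *
          P (D.u f) (3 * res X W * (x * y ^ 2)) := by
  obtain ⟨C, hr⟩ := G2.exists_rel h
  obtain ⟨ht, hs, hr', hq⟩ := G2.signs hC h hr
  obtain ⟨e1, e2, e3, e4, e5, -⟩ := G2.relations h hr
  refine ⟨C.s * C.t, -(C.r * C.t), -C.q, sign_mul hs ht, sign_neg (sign_mul hr' ht), sign_neg hq,
    fun X x y => commutator_eq ?_⟩
  have n2 : C.k₂ = (2 : ℕ) * (C.s * C.t) := by linear_combination C.t * e1 - C.k₂ * sign_sq ht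
  have n3 : C.k₃ = (3 : ℕ) * (C.r * C.t) := by linear_combination C.t * e2 - C.k₃ * sign_sq ht
  have nl : C.l = (3 : ℕ) * (C.r * C.s) := by linear_combination C.s * e3 - C.l * sign_sq hs
  have n4 : C.k₄ = (3 : ℕ) * C.q := by linear_combination e5 - C.k₄ * sign_sq ht
  have nk : C.k = (3 : ℕ) * (C.q * C.t * C.s) := by
    linear_combination C.t * C.s * e4 - C.k * C.t * C.t * sign_sq hs - C.k * sign_sq ht
  have m2 : res X C.k₂ = 2 * (res X C.s * res X C.t) := by simp only [n2, res_mul', res_natCast, Nat.cast_ofNat, res_two, res_three]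
  have m3 : res X C.k₃ = 3 * (res X C.r * res X C.t) := by simp only [n3, res_mul', res_natCast, Nat.cast_ofNat, res_two, res_three]
  have ml : res X C.l = 3 * (res X C.r * res X C.s) := by simp only [nl, res_mul', res_natCast, Nat.cast_ofNat, res_two, res_three]
  have m4 : res X C.k₄ = 3 * res X C.q := by simp only [n4, res_mul', res_natCast, Nat.cast_ofNat, res_two, res_three]
  have mk : res X C.k = 3 * (res X C.q * res X C.t * res X C.s) := by simp only [nk, res_mul', res_natCast, Nat.cast_ofNat, res_two, res_three]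
  have ts : res X C.t * res X C.t = 1 := by rw [← res_mul', sign_sq ht, res_one]
  have ss : res X C.s * res X C.s = 1 := by rw [← res_mul', sign_sq hs, res_one]
  simp only [_root_.mul_assoc, res_neg, res_mul']
  rw [hr.ca X x y 1]
  simp only [hr.ca, hr.da, hr.eb, hr.dc, hr.cb, hr.db, hr.ea, hr.ec, hr.ed, hr.fa, hr.fb, hr.fc, hr.fd,
    hr.fe, P_merge, m2, m3, ml, m4, mk]
  repeat' apply congr_P
  all_goals first
    | rfl
    | ring1
    | linear_combination -(6 * res X C.r * res X C.t * x ^ 2 * y) * ss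
    | linear_combination -(6 * res X C.q * x * y ^ 2 * res X C.s * res X C.s) * ts - (6 * res X C.q * x * y ^ 2) * ss

end Groth.Agent.H82.R2
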