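import Groth.Agent.H82.R2.Roots
import Groth.Agent.H82.Order.Filtration
import Groth.Agent.S8458

/-!
# Commutation rules and coordinates inside a rank two subsystem
-/

set_option autoImplicit false
set_option linter.style.haveILetI false
set_option linter.unusedSectionVars false
universe u

open CategoryTheory MonoidalCategory CartesianMonoidalCategory MonObj GrpObj AlgebraicGeometry
open Groth.Agent.Lib.RedPts Groth.Agent.H82.BigCell Groth.Agent.H82.Contract
open Groth.Agent.H82.RankOne (P P_eq P_add P_zero P_neg P_comp)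

namespace Groth.Agent.H82.R2

variable {S : Scheme.{u}} {G : Over S} [GrpObj G] {D : Red.SplitRed G}

/-- A global function on the base, on an `S`-scheme. -/
noncomputable def res (X : Over S) (C : Γ(S, ⊤)) : Γ(X.left, ⊤) := X.hom.appTop C

theorem res_comp {X X' : Over S} (h : X' ⟶ X) (C : Γ(S, ⊤)) : h.left.appTop (res X C) = res X' C := by
  rw [res, res, ← CommRingCat.comp_apply, ← Scheme.Hom.comp_appTop, Over.w]

theorem res_unit (C : Γ(S, ⊤)) : res (𝟙_ (Over S)) C = C := by simp [res]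

/-- Global functions are determined by their products with elements of square zero. -/
theorem eq_of_res_mul_sqZero {A A' : Γ(S, ⊤)}
    (h : ∀ (X : Over S) (ε : Γ(X.left, ⊤)), ε * ε = 0 → res X A * ε = res X A' * ε) : A = A' := by
  suffices res (𝟙_ (Over S)) A = res (𝟙_ (Over S)) A' by rwa [res_unit, res_unit] at this
  refine Order.fn_ext_piece fun q => ?_
  rw [res_comp, res_comp]
  let Y := piece (𝟙_ (Over S)) q
  haveI : IsAffine Y.left := inferInstanceAs (IsAffine ((𝟙_ (Over S)).left.affineCover.X q))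
  let φ : Γ(Y.left, ⊤) →+* DualNumber Γ(Y.left, ⊤) := algebraMap _ _
  have hY : ∀ C : Γ(S, ⊤), res (BigCell.ext Y φ) C = fn Y φ (φ (res Y C)) := fun C => by
    rw [← res_comp (extHom Y φ) C, extHom_fn]
  have h1 := h (BigCell.ext Y φ) (fn Y φ DualNumber.eps)
    (by rw [← map_mul, DualNumber.eps_mul_eps, map_zero])
  rw [hY, hY, ← map_mul, ← map_mul] at h1
  have h2 := congrArg TrivSqZeroExt.snd ((fn Y φ).injective h1)
  simpa [φ, TrivSqZeroExt.algebraMap_eq_inl] using h2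

/-- Merging two elements of a root group inside a product. -/
theorem P_merge (c : D.idx) {X : Over S} (x y : Γ(X.left, ⊤)) (Z : X ⟶ G) :
    P (D.u c) x * (P (D.u c) y * Z) = P (D.u c) (x + y) * Z := by
  rw [← _root_.mul_assoc, ← P_add]

/-- The commutation formula on functions. -/
theorem exists_comm {l : D.M →+ ℤ} (hl : ∀ d, l (D.P.root d) ≠ 0) {α β : D.idx}
    (hlα : 0 < l (D.P.root α)) (hlβ : 0 < l (D.P.root β)) {m : ℕ} (c : Fin m → D.idx) (i j : Fin m → ℕ)
    (hc : Function.Injective c) (hdep : LinearIndependent ℤ ![D.P.root α, D.P.root β])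
    (hij : ∀ k, 1 ≤ i k ∧ 1 ≤ j k ∧ D.P.root (c k) = (i k : ℤ) • D.P.root α + (j k : ℤ) • D.P.root β)
    (hall : ∀ (d : D.idx) (p q : ℕ), 1 ≤ p → 1 ≤ q → D.P.root d = (p : ℤ) • D.P.root α + (q : ℤ) • D.P.root β →
      d ∈ Set.range c) :
    ∃ C : Fin m → Γ(S, ⊤), ∀ (X : Over S) (x y : Γ(X.left, ⊤)),
      P (D.u α) x * P (D.u β) y * P (D.u α) (-x) =
        P (D.u β) y * prodPts m fun k => P (D.u (c k)) (res X (C k) * x ^ i k * y ^ j k) := by
  obtain ⟨C, hC, -⟩ := Weyl.commutator_formula_of hl α β hlα hlβ c i j hc (fun _ => hdep) hij hall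
  refine ⟨C, fun X x y => ?_⟩
  have h := hC X (Ga.gaPt x) (Ga.gaPt y) (fun k => Ga.gaPt (res X (C k) * x ^ i k * y ^ j k))
    (fun k => by simp [res, Ga.gaFn_gaPt])
  rw [Order.ofFn_prod] at h
  simp only [P_eq, Ga.gaFn_gaPt] at h
  rw [P_neg]
  exact h

/-- Coordinates along distinct positive root groups are unique. -/
theorem coords_eq {l : D.M →+ ℤ} {m : ℕ} (d : Fin m → D.idx) (hd : Function.Injective d)
    (hpos : ∀ k, 0 < l (D.P.root (d k))) {X : Over S} (p q : Fin m → Γ(X.left, ⊤))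
    (h : prodPts m (fun k => P (D.u (d k)) (p k)) = prodPts m (fun k => P (D.u (d k)) (q k))) : p = q := by
  haveI := mono_of_isClosedImmersion _ (mono_prodMap_pos hd hpos)
  exact Weyl.uniq_coords p q h

section Pair

variable [D.P.IsCrystallographic] {a b : D.idx} {n : ℤ}

/-- `c` has coordinates `(i, j)` with respect to `a` and `b`. -/
def Co (a b : D.idx) (c : D.idx) (i j : ℤ) : Prop :=
  D.P.root c = i • D.P.root a + j • D.P.root b

theorem co_left : Co a b a 1 0 := by simp [Co]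

theorem co_right : Co a b b 0 1 := by simp [Co]

theorem Co.neg {c : D.idx} {i j : ℤ} (h : Co a b c i j) : Co a b (D.P.reflectionPerm c c) (-i) (-j) := by
  rw [Co, root_neg, h, neg_smul, neg_smul]; abel

variable (hp : Pair D a b n)
include hp

theorem Pair.co_inj {c c' : D.idx} {i j : ℤ} (h : Co a b c i j) (h' : Co a b c' i j) : c = c' :=
  D.P.root.injective (h.trans h'.symm)

theorem Pair.co_ne {c c' : D.idx} {i j i' j' : ℤ} (h : Co a b c i j) (h' : Co a b c' i' j')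
    (hne : (i, j) ≠ (i', j')) : c ≠ c' := by
  rintro rfl
  obtain ⟨h1, h2⟩ := hp.coef_eq (h.symm.trans h')
  exact hne (by rw [h1, h2])

theorem Pair.co_refl_a {c : D.idx} {i j : ℤ} (h : Co a b c i j) :
    Co a b (D.P.reflectionPerm a c) (n * j - i) j := by
  rw [Co, root_refl, (hp.pairing_a h).1, h]; module

theorem Pair.co_refl_b {c : D.idx} {i j : ℤ} (h : Co a b c i j) :
    Co a b (D.P.reflectionPerm b c) i (i - j) := by
  rw [Co, root_refl, (hp.pairing_a h).2.1, h]; module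

/-- Root groups of the subsystem whose roots do not sum to a root commute. -/
theorem Pair.comm {c c' : D.idx} {i j i' j' : ℤ} (h : Co a b c i j) (h' : Co a b c' i' j')
    (h0 : (i + i', j + j') ≠ (0, 0)) (h1 : (i + i', j + j') ∉ posList n)
    (h2 : (-(i + i'), -(j + j')) ∉ posList n) {X : Over S} (x y : Γ(X.left, ⊤)) (Z : X ⟶ G) :
    P (D.u c) x * (P (D.u c') y * Z) = P (D.u c') y * (P (D.u c) x * Z) := by
  have e : D.P.root c + D.P.root c' = (i + i') • D.P.root a + (j + j') • D.P.root b := by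
    rw [h, h', add_smul, add_smul]; abel
  have hc := Groth.Agent.S8458.result S G D c c'
    (fun hz => h0 (by obtain ⟨p, q⟩ := hp.indep (e.symm.trans hz); rw [p, q]))
    (e ▸ hp.not_root h1 h2) X (Ga.gaPt x) (Ga.gaPt y)
  simp only [P_eq, Ga.gaFn_gaPt] at hc
  rw [← _root_.mul_assoc, hc, _root_.mul_assoc]

/-- The commutation formula inside the subsystem, for two roots positive for the functional with values
`(u, v)` on `(a, b)`. -/
theorem Pair.exists_comm {α β : D.idx} {i₁ j₁ i₂ j₂ : ℤ} (hα : Co a b α i₁ j₁) (hβ : Co a b β i₂ j₂) (u v : ℤ)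
    (hu : 0 < i₁ * u + j₁ * v) (hv : 0 < i₂ * u + j₂ * v)
    {m : ℕ} (c : Fin m → D.idx) (i j : Fin m → ℕ)
    (hij : ∀ k, 1 ≤ i k ∧ 1 ≤ j k ∧
      Co a b (c k) ((i k : ℤ) * i₁ + (j k : ℤ) * i₂) ((i k : ℤ) * j₁ + (j k : ℤ) * j₂))
    (hinj : Function.Injective fun k => ((i k : ℤ) * i₁ + (j k : ℤ) * i₂, (i k : ℤ) * j₁ + (j k : ℤ) * j₂))
    (hall : ∀ p q : ℤ, 1 ≤ p → 1 ≤ q → ((p * i₁ + q * i₂, p * j₁ + q * j₂) ∈ posList n ∨
      (-(p * i₁ + q * i₂), -(p * j₁ + q * j₂)) ∈ posList n) → ∃ k, ((i k : ℤ), (j k : ℤ)) = (p, q))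
    (hdet : i₁ * j₂ - j₁ * i₂ ≠ 0 := by norm_num) :
    ∃ C : Fin m → Γ(S, ⊤), ∀ (X : Over S) (x y : Γ(X.left, ⊤)),
      P (D.u α) x * P (D.u β) y * P (D.u α) (-x) =
        P (D.u β) y * prodPts m fun k => P (D.u (c k)) (res X (C k) * x ^ i k * y ^ j k) := by
  obtain ⟨l, hl, hpos⟩ := hp.exists_functional u v
  have key : ∀ p q : ℤ, p • D.P.root α + q • D.P.root β =
      (p * i₁ + q * i₂) • D.P.root a + (p * j₁ + q * j₂) • D.P.root b := fun p q => by
    rw [hα, hβ]; module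
  refine R2.exists_comm hl (hpos α _ _ hα hu) (hpos β _ _ hβ hv) c i j
    (fun k k' h => hinj ?_) (LinearIndependent.pair_iff.2 fun p q h => ?_) (fun k => ⟨(hij k).1, (hij k).2.1, (key _ _).symm ▸ (hij k).2.2⟩) ?_
  · obtain ⟨h1, h2⟩ := hp.coef_eq ((hij k).2.2.symm.trans (h ▸ (hij k').2.2))
    exact Prod.ext h1 h2
  · rw [key] at h
    obtain ⟨h1, h2⟩ := hp.indep h
    exact ⟨(mul_eq_zero.1 (show p * (i₁ * j₂ - j₁ * i₂) = 0 by linear_combination j₂ * h1 - i₂ * h2)).resolve_right hdet,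
      (mul_eq_zero.1 (show q * (i₁ * j₂ - j₁ * i₂) = 0 by linear_combination i₁ * h2 - j₁ * h1)).resolve_right hdet⟩
  · intro d p q hp1 hq1 hd
    rw [key] at hd
    obtain ⟨k, hk⟩ := hall p q (by omega) (by omega) (hp.mem_posList hd)
    obtain ⟨h1, h2⟩ := Prod.mk.injEq .. ▸ hk
    refine ⟨k, hp.co_inj (hij k).2.2 ?_⟩
    rw [h1, h2]
    exact hd

/-- Coordinates inside the subsystem. -/
theorem Pair.coords_eq (u v : ℤ) {m : ℕ} (d : Fin m → D.idx) (i j : Fin m → ℤ) (hd : ∀ k, Co a b (d k) (i k) (j k))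
    (hinj : Function.Injective fun k => (i k, j k)) (hpos : ∀ k, 0 < i k * u + j k * v) {X : Over S}
    (p q : Fin m → Γ(X.left, ⊤))
    (h : prodPts m (fun k => P (D.u (d k)) (p k)) = prodPts m (fun k => P (D.u (d k)) (q k))) : p = q := by
  obtain ⟨l, -, hl⟩ := hp.exists_functional u v
  refine R2.coords_eq (l := l) d (fun k k' e => hinj ?_) (fun k => hl _ _ _ (hd k) (hpos k)) p q h
  obtain ⟨h1, h2⟩ := hp.coef_eq ((hd k).symm.trans (e ▸ hd k'))
  exact Prod.ext h1 h2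

end Pair

/-- `u_b(1) u_{-b}(z) u_b(1)`. -/
noncomputable def el (D : Red.SplitRed G) (b : D.idx) (z : Γ(S, ⊤)) (X : Over S) : X ⟶ G :=
  P (D.u b) (1 : Γ(X.left, ⊤)) * P (D.u (D.P.reflectionPerm b b)) (res X z) * P (D.u b) (1 : Γ(X.left, ⊤))

/-- `W` carries the root group of `c` into that of `c'`. -/
def Maps (W : ∀ X : Over S, X ⟶ G) (c c' : D.idx) : Prop :=
  ∀ (X : Over S) (x : Γ(X.left, ⊤)), ∃ x' : Γ(X.left, ⊤), W X * P (D.u c) x = P (D.u c') x' * W X

/-- `W` carries `u_b(1)` to `u_{-b}(z)`. -/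
def Flip (D : Red.SplitRed G) (W : ∀ X : Over S, X ⟶ G) (b : D.idx) (z : Γ(S, ⊤)) : Prop :=
  ∀ X : Over S, W X * P (D.u b) (1 : Γ(X.left, ⊤)) = P (D.u (D.P.reflectionPerm b b)) (res X z) * W X

theorem Flip.neg {W : ∀ X : Over S, X ⟶ G} {b : D.idx} {z : Γ(S, ⊤)} (h : Flip D W b z) (X : Over S) :
    W X * P (D.u b) (-1 : Γ(X.left, ⊤)) = P (D.u (D.P.reflectionPerm b b)) (-res X z) * W X := by
  rw [P_neg, P_neg, eq_inv_mul_iff_mul_eq, ← _root_.mul_assoc, ← h X, mul_inv_cancel_right]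

/-- Conjugation by `el`, unfolded. -/
theorem el_conj {b : D.idx} {z : Γ(S, ⊤)} {X : Over S} {g h : X ⟶ G} (he : el D b z X * g = h * el D b z X) :
    P (D.u b) (1 : Γ(X.left, ⊤)) * g * P (D.u b) (-1 : Γ(X.left, ⊤)) =
      P (D.u (D.P.reflectionPerm b b)) (-res X z) *
        (P (D.u b) (-1 : Γ(X.left, ⊤)) * h * P (D.u b) (1 : Γ(X.left, ⊤))) *
        P (D.u (D.P.reflectionPerm b b)) (res X z) := by
  rw [el] at he
  generalize hB : P (D.u b) (1 : Γ(X.left, ⊤)) = B at he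
  generalize hN : P (D.u (D.P.reflectionPerm b b)) (res X z) = N at he
  rw [P_neg, P_neg, hB, hN]
  have hg : g = (B * N * B)⁻¹ * (h * (B * N * B)) := by rw [← he, inv_mul_cancel_left]
  rw [hg]
  group

/-- Conjugation by `el` of a conjugate by `u_b(1)`. -/
theorem el_conj_conj {b : D.idx} {z : Γ(S, ⊤)} (hz : Flip D (el D b z) b z) {X : Over S} {g h : X ⟶ G}
    (he : el D b z X * g = h * el D b z X) :
    el D b z X * (P (D.u b) (1 : Γ(X.left, ⊤)) * g * P (D.u b) (-1 : Γ(X.left, ⊤))) =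
      P (D.u (D.P.reflectionPerm b b)) (res X z) * h * P (D.u (D.P.reflectionPerm b b)) (-res X z) * el D b z X := by
  rw [← _root_.mul_assoc, ← _root_.mul_assoc, hz X, _root_.mul_assoc _ (el D b z X) g, he, _root_.mul_assoc,
    _root_.mul_assoc h, hz.neg X]
  simp only [_root_.mul_assoc]

end Groth.Agent.H82.R2
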