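import Groth.Agent.H82.R2.Units
import Groth.Agent.H82.R2.BC
import Mathlib.AlgebraicGeometry.Sites.Fpqc
import Mathlib.RingTheory.AdjoinRoot

/-!
# The positive root groups lie in any subgroup scheme containing the simple ones
-/

set_option autoImplicit false
set_option maxHeartbeats 800000
set_option linter.style.haveILetI false
set_option linter.unusedSectionVars false
universe u

open CategoryTheory MonoidalCategory CartesianMonoidalCategory MonObj GrpObj AlgebraicGeometry
open Groth.Agent.Lib.RedPts Groth.Agent.H82.BigCell Groth.Agent.H82.Contract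
open Groth.Agent.H82.RankOne (P P_eq P_add P_zero P_neg P_comp)

namespace Groth.Agent.H82.R2.Gen

variable {S : Scheme.{u}}

/-- A faithfully flat extension with a root of `t³ - t - 1`. -/
theorem exists_cover (X : Over S) : ∃ (X' : Over S) (c : X' ⟶ X), Flat c.left ∧ Surjective c.left ∧
    QuasiCompact c.left ∧ ∃ τ : Γ(X'.left, ⊤), τ * ((τ - 1) * (τ + 1)) = 1 := by
  let f : Polynomial (ULift.{u} ℤ) := Polynomial.X ^ 3 + (-Polynomial.X - 1)
  have hf : f.Monic := Polynomial.monic_X_pow_add (by compute_degree!)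
  let A := AdjoinRoot f
  have : Module.Free (ULift.{u} ℤ) A := hf.free_adjoinRoot
  have : IsDomain (ULift.{u} ℤ) := ULift.ringEquiv.toMulEquiv.isDomain ℤ
  have : Nontrivial A := AdjoinRoot.nontrivial f (by
    rw [Polynomial.degree_add_eq_left_of_degree_lt] <;> simp <;> compute_degree!)
  have : Module.FaithfullyFlat (ULift.{u} ℤ) A := inferInstance
  let q : Spec (CommRingCat.of A) ⟶ Spec (CommRingCat.of (ULift.{u} ℤ)) :=
    Spec.map (CommRingCat.ofHom (algebraMap _ _))
  obtain ⟨hq, hq'⟩ : Flat q ∧ Surjective q := by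
    rw [flat_and_surjective_SpecMap_iff]
    exact RingHom.faithfullyFlat_algebraMap_iff.2 (inferInstanceAs (Module.FaithfullyFlat (ULift.{u} ℤ) A))
  let Y := Limits.pullback (Limits.IsTerminal.from specULiftZIsTerminal X.left) q
  let c : Y ⟶ X.left := Limits.pullback.fst _ _
  refine ⟨Over.mk (c ≫ X.hom), Over.homMk (U := Over.mk (c ≫ X.hom)) c rfl, inferInstanceAs (Flat c), inferInstanceAs (Surjective c),
    inferInstanceAs (QuasiCompact c), ?_⟩
  let φ : A →+* Γ(Y, ⊤) := Points.ringHomOf (Limits.pullback.snd _ _)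
  refine ⟨φ (AdjoinRoot.root f), ?_⟩
  have := AdjoinRoot.eval₂_root f
  simp [f] at this
  have h1 : AdjoinRoot.root f * ((AdjoinRoot.root f - 1) * (AdjoinRoot.root f + 1)) = 1 := by
    linear_combination this
  change φ _ * ((φ _ - 1) * (φ _ + 1)) = 1
  rw [← map_one φ, ← map_sub, ← map_add, ← map_mul, ← map_mul, h1]

variable {G H : Over S}

/-- Factorisation through a monomorphism descends along quasi-compact flat surjections. -/
theorem exists_desc (h : H ⟶ G) [Mono h] {X X' : Over S} (c : X' ⟶ X) [Flat c.left] [Surjective c.left]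
    [QuasiCompact c.left] (g : X ⟶ G) (v : X' ⟶ H) (hv : v ≫ h = c ≫ g) : ∃ w : X ⟶ H, w ≫ h = g := by
  have hh : ∀ {T : Scheme.{u}} (a b : T ⟶ X'.left), a ≫ c.left = b ≫ c.left → a ≫ v.left = b ≫ v.left := by
    intro T a b e
    have eb : b ≫ X'.hom = a ≫ X'.hom := by rw [← Over.w c, ← Category.assoc, ← e, Category.assoc]
    let a' : Over.mk (a ≫ X'.hom) ⟶ X' := Over.homMk a rfl
    let b' : Over.mk (a ≫ X'.hom) ⟶ X' := Over.homMk b eb
    have e' : a' ≫ c = b' ≫ c := Over.OverMorphism.ext e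
    have : a' ≫ v = b' ≫ v := (cancel_mono h).1 (by
      rw [Category.assoc, Category.assoc, hv, reassoc_of% e'])
    exact congrArg Over.Hom.left this
  let w : X ⟶ H := Over.homMk (EffectiveEpi.desc c.left v.left hh) (by
    rw [← cancel_epi c.left, EffectiveEpi.fac_assoc, Over.w v, Over.w c])
  refine ⟨w, Over.OverMorphism.ext ?_⟩
  rw [← cancel_epi c.left, Over.comp_left]
  change c.left ≫ EffectiveEpi.desc c.left v.left hh ≫ h.left = _
  rw [EffectiveEpi.fac_assoc]
  exact congrArg Over.Hom.left hv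

variable [GrpObj G] [GrpObj H] {D : Red.SplitRed G} (h : H ⟶ G)

/-- The root group of `b` factors through `h` on points. -/
def Mem (D : Red.SplitRed G) (h : H ⟶ G) (b : D.idx) : Prop :=
  ∀ (X : Over S) (x : Γ(X.left, ⊤)), ∃ v : X ⟶ H, v ≫ h = P (D.u b) x

/-- The subgroup of points factoring through `h`. -/
def pts [IsMonHom h] (X : Over S) : Subgroup (X ⟶ G) where
  carrier := {g | ∃ v : X ⟶ H, v ≫ h = g}
  mul_mem' := fun ⟨v, hv⟩ ⟨w, hw⟩ => ⟨v * w, by rw [MonObj.mul_comp, hv, hw]⟩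
  one_mem' := ⟨1, MonObj.one_comp h⟩
  inv_mem' := fun ⟨v, hv⟩ => ⟨v⁻¹, by rw [GrpObj.inv_comp, hv]⟩

variable [IsMonHom h] [D.P.IsCrystallographic] (bs : D.P.Base) {a b : D.idx}
include bs

theorem exists_res_inv {t : Γ(S, ⊤)} (ht : IsUnit t) (X : Over S) : ∃ t' : Γ(X.left, ⊤), res X t * t' = 1 :=
  ⟨res X ↑ht.unit⁻¹, by rw [← res_mul', ht.mul_val_inv, res_one]⟩

theorem mem_A2 (hp : Pair D a b 1) {c : D.idx} (hc : Co a b c 1 1) (ha : Mem D h a) (hb : Mem D h b) :
    Mem D h c := by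
  obtain ⟨t, ht⟩ := A2.exists_rel hp hc
  intro X z
  obtain ⟨t', ht'⟩ := exists_res_inv bs (A2.isUnit_t bs hp hc ht) X
  have e : P (D.u c) z = (P (D.u a) 1 * P (D.u b) (t' * z))⁻¹ * (P (D.u b) (t' * z) * P (D.u a) 1) := by
    rw [eq_inv_mul_iff_mul_eq]
    have := ht X 1 (t' * z) 1
    simp only [_root_.mul_one, _root_.one_mul, ← _root_.mul_assoc (res X t), ht', ← _root_.mul_assoc] at this
    exact this.symm
  rw [e]
  exact mul_mem (inv_mem (mul_mem (ha X _) (hb X _))) (mul_mem (hb X _) (ha X _))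
    (s := pts h X)

variable [Mono h]

theorem mem_B2 (hp : Pair D a b 2) {c d : D.idx} (hc : Co a b c 1 1) (hd : Co a b d 2 1) (ha : Mem D h a)
    (hb : Mem D h b) : Mem D h c ∧ Mem D h d := by
  obtain ⟨t, s, k, hr⟩ := B2.exists_rel hp hc hd
  obtain ⟨hut, hus⟩ := B2.isUnit_ts bs hp hc hd hr
  have hg : ∀ (X : Over S) (x y : Γ(X.left, ⊤)),
      P (D.u c) (res X t * (x * y)) * P (D.u d) (res X s * (x ^ 2 * y)) ∈ pts h X := fun X x y => by
    have e := hr.ba X x y 1
    simp only [_root_.mul_one] at e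
    rw [← _root_.mul_assoc (P (D.u a) x), ← inv_mul_eq_iff_eq_mul] at e
    rw [← e]
    exact mul_mem (inv_mem (mul_mem (ha X _) (hb X _))) (mul_mem (hb X _) (ha X _))
  have hd' : Mem D h d := fun X z => by
    obtain ⟨X', c', _, _, _, τ, hτ⟩ := exists_cover X
    obtain ⟨s', hs'⟩ := exists_res_inv bs hus X'
    let w := c'.left.appTop z
    let y := s' * (τ + 1) * w
    have e : P (D.u d) w = (P (D.u c) (res X' t * (τ * y)) * P (D.u d) (res X' s * (τ ^ 2 * y))) *
        (P (D.u c) (res X' t * (1 * (τ * y))) * P (D.u d) (res X' s * (1 ^ 2 * (τ * y))))⁻¹ := by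
      rw [_root_.mul_inv_rev, ← P_neg, ← P_neg]
      simp only [_root_.mul_assoc]
      rw [← _root_.mul_one (P (D.u c) (-(res X' t * (1 * (τ * y))))), hr.dc, hr.dc, P_merge, P_merge]
      rw [show res X' t * (τ * y) + -(res X' t * (1 * (τ * y))) = 0 by ring, P_zero, _root_.one_mul, _root_.mul_one,
        ← show w = res X' s * (τ ^ 2 * y) + -(res X' s * (1 ^ 2 * (τ * y))) by
          simp only [y]; linear_combination -(res X' s * s' * w) * hτ - w * hs']
    obtain ⟨v, hv⟩ : P (D.u d) w ∈ pts h X' := e ▸ mul_mem (hg _ _ _) (inv_mem (hg _ _ _))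
    exact exists_desc h c' _ v (by rw [hv, P_comp])
  refine ⟨fun X z => ?_, hd'⟩
  obtain ⟨t', ht'⟩ := exists_res_inv bs hut X
  have e := mul_mem (hg X 1 (t' * z)) (inv_mem (hd' X (res X s * (1 ^ 2 * (t' * z)))) (s := pts h X))
  rw [mul_inv_cancel_right, _root_.one_mul, ← _root_.mul_assoc, ht', _root_.one_mul] at e
  exact e

theorem mem_G2 {c d e f : D.idx} (hI : G2.Ix D a b c d e f) (ha : Mem D h a) (hb : Mem D h b) :
    Mem D h c ∧ Mem D h d ∧ Mem D h e ∧ Mem D h f := by
  obtain ⟨C, hr⟩ := G2.exists_rel hI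
  obtain ⟨hut, hus, hur, huq⟩ := G2.isUnit_tsrq bs hI hr
  have hq := (G2.relations hI hr).2.2.2.2.2
  have hg : ∀ (X : Over S) (x y : Γ(X.left, ⊤)), P (D.u c) (res X C.t * (x * y)) *
      (P (D.u d) (res X C.s * (x ^ 2 * y)) * (P (D.u e) (res X C.r * (x ^ 3 * y)) *
        P (D.u f) (res X C.q * (x ^ 3 * y ^ 2)))) ∈ pts h X := fun X x y => by
    have e' := hr.ba X x y 1
    simp only [_root_.mul_one] at e'
    rw [← _root_.mul_assoc (P (D.u a) x), ← inv_mul_eq_iff_eq_mul] at e'
    rw [← e']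
    exact mul_mem (inv_mem (mul_mem (ha X _) (hb X _))) (mul_mem (hb X _) (ha X _))
  have hf : Mem D h f := fun X z => by
    obtain ⟨q', hq'⟩ := exists_res_inv bs huq X
    let w := -(q' * z)
    let g := P (D.u c) (res X C.t * (1 * 1)) * (P (D.u d) (res X C.s * (1 ^ 2 * 1)) *
      (P (D.u e) (res X C.r * (1 ^ 3 * 1)) * P (D.u f) (res X C.q * (1 ^ 3 * 1 ^ 2))))
    have key : g * P (D.u b) w = P (D.u b) w * g * P (D.u f) z := by
      simp only [g, _root_.mul_assoc]
      conv_lhs => rw [← _root_.mul_one (P (D.u b) w)]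
      rw [hr.fb, hr.eb, hr.db, hr.cb, P_merge, _root_.mul_one, ← P_add]
      congr 4
      rw [_root_.mul_one]
      congr 1
      simp only [w]
      have hq2 : res X C.q = -(res X C.g * res X C.r) := by rw [hq, res_neg, res_mul']
      linear_combination z * hq' - q' * z * hq2
    have hm := mul_mem (inv_mem (mul_mem (hb X w) (hg X 1 1) (s := pts h X))) (mul_mem (hg X 1 1) (hb X w) (s := pts h X))
    rw [show g * P (D.u b) w = _ from key, inv_mul_cancel_left] at hm
    exact hm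
  have hh : ∀ (X : Over S) (x y : Γ(X.left, ⊤)), P (D.u c) (res X C.t * (x * y)) *
      (P (D.u d) (res X C.s * (x ^ 2 * y)) * P (D.u e) (res X C.r * (x ^ 3 * y))) ∈ pts h X := fun X x y => by
    have := mul_mem (hg X x y) (inv_mem (hf X (res X C.q * (x ^ 3 * y ^ 2))) (s := pts h X))
    simpa only [_root_.mul_assoc, mul_inv_cancel, _root_.mul_one] using this
  have hk : ∀ (X : Over S) (x y : Γ(X.left, ⊤)), P (D.u d) (res X C.s * ((x ^ 2 - x) * y)) *
      P (D.u e) (res X C.r * ((x ^ 3 - x) * y)) ∈ pts h X := fun X x y => by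
    have := mul_mem (inv_mem (hh X 1 (x * y))) (hh X x y)
    simp only [_root_.mul_inv_rev, ← P_neg, one_pow, _root_.one_mul, _root_.mul_assoc, P_merge, neg_add_cancel, P_zero] at this
    rw [← _root_.mul_one (P (D.u e) (res X C.r * (x ^ 3 * y)))] at this
    rw [hr.ed, P_merge, _root_.mul_one] at this
    convert this using 3 <;> ring
  have he : Mem D h e := fun X z => by
    obtain ⟨X', c', _, _, _, τ, hτ⟩ := exists_cover X
    obtain ⟨r', hr'⟩ := exists_res_inv bs hur X'
    let w := c'.left.appTop z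
    let y := -(r' * ((τ - 1) * (τ + 1)) * w)
    let σ := τ + 1
    have e1 := mul_mem (hk X' τ ((σ ^ 2 - σ) * y)) (hk X' σ (-((τ ^ 2 - τ) * y)))
    rw [← _root_.mul_one (P (D.u e) (res X' C.r * ((σ ^ 3 - σ) * -((τ ^ 2 - τ) * y))))] at e1
    simp only [_root_.mul_assoc (_ : X' ⟶ G)] at e1
    rw [hr.ed, P_merge, P_merge, _root_.mul_one,
      show res X' C.s * ((τ ^ 2 - τ) * ((σ ^ 2 - σ) * y)) + res X' C.s * ((σ ^ 2 - σ) * -((τ ^ 2 - τ) * y)) = 0 by ring,
      P_zero, _root_.one_mul, show res X' C.r * ((τ ^ 3 - τ) * ((σ ^ 2 - σ) * y)) +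
          res X' C.r * ((σ ^ 3 - σ) * -((τ ^ 2 - τ) * y)) = w by
        simp only [σ, y]; linear_combination (res X' C.r * r' * w * (τ * ((τ - 1) * (τ + 1)) + 1)) * hτ + w * hr'] at e1
    obtain ⟨v, hv⟩ := e1
    exact exists_desc h c' _ v (by rw [hv, P_comp])
  have hd : Mem D h d := fun X z => by
    obtain ⟨X', c', _, _, _, τ, hτ⟩ := exists_cover X
    obtain ⟨s', hs'⟩ := exists_res_inv bs hus X'
    let w := c'.left.appTop z
    let y := s' * (τ + 1) * w
    have e1 := mul_mem (hk X' τ y) (inv_mem (he X' (res X' C.r * ((τ ^ 3 - τ) * y))) (s := pts h X'))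
    rw [mul_inv_cancel_right, show res X' C.s * ((τ ^ 2 - τ) * y) = w by
      simp only [y]; linear_combination (res X' C.s * s' * w) * hτ + w * hs'] at e1
    obtain ⟨v, hv⟩ := e1
    exact exists_desc h c' _ v (by rw [hv, P_comp])
  refine ⟨fun X z => ?_, hd, he, hf⟩
  obtain ⟨t', ht'⟩ := exists_res_inv bs hut X
  have e1 := mul_mem (hh X 1 (t' * z)) (inv_mem (mul_mem (hd X (res X C.s * (1 ^ 2 * (t' * z))))
    (he X (res X C.r * (1 ^ 3 * (t' * z)))) (s := pts h X)))
  rw [mul_inv_cancel_right, _root_.one_mul, ← _root_.mul_assoc, ht', _root_.one_mul] at e1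
  exact e1

theorem mem_span {n : ℤ} (hp : Pair D a b n) (ha : Mem D h a) (hb : Mem D h b) {x : D.idx} {i j : ℤ}
    (hx : Co a b x i j) (hij : (i, j) ∈ posList n) : Mem D h x := by
  rcases hp.hn with rfl | rfl | rfl <;> simp [posList, Prod.mk.injEq] at hij
  · obtain ⟨c, hc⟩ := hp.exists_root (i := 1) (j := 1) (by decide)
    have m := mem_A2 h bs hp hc ha hb
    rcases hij with ⟨rfl, rfl⟩ | ⟨rfl, rfl⟩ | ⟨rfl, rfl⟩
    · rwa [hp.co_inj hx co_left]
    · rwa [hp.co_inj hx co_right]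
    · rwa [hp.co_inj hx hc]
  · obtain ⟨c, hc⟩ := hp.exists_root (i := 1) (j := 1) (by decide)
    obtain ⟨d, hd⟩ := hp.exists_root (i := 2) (j := 1) (by decide)
    obtain ⟨mc, md⟩ := mem_B2 h bs hp hc hd ha hb
    rcases hij with ⟨rfl, rfl⟩ | ⟨rfl, rfl⟩ | ⟨rfl, rfl⟩ | ⟨rfl, rfl⟩
    · rwa [hp.co_inj hx co_left]
    · rwa [hp.co_inj hx co_right]
    · rwa [hp.co_inj hx hc]
    · rwa [hp.co_inj hx hd]
  · obtain ⟨c, hc⟩ := hp.exists_root (i := 1) (j := 1) (by decide)
    obtain ⟨d, hd⟩ := hp.exists_root (i := 2) (j := 1) (by decide)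
    obtain ⟨e, he⟩ := hp.exists_root (i := 3) (j := 1) (by decide)
    obtain ⟨f, hf⟩ := hp.exists_root (i := 3) (j := 2) (by decide)
    obtain ⟨mc, md, me, mf⟩ := mem_G2 h bs ⟨hp, hc, hd, he, hf⟩ ha hb
    rcases hij with ⟨rfl, rfl⟩ | ⟨rfl, rfl⟩ | ⟨rfl, rfl⟩ | ⟨rfl, rfl⟩ | ⟨rfl, rfl⟩ | ⟨rfl, rfl⟩
    · rwa [hp.co_inj hx co_left]
    · rwa [hp.co_inj hx co_right]
    · rwa [hp.co_inj hx hc]
    · rwa [hp.co_inj hx hd]
    · rwa [hp.co_inj hx he]
    · rwa [hp.co_inj hx hf]

/-- All positive root groups factor. -/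
theorem mem_pos (hs : ∀ a ∈ bs.support, Mem D h a) (b : D.idx) (hb : bs.IsPos b) : Mem D h b := by
  haveI := reduced_of_base bs
  haveI : Module.IsReflexive ℤ D.M := .of_isPerfPair D.P.toLinearMap
  suffices ∀ (N : ℕ) (b : D.idx), bs.IsPos b → bs.height b ≤ N → Mem D h b from
    this (bs.height b).toNat b hb (Int.self_le_toNat _)
  intro N
  induction N with
  | zero => exact fun b hb hN => absurd (bs.isPos_iff.1 hb) (by omega)
  | succ N ih =>
    intro b hb hN
    obtain ⟨a, ha, hpos⟩ := hb.exists_mem_support_pos_pairingIn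
    rcases eq_or_ne b a with rfl | hne
    · exact hs b ha
    rw [D.P.zero_lt_pairingIn_iff'] at hpos
    obtain ⟨c, hc⟩ := D.P.root_sub_root_mem_of_pairingIn_pos hpos hne
    have hli : LinearIndependent ℤ ![D.P.root a, D.P.root b] :=
      RootPairing.IsReduced.linearIndependent D.P hne.symm fun e => by
        let := D.P.indexNeg
        obtain rfl : b = D.P.reflectionPerm a a := D.P.root.injective (by rw [root_neg, e, neg_neg])
        have h1 := bs.height_reflectionPerm_self a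
        rw [RootPairing.indexNeg_neg] at h1
        have h2 := bs.isPos_iff.1 hb
        rw [h1, RootPairing.Base.height_one_of_mem_support ha] at h2
        omega
    set k := D.P.chainBotCoeff a b
    have hk1 : 1 ≤ k := (D.P.root_sub_nsmul_mem_range_iff_le_chainBotCoeff hli (n := 1)).1 ⟨c, by rw [hc, one_nsmul]⟩
    obtain ⟨b₀, hb₀⟩ := (D.P.root_sub_nsmul_mem_range_iff_le_chainBotCoeff hli (n := k)).2 le_rfl
    have hsub : D.P.root b₀ - D.P.root a ∉ Set.range D.P.root := fun ⟨q, hq⟩ => by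
      have := (D.P.root_sub_nsmul_mem_range_iff_le_chainBotCoeff hli (n := k + 1)).1
        ⟨q, by rw [hq, hb₀, succ_nsmul]; abel⟩
      omega
    rw [← natCast_zsmul] at hb₀
    have hbpos : bs.IsPos b₀ := hb.add_zsmul hne ha (z := -(k : ℤ)) (by rw [hb₀, neg_smul, sub_eq_add_neg])
    have hht : bs.height b₀ = bs.height b - k := by
      rw [bs.height_add_zsmul (z := -(k : ℤ)) (i := b) (j := a) (by rw [hb₀, neg_smul, sub_eq_add_neg]),
        RootPairing.Base.height_one_of_mem_support ha, smul_eq_mul]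
      ring
    have hm0 : Mem D h b₀ := ih b₀ hbpos (by omega)
    have hco : Co a b₀ b (k : ℤ) 1 := by rw [Co, hb₀]; module
    have hne0 : b₀ ≠ a := fun e => by
      obtain ⟨-, h0⟩ := LinearIndependent.pair_iff.1 hli ((k : ℤ) + 1) (-1) (by rw [hco, e]; module)
      omega
    have hli0 : LinearIndependent ℤ ![D.P.root a, D.P.root b₀] := LinearIndependent.pair_iff.2 fun p q e => by
      obtain ⟨h1, h2⟩ := LinearIndependent.pair_iff.1 hli (p - q * k) q (by rw [← e, hb₀]; module)
      exact ⟨by subst h2; simpa using h1, h2⟩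
    have hup : D.P.root b₀ + D.P.root a ∈ Set.range D.P.root := by
      obtain ⟨q, hq⟩ := (D.P.root_sub_nsmul_mem_range_iff_le_chainBotCoeff hli (n := k - 1)).2 (Nat.sub_le _ _)
      refine ⟨q, ?_⟩
      rw [hq, hb₀, ← natCast_zsmul, Nat.cast_sub hk1]
      module
    -- the pairings are negative
    have hbot : D.P.chainBotCoeff a b₀ = 0 := by
      by_contra h0
      exact hsub (by simpa using (D.P.root_sub_nsmul_mem_range_iff_le_chainBotCoeff hli0 (n := 1)).2 (by omega))
    have htop : 1 ≤ D.P.chainTopCoeff a b₀ :=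
      (D.P.root_add_nsmul_mem_range_iff_le_chainTopCoeff hli0 (n := 1)).1 (by simpa using hup)
    have hneg : D.P.pairing b₀ a < 0 := by
      rw [← pairingIn_eq, ← D.P.chainBotCoeff_sub_chainTopCoeff hli0, hbot]
      omega
    have hset := BC.pair_set (x := b₀) (y := a) (LinearIndependent.pair_symm_iff.1 hli0)
    simp only [Set.mem_insert_iff, Set.mem_singleton_iff, Prod.mk.injEq] at hset
    have hnm : ∀ x : D.idx, D.P.root x + D.P.root x ∉ Set.range D.P.root := fun x ⟨q, hq⟩ => by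
      haveI : IsAddTorsionFree D.M := .of_isTorsionFree ℤ D.M
      exact D.P.nsmul_notMem_range_root (n := 2) (i := x) ⟨q, by rw [hq, two_nsmul]⟩
    have hsub' : D.P.root a - D.P.root b₀ ∉ Set.range D.P.root := fun ⟨q, hq⟩ =>
      hsub ⟨D.P.reflectionPerm q q, by rw [root_neg, hq, neg_sub]⟩
    by_cases hs1 : D.P.pairing a b₀ = -1
    · have hp : Pair D a b₀ (-D.P.pairing b₀ a) := ⟨by omega, hs1, hsub, by omega, hnm a⟩
      refine mem_span h bs hp (hs a ha) hm0 hco ((hp.mem_posList hco).resolve_right fun h' => ?_)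
      rcases hp.hn with e | e | e <;> rw [e] at h' <;> simp [posList, Prod.mk.injEq] at h'
    · have hp : Pair D b₀ a (-D.P.pairing a b₀) := ⟨by omega, by omega, hsub', by omega, hnm b₀⟩
      have hco' : Co b₀ a b 1 (k : ℤ) := by rw [Co, hco]; abel
      refine mem_span h bs hp hm0 (hs a ha) hco' ((hp.mem_posList hco').resolve_right fun h' => ?_)
      rcases hp.hn with e | e | e <;> rw [e] at h' <;> simp [posList, Prod.mk.injEq] at h' <;> omega

end Groth.Agent.H82.R2.Gen
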