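import Groth.Agent.H82.R2.Scalar
import Groth.Agent.H82.R2.B2
import Groth.Agent.H82.R2.G2

/-!
# The Coxeter relations of the elements of a pinning
-/

set_option autoImplicit false
set_option linter.style.haveILetI false
set_option linter.unusedSectionVars false
universe u

open CategoryTheory MonoidalCategory CartesianMonoidalCategory MonObj GrpObj AlgebraicGeometry
open Groth.Agent.Lib.RedPts Groth.Agent.H82.BigCell Groth.Agent.H82.Contract Groth.Agent.H82.Weyl
open Groth.Agent.H82.RankOne (P P_eq P_add P_zero P_neg P_comp Sys)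

namespace Groth.Agent.H82.R2

/-- The three word computations. -/
theorem cox_group {G : Type*} [Group G] {a b α β : G} (ha : a * a = α) (hb : b * b = β) (h1 : a * α = α * a)
    (h2 : b * β = β * b) (h3 : a * β = α * β * a) (h5 : α * α = 1) (h6 : β * β = 1) (h7 : β * α = α * β) :
    (a * b * a = b * a * b → b * α = α * β * b → (a * b) ^ 3 = 1 ∧ (b * a) ^ 3 = 1) ∧
    (a * b * a * b = b * (a * b * a) → b * α = α * b → (a * b) ^ 4 = α ∧ (b * a) ^ 4 = α) ∧
    (a * b * a * b * a * b = b * (a * b * a * b * a) → b * α = α * β * b →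
      (a * b) ^ 6 = 1 ∧ (b * a) ^ 6 = 1) := by
  have ha' : ∀ z, a * (a * z) = α * z := fun z => by rw [← _root_.mul_assoc, ha]
  have hb' : ∀ z, b * (b * z) = β * z := fun z => by rw [← _root_.mul_assoc, hb]
  have h1' : ∀ z, a * (α * z) = α * (a * z) := fun z => by rw [← _root_.mul_assoc, h1, _root_.mul_assoc]
  have h2' : ∀ z, b * (β * z) = β * (b * z) := fun z => by rw [← _root_.mul_assoc, h2, _root_.mul_assoc]
  have h3' : ∀ z, a * (β * z) = α * (β * (a * z)) := fun z => by rw [← _root_.mul_assoc, h3, _root_.mul_assoc, _root_.mul_assoc]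
  have h5' : ∀ z, α * (α * z) = z := fun z => by rw [← _root_.mul_assoc, h5, _root_.one_mul]
  have h6' : ∀ z, β * (β * z) = z := fun z => by rw [← _root_.mul_assoc, h6, _root_.one_mul]
  have h7' : ∀ z, β * (α * z) = α * (β * z) := fun z => by rw [← _root_.mul_assoc, h7, _root_.mul_assoc]
  have back : ∀ k : ℕ, ∀ r, (a * b) ^ k = r → a * r = r * a → (b * a) ^ k = r := fun k r h h' => by
    have hk := conj_pow (a := a⁻¹) (b := a * b) (i := k)
    rw [h, show a⁻¹ * (a * b) * a⁻¹⁻¹ = b * a by group] at hk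
    rw [hk, _root_.inv_inv, _root_.mul_assoc, ← h', inv_mul_cancel_left]
  refine ⟨fun hbr h4 => ?_, fun hbr h4 => ?_, fun hbr h4 => ?_⟩
  · have h4' : ∀ z, b * (α * z) = α * (β * (b * z)) := fun z => by rw [← _root_.mul_assoc, h4, _root_.mul_assoc, _root_.mul_assoc]
    have e : (a * b) ^ 3 = 1 := by
      calc (a * b) ^ 3 = (a * b * a) * (b * a * b) * 1 := by simp [pow_succ, _root_.mul_assoc]
        _ = (a * b * a) * (a * b * a) * 1 := by rw [hbr]
        _ = _ := by simp only [_root_.mul_assoc, ha', hb', h1', h2', h3', h4', h5', h6', h7']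
    exact ⟨e, back 3 1 e (by rw [_root_.mul_one, _root_.one_mul])⟩
  · have h4' : ∀ z, b * (α * z) = α * (b * z) := fun z => by rw [← _root_.mul_assoc, h4, _root_.mul_assoc]
    have e : (a * b) ^ 4 = α := by
      calc (a * b) ^ 4 = (a * b * a) * (b * (a * b * a)) * (b * 1) := by simp [pow_succ, _root_.mul_assoc]
        _ = (a * b * a) * (a * b * a * b) * (b * 1) := by rw [hbr]
        _ = α * 1 := by simp only [_root_.mul_assoc, ha', hb', h1', h2', h3', h4', h5', h6', h7']
        _ = α := _root_.mul_one α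
    exact ⟨e, back 4 α e h1⟩
  · have h4' : ∀ z, b * (α * z) = α * (β * (b * z)) := fun z => by rw [← _root_.mul_assoc, h4, _root_.mul_assoc, _root_.mul_assoc]
    have e : (a * b) ^ 6 = 1 := by
      calc (a * b) ^ 6 = (a * b * a * b * a) * (b * (a * b * a * b * a)) * (b * 1) := by simp [pow_succ, _root_.mul_assoc]
        _ = (a * b * a * b * a) * (a * b * a * b * a * b) * (b * 1) := by rw [hbr]
        _ = _ := by simp only [_root_.mul_assoc, ha', hb', h1', h2', h3', h4', h5', h6', h7']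
    exact ⟨e, back 6 1 e (by rw [_root_.mul_one, _root_.one_mul])⟩

variable {S : Scheme.{u}} {G : Over S} [GrpObj G] {D : Red.SplitRed G}

/-- `l(-1)` for a cocharacter `l`. -/
noncomputable def Hm (D : Red.SplitRed G) (l : D.M →+ ℤ) : 𝟙_ (Over S) ⟶ G :=
  Sys.H D.i (cochar D l) (-1 : Γ((𝟙_ (Over S)).left, ⊤)ˣ)

theorem Hm_eq {a : D.idx} (m₁ : 𝟙_ (Over S) ⟶ Red.Gm S) (hm₁ : Red.gmFn m₁ = -1) :
    m₁ ≫ (Red.DSmap S (D.P.coroot a).toAddMonoidHom ≫ D.split.inv.hom.hom) ≫ D.i =
      Hm D (D.P.coroot a).toAddMonoidHom := by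
  rw [RankOne.gmPt_eq m₁ (u := -1) (by rw [hm₁]; simp)]
  rfl

theorem Hm_add (l l' : D.M →+ ℤ) : Hm D (l + l') = Hm D l * Hm D l' := by
  haveI : IsMonHom (show D.T ⟶ Red.DS S D.M from D.split.hom.hom.hom) := D.split.hom.hom.isMonHom_hom
  have h : Gm.gmPt (-1 : Γ((𝟙_ (Over S)).left, ⊤)ˣ) ≫ cochar D (l + l') =
      (Gm.gmPt (-1 : Γ((𝟙_ (Over S)).left, ⊤)ˣ) ≫ cochar D l) * (Gm.gmPt (-1 : Γ((𝟙_ (Over S)).left, ⊤)ˣ) ≫ cochar D l') := by
    refine ext_dsFn fun m => ?_
    rw [MonObj.mul_comp _ _ (show D.T ⟶ Red.DS S D.M from D.split.hom.hom.hom), Gm.dsFn_mul, dsFn_cochar,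
      dsFn_cochar, dsFn_cochar, AddMonoidHom.add_apply, Gm.dsFn_add]
  simp only [Hm, Sys.H, ← Category.assoc, h, MonObj.mul_comp]

theorem el_sq {a : D.idx} (hd : Weyl.Dual D a) :
    el D a (-1) (𝟙_ (Over S)) * el D a (-1) (𝟙_ (Over S)) = Hm D (D.P.coroot a).toAddMonoidHom := by
  rw [el_neg_one, (sys_of_dual hd).W_mul_W 1 1 (-1) (by rw [_root_.mul_one])]
  rfl

theorem Hm_sq {a : D.idx} (hd : Weyl.Dual D a) :
    Hm D (D.P.coroot a).toAddMonoidHom * Hm D (D.P.coroot a).toAddMonoidHom = 1 := by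
  rw [Hm, ← (sys_of_dual hd).H_mul, neg_mul_neg, _root_.one_mul, (sys_of_dual hd).H_one]

theorem el_mul_Hm {c : D.idx} (hd : Weyl.Dual D c) (a : D.idx) :
    el D c (-1) (𝟙_ (Over S)) * Hm D (D.P.coroot a).toAddMonoidHom =
      Hm D (D.P.coroot (D.P.reflectionPerm c a)).toAddMonoidHom * el D c (-1) (𝟙_ (Over S)) := by
  have h := conj_H [c] (rep_el hd (𝟙_ (Over S))) a (-1)
  rw [Bruhat.wordPerm_singleton, mul_inv_eq_iff_eq_mul] at h
  exact h

theorem coroot_refl' (c a : D.idx) : (D.P.coroot (D.P.reflectionPerm c a)).toAddMonoidHom =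
    (D.P.coroot a).toAddMonoidHom + (-D.P.pairing c a) • (D.P.coroot c).toAddMonoidHom := by
  ext m
  have h := D.P.root_coroot_eq_pairing c a
  simp [D.pairing_eq] at h
  rw [AddMonoidHom.add_apply, LinearMap.toAddMonoidHom_coe, coroot_refl, D.P.reflection_apply]
  simp [RootPairing.coroot', D.pairing_eq, LinearMap.flip_apply, h]
  ring

/-- The relations among the generators of a pair of dual roots. -/
theorem cox_rels {a b : D.idx} (hda : Weyl.Dual D a) (hdb : Weyl.Dual D b) (hab : D.P.pairing a b = -1)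
    {α β : 𝟙_ (Over S) ⟶ G} (hα : Hm D (D.P.coroot a).toAddMonoidHom = α)
    (hβ : Hm D (D.P.coroot b).toAddMonoidHom = β) {wa wb : 𝟙_ (Over S) ⟶ G}
    (hwa : el D a (-1) (𝟙_ (Over S)) = wa) (hwb : el D b (-1) (𝟙_ (Over S)) = wb) :
    wa * wa = α ∧ wb * wb = β ∧ wa * α = α * wa ∧ wb * β = β * wb ∧ wa * β = α * β * wa ∧
      α * α = 1 ∧ β * β = 1 ∧ β * α = α * β ∧
      (∀ n : ℤ, D.P.pairing b a = -n → wb * α = Hm D (D.P.coroot a).toAddMonoidHom *
        Hm D (n • (D.P.coroot b).toAddMonoidHom) * wb) := by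
  subst hα hβ hwa hwb
  have hz : ∀ (c : D.idx), Weyl.Dual D c → el D c (-1) (𝟙_ (Over S)) * Hm D (D.P.coroot c).toAddMonoidHom =
      Hm D (D.P.coroot c).toAddMonoidHom * el D c (-1) (𝟙_ (Over S)) := fun c hc => by
    rw [← el_sq hc, _root_.mul_assoc]
  refine ⟨el_sq hda, el_sq hdb, hz a hda, hz b hdb, ?_, Hm_sq hda, Hm_sq hdb, ?_, fun n hn => ?_⟩
  · rw [el_mul_Hm hda b, coroot_refl', hab, neg_neg, one_zsmul, add_comm, Hm_add]
  · rw [← Hm_add, ← Hm_add, add_comm]
  · rw [el_mul_Hm hdb a, coroot_refl', hn, neg_neg, Hm_add]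

/-- A representative carrying `u_a` to `u_b` carries `w_a` to `w_b`. -/
theorem conj_el [D.P.IsReduced] (L : List D.idx) (g : 𝟙_ (Over S) ⟶ G)
    (hg : ∀ X : Over S, Bruhat.Rep L (toUnit X ≫ g)) {a b : D.idx} (hab : RedSub.wordPerm D.P L a = b)
    (hda : Weyl.Dual D a) (hdb : Weyl.Dual D b)
    (hp : ∀ (X : Over S) (x : Γ(X.left, ⊤)), (toUnit X ≫ g) * P (D.u a) x = P (D.u b) x * (toUnit X ≫ g)) :
    g * el D a (-1) (𝟙_ (Over S)) = el D b (-1) (𝟙_ (Over S)) * g := by
  obtain ⟨q, hq⟩ := exists_conj_scalar L g hg (D.P.reflectionPerm a a)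
  rw [root_perm_neg, hab] at hq
  have h1 := dual_scalar L g hg hab hda hdb (p := 1) (q := q)
    (fun X x => by rw [res_one, _root_.one_mul]; exact hp X x) hq
  rw [_root_.one_mul] at h1
  subst h1
  have e : toUnit (𝟙_ (Over S)) ≫ g = g := by
    rw [toUnit_unique (toUnit (𝟙_ (Over S))) (𝟙 _), Category.id_comp]
  have f1 := hp (𝟙_ (Over S)) 1
  have f2 := hq (𝟙_ (Over S)) (res (𝟙_ (Over S)) (-1))
  rw [e] at f1 f2
  rw [res_one, _root_.one_mul] at f2
  simp only [el]
  rw [← _root_.mul_assoc, ← _root_.mul_assoc, f1, _root_.mul_assoc _ g, f2, ← _root_.mul_assoc,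
    _root_.mul_assoc _ g, f1, ← _root_.mul_assoc]

theorem Hm_two_mul (l : D.idx) (hd : Weyl.Dual D l) :
    Hm D ((2 : ℤ) • (D.P.coroot l).toAddMonoidHom) = 1 := by
  rw [two_zsmul, Hm_add, Hm_sq hd]

variable [D.P.IsCrystallographic] [D.P.IsReduced]

/-- The braid relations of a pair. -/
theorem braid_rel {a b : D.idx} (hda : Weyl.Dual D a) (hdb : Weyl.Dual D b) {n : ℤ} (hp : Pair D a b n) :
    let wa := el D a (-1) (𝟙_ (Over S))
    let wb := el D b (-1) (𝟙_ (Over S))
    (n = 1 → wa * wb * wa = wb * wa * wb) ∧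
    (n = 2 → wa * wb * wa * wb = wb * (wa * wb * wa)) ∧
    (n = 3 → wa * wb * wa * wb * wa * wb = wb * (wa * wb * wa * wb * wa)) := by
  intro wa wb
  have rw' : ∀ (X : Over S) (c : D.idx), toUnit X ≫ el D c (-1) (𝟙_ (Over S)) = el D c (-1) X := fun X c =>
    el_comp c (-1) _
  have ra : ∀ X : Over S, Bruhat.Rep [a] (toUnit X ≫ wa) := fun X => by rw [rw']; exact rep_el hda X
  have rb : ∀ X : Over S, Bruhat.Rep [b] (toUnit X ≫ wb) := fun X => by rw [rw']; exact rep_el hdb X
  have hperm : ∀ (x y : D.idx) (L : List D.idx) (c : D.idx), RedSub.wordPerm D.P (x :: L) c = y →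
      D.P.reflectionPerm x (RedSub.wordPerm D.P L c) = y := fun x y L c h => (Bruhat.wordPerm_cons x L c) ▸ h
  refine ⟨fun hn => ?_, fun hn => ?_, fun hn => ?_⟩ <;> subst hn
  · obtain ⟨c, hc'⟩ := hp.exists_root (i := 1) (j := 1) (by decide)
    have hc : Co a b c 1 1 := hc'
    obtain ⟨t, ht⟩ := A2.exists_rel hp hc
    have bac : D.P.reflectionPerm b a = c := hp.co_inj (by simpa using hp.co_refl_b co_left) hc
    have abc : D.P.reflectionPerm a b = c := hp.co_inj (by simpa using hp.co_refl_a co_right) hc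
    have acb : D.P.reflectionPerm a c = b := hp.co_inj (by simpa using hp.co_refl_a hc) co_right
    obtain ⟨gb, -⟩ := A2.el_conj_a hp hc ht (bac ▸ maps_el hdb a)
    obtain ⟨-, ga⟩ := A2.el_conj_a (A2.pair_symm hp) (show Co b a c 1 1 by rw [Co, hc', add_comm])
      (A2.rel_symm hp hc ht) (abc ▸ maps_el hda b)
    have hbr := conj_el [a, b] (wa * wb) (fun X => by
        rw [MonObj.comp_mul]; exact (ra X).mul (rb X))
      (a := a) (b := b) (by rw [Bruhat.wordPerm_cons, Bruhat.wordPerm_singleton, bac, acb]) hda hdb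
      (fun X x => by
        have h2 := ga (flip_el hda) X (-x)
        rw [res_neg, neg_mul_neg, neg_neg] at h2
        rw [MonObj.comp_mul, rw', rw', _root_.mul_assoc, gb X x, ← _root_.mul_assoc, h2, _root_.mul_assoc])
    rw [hbr, _root_.mul_assoc]
  · obtain ⟨c, hc'⟩ := hp.exists_root (i := 1) (j := 1) (by decide)
    obtain ⟨d, hd'⟩ := hp.exists_root (i := 2) (j := 1) (by decide)
    have hc : Co a b c 1 1 := hc'
    have hd : Co a b d 2 1 := hd'
    obtain ⟨t, s, k, hr⟩ := B2.exists_rel hp hc hd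
    have bac : D.P.reflectionPerm b a = c := hp.co_inj (by simpa using hp.co_refl_b co_left) hc
    have bca : D.P.reflectionPerm b c = a := hp.co_inj (by simpa using hp.co_refl_b hc) co_left
    have bdd : D.P.reflectionPerm b d = d := hp.co_inj (by simpa using hp.co_refl_b hd) hd
    have abd : D.P.reflectionPerm a b = d := hp.co_inj (by simpa using hp.co_refl_a co_right) hd
    have adb : D.P.reflectionPerm a d = b := hp.co_inj (by simpa using hp.co_refl_a hd) co_right
    have acc : D.P.reflectionPerm a c = c := hp.co_inj (by simpa using hp.co_refl_a hc) hc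
    have fa := B2.el_conj_a hp hc hd hr (flip_el hdb) (bac ▸ maps_el hdb a) (by simpa [bca] using maps_el hdb c)
    have fb := B2.el_conj_b hp hc hd hr (flip_el hda) (abd ▸ maps_el hda b) (by simpa [acc] using maps_el hda c)
      (by simpa [adb] using maps_el hda d)
    have hbr := conj_el [a, b, a] (wa * wb * wa) (fun X => by
        rw [MonObj.comp_mul, MonObj.comp_mul]; exact ((ra X).mul (rb X)).mul (ra X))
      (a := b) (b := b) (by rw [Bruhat.wordPerm_cons, Bruhat.wordPerm_cons, Bruhat.wordPerm_singleton, abd, bdd, adb])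
      hdb hdb
      (fun X x => by
        rw [MonObj.comp_mul, MonObj.comp_mul, rw', rw', _root_.mul_assoc _ _ (P (D.u b) x), (fb X x).1,
          ← _root_.mul_assoc, _root_.mul_assoc _ (el D b (-1) X), (fa X _).2.2, ← _root_.mul_assoc,
          (fb X x).2.2]
        simp only [_root_.mul_assoc])
    exact hbr
  · obtain ⟨c, hc⟩ := hp.exists_root (i := 1) (j := 1) (by decide)
    obtain ⟨d, hd⟩ := hp.exists_root (i := 2) (j := 1) (by decide)
    obtain ⟨e, he⟩ := hp.exists_root (i := 3) (j := 1) (by decide)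
    obtain ⟨f, hf⟩ := hp.exists_root (i := 3) (j := 2) (by decide)
    have hI : G2.Ix D a b c d e f := ⟨hp, hc, hd, he, hf⟩
    obtain ⟨C, hr⟩ := G2.exists_rel hI
    have bac : D.P.reflectionPerm b a = c := hp.co_inj (by simpa using hp.co_refl_b co_left) hc
    have bca : D.P.reflectionPerm b c = a := hp.co_inj (by simpa using hp.co_refl_b hc) co_left
    have bef : D.P.reflectionPerm b e = f := hp.co_inj (by simpa using hp.co_refl_b he) hf
    have bfe : D.P.reflectionPerm b f = e := hp.co_inj (by simpa using hp.co_refl_b hf) he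
    have abe : D.P.reflectionPerm a b = e := hp.co_inj (by simpa using hp.co_refl_a co_right) he
    have acd : D.P.reflectionPerm a c = d := hp.co_inj (by simpa using hp.co_refl_a hc) hd
    have adc : D.P.reflectionPerm a d = c := hp.co_inj (by simpa using hp.co_refl_a hd) hc
    have aeb : D.P.reflectionPerm a e = b := hp.co_inj (by simpa using hp.co_refl_a he) co_right
    have aff : D.P.reflectionPerm a f = f := hp.co_inj (by simpa using hp.co_refl_a hf) hf
    have fa := G2.el_conj_a hI hr (flip_el hdb) (bac ▸ maps_el hdb a) (by simpa [bca] using maps_el hdb c)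
      (by simpa [bef] using maps_el hdb e) (by simpa [bfe] using maps_el hdb f)
    have fb := G2.el_conj_b hI hr (flip_el hda) (abe ▸ maps_el hda b) (by simpa [acd] using maps_el hda c)
      (by simpa [adc] using maps_el hda d) (by simpa [aeb] using maps_el hda e)
    have hbr := conj_el [a, b, a, b, a] (wa * wb * wa * wb * wa) (fun X => by
        simp only [MonObj.comp_mul]
        exact ((((ra X).mul (rb X)).mul (ra X)).mul (rb X)).mul (ra X))
      (a := b) (b := b) (by
        rw [Bruhat.wordPerm_cons, Bruhat.wordPerm_cons, Bruhat.wordPerm_cons, Bruhat.wordPerm_cons,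
          Bruhat.wordPerm_singleton, abe, bef, aff, bfe, aeb])
      hdb hdb
      (fun X x => by
        simp only [MonObj.comp_mul, rw', wa, wb]
        have s1 := (fb X x).1
        have s2 := (fa X (-x)).2.2.2.1
        rw [mul_neg] at s2
        have s3 := (fb X (res X C.q * -x)).2.2.2.2
        have s4 := (fa X (-x)).2.2.2.2
        rw [show -(res X C.r * -x) = res X C.r * x by ring] at s4
        have s5 := (fb X x).2.2.2.1
        simp only [_root_.mul_assoc, s1]
        rw [← _root_.mul_assoc (el D b (-1) X) (P _ _), s2, _root_.mul_assoc, ← _root_.mul_assoc (el D a (-1) X) (P _ _),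
          s3, _root_.mul_assoc, ← _root_.mul_assoc (el D b (-1) X) (P _ _), s4, _root_.mul_assoc,
          ← _root_.mul_assoc (el D a (-1) X) (P _ _), s5, _root_.mul_assoc])
    exact hbr


/-- The Coxeter relation of a pair. -/
theorem coxeter {a b : D.idx} (hda : Weyl.Dual D a) (hdb : Weyl.Dual D b) {n : ℤ} (hp : Pair D a b n) :
    let wa := el D a (-1) (𝟙_ (Over S))
    let wb := el D b (-1) (𝟙_ (Over S))
    (n = 1 → (wa * wb) ^ 3 = 1 ∧ (wb * wa) ^ 3 = 1) ∧
    (n = 2 → (wa * wb) ^ 4 = Hm D (D.P.coroot a).toAddMonoidHom ∧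
      (wb * wa) ^ 4 = Hm D (D.P.coroot a).toAddMonoidHom) ∧
    (n = 3 → (wa * wb) ^ 6 = 1 ∧ (wb * wa) ^ 6 = 1) := by
  intro wa wb
  obtain ⟨r1, r2, r3, r4, r5, r6, r7, r8, r9⟩ := cox_rels hda hdb hp.pab rfl rfl (wa := wa) (wb := wb) rfl rfl
  obtain ⟨g1, g2, g3⟩ := cox_group r1 r2 r3 r4 r5 r6 r7 r8
  obtain ⟨b1, b2, b3⟩ := braid_rel hda hdb hp
  refine ⟨fun hn => g1 (b1 hn) ?_, fun hn => g2 (b2 hn) ?_, fun hn => g3 (b3 hn) ?_⟩ <;> subst hn
  · rw [r9 1 hp.pba, one_zsmul]
  · rw [r9 2 hp.pba, Hm_two_mul b hdb, _root_.mul_one]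
  · rw [r9 3 hp.pba, show (3 : ℤ) = 2 + 1 from rfl, add_zsmul, Hm_add, Hm_two_mul b hdb, _root_.one_mul, one_zsmul]

end Groth.Agent.H82.R2
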