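import Groth.Agent.H82.R2.Norm

/-!
# The Chevalley system of a pinning
-/

set_option autoImplicit false
set_option maxHeartbeats 1000000
set_option linter.style.haveILetI false
set_option linter.unusedSectionVars false
universe u

open CategoryTheory MonoidalCategory CartesianMonoidalCategory MonObj GrpObj AlgebraicGeometry
open Groth.Agent.Lib.RedPts Groth.Agent.H82.BigCell Groth.Agent.H82.Contract Groth.Agent.H82.Weyl
open Groth.Agent.H82.RankOne (P P_eq P_add P_zero P_neg P_comp gmPt_eq Sys)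

namespace Groth.Agent.H82.R2

variable {S : Scheme.{u}} {G : Over S} [GrpObj G]

/-- Multiplication by a function on the base on `𝔾ₐ`. -/
noncomputable def scl (a : Γ(S, ⊤)) : Red.Ga S ⟶ Red.Ga S :=
  Ga.gaPt (res (Red.Ga S) a * Red.gaFn (𝟙 (Red.Ga S)))

theorem gaFn_comp_scl (a : Γ(S, ⊤)) {X : Over S} (x : X ⟶ Red.Ga S) :
    Red.gaFn (x ≫ scl a) = res X a * Red.gaFn x := by
  rw [scl, Ga.gaFn_comp, Ga.gaFn_gaPt, map_mul, res_comp, ← Ga.gaFn_comp, Category.comp_id]

theorem comp_scl_comp (a : Γ(S, ⊤)) (f : Red.Ga S ⟶ G) {X : Over S} (x : X ⟶ Red.Ga S) :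
    x ≫ scl a ≫ f = P f (res X a * Red.gaFn x) := by
  rw [← Category.assoc, P_eq, gaFn_comp_scl]

theorem isRootHom_scl {D : Red.SplitRed G} (c : D.idx) {a : Γ(S, ⊤)} (ha : IsUnit a) :
    Red.IsRootHom D.i (D.split.hom.hom.hom ≫ Red.chi S (D.P.root c)) (scl a ≫ D.u c) := by
  obtain ⟨k, rfl⟩ := ha
  have hcomp : ∀ p q : Γ(S, ⊤), scl p ≫ scl q = scl (q * p) := fun p q =>
    Ga.gaFn_injective (by rw [gaFn_comp_scl, scl, scl, Ga.gaFn_gaPt, Ga.gaFn_gaPt, res_mul', _root_.mul_assoc])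
  have h1 : scl (1 : Γ(S, ⊤)) = 𝟙 (Red.Ga S) :=
    Ga.gaFn_injective (by rw [scl, Ga.gaFn_gaPt, res_one, _root_.one_mul])
  haveI : IsIso (scl (k : Γ(S, ⊤))) := ⟨scl ↑k⁻¹, by rw [hcomp, k.inv_mul, h1], by rw [hcomp, k.mul_inv, h1]⟩
  haveI : IsMonHom (scl (k : Γ(S, ⊤))) := Groth.Agent.H87.HomDS.isMonHom_of_points _ fun X x y => Ga.gaFn_injective (by
    rw [Ga.gaFn_mul, gaFn_comp_scl, gaFn_comp_scl, gaFn_comp_scl, Ga.gaFn_mul, mul_add])
  haveI : IsMonHom (D.u c) := (D.rootHom c).1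
  haveI : IsClosedImmersion (D.u c).left := (D.rootHom c).2.1
  refine ⟨inferInstance, ?_, fun X t x => ?_⟩
  · haveI : IsIso (scl (k : Γ(S, ⊤))).left := inferInstanceAs (IsIso ((Over.forget S).map (scl (k : Γ(S, ⊤)))))
    rw [Over.comp_left]
    infer_instance
  · refine ⟨Ga.gaPt (Red.gmFn (t ≫ chr D (D.P.root c)) * Red.gaFn x), ?_, by rw [Ga.gaFn_gaPt]⟩
    rw [comp_scl_comp, comp_scl_comp, Ga.gaFn_gaPt, eq_mul_inv_iff_mul_eq, mul_left_comm]
    exact (isRootPts D c t _).symm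

variable {D : Red.SplitRed G}

/-- The element of a root in a normalisation. -/
noncomputable def nn (D : Red.SplitRed G) (Λ : D.idx → Γ(S, ⊤)) (c : D.idx) : 𝟙_ (Over S) ⟶ G :=
  P (D.u c) (res (𝟙_ (Over S)) (Λ c)) *
    P (D.u (D.P.reflectionPerm c c)) (-res (𝟙_ (Over S)) (Λ (D.P.reflectionPerm c c))) *
    P (D.u c) (res (𝟙_ (Over S)) (Λ c))

variable {Λ : D.idx → Γ(S, ⊤)} (hu : ∀ c, IsUnit (Λ c))
  (hall : ∀ c, DualC D c (Λ c) (Λ (D.P.reflectionPerm c c)))
include hu hall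

theorem monAct_step {s : D.idx} (hs : Weyl.Dual D s) (hM : MonAct D Λ (w D s) (D.P.reflectionPerm s)) {d : D.idx}
    (hN : MonAct D Λ (nn D Λ d) (D.P.reflectionPerm d)) :
    MonAct D Λ (nn D Λ (D.P.reflectionPerm s d)) (D.P.reflectionPerm (D.P.reflectionPerm s d)) := by
  haveI : D.P.IsCrystallographic := crys D
  obtain ⟨ν, h1, s1⟩ := hM d
  obtain ⟨ν', h2, s2⟩ := hM (D.P.reflectionPerm d d)
  have hconj := (hM.mul hN).mul (hM.inv hu)
  have hperm : D.P.reflectionPerm s * D.P.reflectionPerm d * (D.P.reflectionPerm s)⁻¹ =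
      D.P.reflectionPerm (D.P.reflectionPerm s d) := by
    rw [mul_inv_eq_iff_eq_mul]
    refine Equiv.ext fun e => D.P.root.injective ?_
    have hp : D.P.pairing (D.P.reflectionPerm s e) (D.P.reflectionPerm s d) = D.P.pairing e d := by
      rw [D.P.pairing_reflectionPerm, refl_refl]
    simp only [Equiv.Perm.mul_apply, root_refl, hp, pr]
    module
  rw [hperm] at hconj
  have e := (hall d).transport hs h1 h2
  have hv : IsUnit (ν' * Λ (D.P.reflectionPerm d d)) := s2.isUnit (hu _)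
  have he := e.prod_unique (hall _) hv (hu _)
  rw [← refl_neg] at he
  have key : w D s * nn D Λ d * (w D s)⁻¹ =
      P (D.u (D.P.reflectionPerm s d)) (res (𝟙_ (Over S)) (ν * Λ d)) *
        P (D.u (D.P.reflectionPerm s (D.P.reflectionPerm d d)))
          (-res (𝟙_ (Over S)) (ν' * Λ (D.P.reflectionPerm d d))) *
        P (D.u (D.P.reflectionPerm s d)) (res (𝟙_ (Over S)) (ν * Λ d)) := by
    have e1 := h1 (𝟙_ (Over S)) (res (𝟙_ (Over S)) (Λ d))
    have e2 := h2 (𝟙_ (Over S)) (-res (𝟙_ (Over S)) (Λ (D.P.reflectionPerm d d)))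
    rw [show toUnit (𝟙_ (Over S)) ≫ w D s = w D s by
      rw [toUnit_unique (toUnit (𝟙_ (Over S))) (𝟙 _), Category.id_comp]] at e1 e2
    rw [mul_neg, ← res_mul'] at e2
    rw [← res_mul'] at e1
    rw [mul_inv_eq_iff_eq_mul, nn, ← _root_.mul_assoc, ← _root_.mul_assoc, e1,
      _root_.mul_assoc _ (w D s) (P _ _), e2, ← _root_.mul_assoc, _root_.mul_assoc _ (w D s) (P _ _), e1,
      ← _root_.mul_assoc]
  rw [key] at hconj
  rcases s1 with h | h
  · rw [h] at he hconj
    rw [(hu (D.P.reflectionPerm s d)).mul_right_inj.1 he, refl_neg] at hconj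
    exact hconj
  · rw [h] at he hconj
    have h' : ν' * Λ (D.P.reflectionPerm d d) = -Λ (D.P.reflectionPerm s (D.P.reflectionPerm d d)) := by
      refine (hu (D.P.reflectionPerm s d)).mul_right_inj.1 ?_
      linear_combination -he
    rw [h', res_neg, res_neg, neg_neg, refl_neg] at hconj
    have := hconj.inv hu
    have hinv : (D.P.reflectionPerm (D.P.reflectionPerm s d))⁻¹ = D.P.reflectionPerm (D.P.reflectionPerm s d) :=
      Equiv.ext fun e => by
        rw [Equiv.Perm.inv_eq_iff_eq, refl_refl]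
    rw [hinv] at this
    simpa only [nn, P_neg, _root_.mul_inv_rev, _root_.inv_inv, _root_.mul_assoc] using this

variable [D.P.IsCrystallographic] [D.P.IsReduced] {bs : D.P.Base} (hd : ∀ a ∈ bs.support, Weyl.Dual D a)
  (h1 : ∀ a ∈ bs.support, Λ a = 1) (h1' : ∀ a ∈ bs.support, Λ (D.P.reflectionPerm a a) = 1)
  (hM : ∀ s ∈ bs.support, MonAct D Λ (w D s) (D.P.reflectionPerm s))
include hd h1 h1' hM

theorem monAct_nn (c : D.idx) : MonAct D Λ (nn D Λ c) (D.P.reflectionPerm c) := by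
  suffices h : MonAct D Λ (nn D Λ c) (D.P.reflectionPerm c) ∧
      MonAct D Λ (nn D Λ (D.P.reflectionPerm c c)) (D.P.reflectionPerm (D.P.reflectionPerm c c)) from h.1
  refine bs.induction_reflect c (p := fun c => MonAct D Λ (nn D Λ c) (D.P.reflectionPerm c) ∧
      MonAct D Λ (nn D Λ (D.P.reflectionPerm c c)) (D.P.reflectionPerm (D.P.reflectionPerm c c)))
    (fun i h => ⟨h.2, by rw [neg_neg_root]; exact h.1⟩) (fun a ha => ⟨?_, ?_⟩) fun i j h hj => ⟨?_, ?_⟩
  · have e : nn D Λ a = w D a := by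
      rw [nn, h1 a ha, h1' a ha, res_one, w, el, res_neg, res_one]
    rw [e]; exact hM a ha
  · have hs := sys_of_dual (hd a ha)
    haveI : IsMonHom (chr D (D.P.root a)) := by
      haveI : IsMonHom (show D.T ⟶ Red.DS S D.M from D.split.hom.hom.hom) := D.split.hom.hom.isMonHom_hom
      exact inferInstanceAs (IsMonHom ((show D.T ⟶ Red.DS S D.M from D.split.hom.hom.hom) ≫ Red.chi S (D.P.root a)))
    have e : nn D Λ (D.P.reflectionPerm a a) = (w D a)⁻¹ := by
      have h := hs.W_symm (-1 : Γ((𝟙_ (Over S)).left, ⊤)ˣ)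
      rw [inv_neg, inv_one, neg_neg, Sys.W_neg] at h
      rw [nn, neg_neg_root, h1 a ha, h1' a ha, res_one, w, el_neg_one, ← h]
      simp only [Sys.W, Units.val_one, inv_one]
    rw [e]
    convert (hM a ha).inv hu using 1
    refine Equiv.ext fun e => ?_
    rw [eq_comm, Equiv.Perm.inv_eq_iff_eq]
    refine D.P.root.injective ?_
    have hp : D.P.pairing e (D.P.reflectionPerm a a) = -D.P.pairing e a := by
      rw [D.P.pairing_reflectionPerm, pr, D.P.pairing_same]; ring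
    simp only [root_refl, pr, hp, D.P.pairing_same]
    module
  · exact monAct_step hu hall (hd j hj) (hM j hj) h.1
  · rw [← refl_neg]
    exact monAct_step hu hall (hd j hj) (hM j hj) h.2

end Groth.Agent.H82.R2
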