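import Groth.Agent.H82.R2.CentRoot
import Groth.Agent.H82.R2.Norm
import Groth.Agent.H82.R2.System
import Groth.Agent.H82.Borel.RankOneSolv
import Groth.Agent.H82.RankOne2.Bruhat
import Groth.Agent.S4131

/-!
# Opposite root groups of a split group are dual up to a unit
-/

set_option autoImplicit false
set_option maxHeartbeats 800000
set_option linter.style.haveILetI false
set_option linter.unusedSectionVars false
universe u

open CategoryTheory MonoidalCategory CartesianMonoidalCategory MonObj GrpObj AlgebraicGeometry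
open Groth.Agent.Lib.RedPts Groth.Agent.H82.BigCell Groth.Agent.H82.Contract Groth.Agent.H82.Weyl
open Groth.Agent.H82.RankOne (P P_eq P_add P_zero P_neg P_comp gmPt_eq gmPt_mul gmPt_inv Sys)

namespace Groth.Agent.H82.R2

variable {S : Scheme.{u}} {G : Over S} [GrpObj G] {D : Red.SplitRed G}

open Borel (rootPair P_mem_rootPair IsACPt)

/-- Scaling the negative root group preserves the hypotheses of the rank-one formula. -/
theorem hyp_scl {Z T : Over S} [GrpObj Z] [GrpObj T] {i : T ⟶ Z} {α : T ⟶ Red.Gm S} {pp pm : Red.Ga S ⟶ Z}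
    [IsMonHom i] (H : Hyp i α pp pm) {m : Γ(S, ⊤)} (hm : IsUnit m) : Hyp i α pp (scl m ≫ pm) := by
  obtain ⟨k, rfl⟩ := hm
  have hcomp : ∀ p q : Γ(S, ⊤), scl p ≫ scl q = scl (q * p) := fun p q =>
    Ga.gaFn_injective (by rw [gaFn_comp_scl, scl, scl, Ga.gaFn_gaPt, Ga.gaFn_gaPt, res_mul', _root_.mul_assoc])
  have h1 : scl (1 : Γ(S, ⊤)) = 𝟙 (Red.Ga S) :=
    Ga.gaFn_injective (by rw [scl, Ga.gaFn_gaPt, res_one, _root_.one_mul])
  haveI : IsIso (scl (k : Γ(S, ⊤))) := ⟨scl ↑k⁻¹, by rw [hcomp, k.inv_mul, h1], by rw [hcomp, k.mul_inv, h1]⟩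
  refine { H with openImm := ?_, conjM := fun {X} t b => ?_ }
  · have := H.openImm
    have e : ((scl (k : Γ(S, ⊤)) ≫ pm) ⊗ₘ i) ⊗ₘ pp =
        ((scl (k : Γ(S, ⊤)) ⊗ₘ 𝟙 T) ⊗ₘ 𝟙 (Red.Ga S)) ≫ ((pm ⊗ₘ i) ⊗ₘ pp) := by
      rw [tensorHom_comp_tensorHom, tensorHom_comp_tensorHom, Category.id_comp, Category.id_comp]
    rw [Φ, e, Category.assoc, Over.comp_left]
    haveI : IsIso (((scl (k : Γ(S, ⊤)) ⊗ₘ 𝟙 T) ⊗ₘ 𝟙 (Red.Ga S))).left :=
      ((Over.forget S).mapIso (asIso ((scl (k : Γ(S, ⊤)) ⊗ₘ 𝟙 T) ⊗ₘ 𝟙 (Red.Ga S)))).isIso_hom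
    infer_instance
  · simp only [P, comp_scl_comp, Ga.gaFn_gaPt]
    rw [mul_left_comm]
    exact H.conjM t _

/-- The cocharacter of a coroot at a unit. -/
noncomputable abbrev Cor (D : Red.SplitRed G) (a : D.idx) {Y : Over S} (z : Γ(Y.left, ⊤)ˣ) : Y ⟶ D.T :=
  Gm.gmPt z ≫ cochar D (D.P.coroot a).toAddMonoidHom

theorem Cor_sq_ne (a : D.idx) {Y : Over S} (hY : IsACPt Y) (h : ∀ z : Γ(Y.left, ⊤)ˣ, Cor D a z = (Cor D a z)⁻¹) :
    False := by
  haveI := hY.infinite
  haveI := Cent.isMonHom_chr (D := D) (D.P.root a)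
  obtain ⟨z, hz⟩ := Borel.exists_unit_zpow_ne hY.isField 4 (by norm_num)
  have h1 : (Cor D a z * Cor D a z) ≫ chr D (D.P.root a) = 1 := by
    conv_lhs => arg 1; arg 2; rw [h z]
    rw [mul_inv_cancel]
    exact MonObj.one_comp _
  have h2 := congrArg Red.gmFn h1
  rw [Gm.gmFn_one, MonObj.mul_comp _ _ (chr D (D.P.root a)), Gm.gmFn_mul, gmFn_cochar, Borel.coroot_root] at h2
  refine hz (Eq.trans ?_ h2)
  rw [← Units.val_mul, ← zpow_add, show (2 : ℤ) + 2 = 4 from rfl]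

/-- Opposite root groups do not commute at a geometric point. -/
theorem not_commute (b : D.P.Base) (a : D.idx) (Y₀ : Over S) [Nontrivial Γ(Y₀.left, ⊤)] :
    ∃ (Y : Over S) (_ : Y ⟶ Y₀) (x y : Γ(Y.left, ⊤)), P (D.u a) x * P (D.u (D.P.reflectionPerm a a)) y ≠
      P (D.u (D.P.reflectionPerm a a)) y * P (D.u a) x := by
  obtain ⟨Y, f, ω, hY, hω, hωC⟩ := Borel.exists_omega b a (Y₀ := Y₀)
  by_contra hc
  push Not at hc
  set a' := D.P.reflectionPerm a a
  haveI : IsMonHom (D.u a) := (D.rootHom a).1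
  haveI : IsMonHom (D.u a') := (D.rootHom a').1
  have hc' : ∀ x y : Γ(Y.left, ⊤), P (D.u a) x * P (D.u a') y = P (D.u a') y * P (D.u a) x := hc Y f
  obtain ⟨A, C, rfl⟩ : ∃ A C : Γ(Y.left, ⊤), ω = P (D.u a') A * P (D.u a) C := by
    clear hωC
    induction hω using Subgroup.closure_induction with
    | mem g hg =>
      obtain ⟨x, rfl | rfl⟩ := hg
      · exact ⟨0, x, by rw [P_zero, _root_.one_mul]⟩
      · exact ⟨x, 0, by rw [P_zero, _root_.mul_one]⟩
    | one => exact ⟨0, 0, by rw [P_zero, P_zero, _root_.mul_one]⟩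
    | mul g g' _ _ ih ih' =>
      obtain ⟨A, C, rfl⟩ := ih
      obtain ⟨A', C', rfl⟩ := ih'
      refine ⟨A + A', C + C', ?_⟩
      rw [P_add, P_add, _root_.mul_assoc, ← _root_.mul_assoc (P (D.u a) C), hc']
      simp only [_root_.mul_assoc]
    | inv g _ ih =>
      obtain ⟨A, C, rfl⟩ := ih
      exact ⟨-A, -C, by rw [_root_.mul_inv_rev, ← P_neg, ← P_neg, hc']⟩
  refine Cor_sq_ne a hY fun z => ?_
  have h := mul_inv_eq_iff_eq_mul.1 (hωC z)
  have eA := isRootPts D a' (Cor D a z)⁻¹ A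
  rw [GrpObj.inv_comp] at eA
  have eC : P (D.u a) C * (Cor D a z ≫ D.i) =
      (Cor D a z ≫ D.i) * P (D.u a) (Red.gmFn ((Cor D a z)⁻¹ ≫ chr D (D.P.root a)) * C) := by
    have := isRootPts D a (Cor D a z)⁻¹ C
    rw [GrpObj.inv_comp, inv_mul_eq_iff_eq_mul, ← _root_.mul_assoc, eq_mul_inv_iff_mul_eq] at this
    exact this
  rw [_root_.mul_assoc, eC, ← _root_.mul_assoc, ← _root_.mul_assoc _ (P (D.u a') A), eA,
    _root_.mul_assoc (P (D.u a') _), ← GrpObj.inv_comp (Cor D a z) D.i] at h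
  rw [← _root_.mul_assoc] at h
  exact (pm_coords a h).2.1

/-- A homomorphism into the torus agreeing with a coroot at geometric points. -/
theorem eq_cochar (a : D.idx) (av : Red.Gm S ⟶ D.T) [IsMonHom av]
    (h : ∀ (Y₀ : Over S), Nontrivial Γ(Y₀.left, ⊤) → ∃ (Y : Over S) (_ : Y ⟶ Y₀), IsACPt Y ∧
      ∀ z : Γ(Y.left, ⊤)ˣ, Gm.gmPt z ≫ av = Cor D a z) :
    av = cochar D (D.P.coroot a).toAddMonoidHom := by
  haveI : IsMonHom (show D.T ⟶ Red.DS S D.M from D.split.hom.hom.hom) := D.split.hom.hom.isMonHom_hom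
  haveI : Module.Finite ℤ D.M := inferInstance
  haveI : AddGroup.FG D.M := Module.Finite.iff_addGroup_fg.1 inferInstance
  let v : Red.DS S ℤ ⟶ Red.DS S D.M := av ≫ (show D.T ⟶ Red.DS S D.M from D.split.hom.hom.hom)
  haveI : IsMonHom v := inferInstanceAs (IsMonHom (av ≫ (show D.T ⟶ Red.DS S D.M from D.split.hom.hom.hom)))
  choose φ U hsU _ hU using fun s : S => Groth.Agent.H87.HomDS.exists_local_form
    (Groth.Agent.Lib.Tori.Character.isMultTypeFT_DS S ℤ) v s
  have hφ : ∀ s, φ s = (D.P.coroot a).toAddMonoidHom := fun s => by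
    haveI : Nontrivial Γ((Over.mk (Red.geomPt (S := S) s)).left, ⊤) :=
      (Scheme.ΓSpecIso (CommRingCat.of (AlgebraicClosure (S.residueField s)))).commRingCatIsoToRingEquiv.toEquiv.nontrivial
    obtain ⟨Y, f, hY, hz⟩ := h (Over.mk (Red.geomPt s)) inferInstance
    have hr : Set.range (Red.geomPt (S := S) s) ⊆ Set.range (U s).ι := by
      rw [Scheme.Opens.range_ι]
      rintro _ ⟨p, rfl⟩
      have : (Red.geomPt (S := S) s) p = s := by
        rw [Red.geomPt, Scheme.Hom.comp_apply, Scheme.fromSpecResidueField_apply]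
      rw [this]; exact hsU s
    let g : Over.mk (Red.geomPt (S := S) s) ⟶ Over.mk (U s).ι :=
      Over.homMk (IsOpenImmersion.lift (U s).ι (Red.geomPt s) hr) (IsOpenImmersion.lift_fac _ _ _)
    refine AddMonoidHom.ext fun m => ?_
    by_contra hne
    haveI := hY.infinite
    obtain ⟨z, hz'⟩ := Borel.exists_unit_zpow_ne hY.isField (φ s m - (D.P.coroot a).toAddMonoidHom m)
      (sub_ne_zero.2 hne)
    refine hz' ?_
    have h1 : Gm.gmPt z ≫ Red.DSmap S (φ s) = (Cor D a z) ≫ D.split.hom.hom.hom := by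
      rw [← hU s Y (f ≫ g) (Gm.gmPt z), ← hz z, Category.assoc]
    have h2 : Red.gmFn ((Gm.gmPt z ≫ Red.DSmap S (φ s)) ≫ Red.chi S m) =
        ((z ^ φ s m : Γ(Y.left, ⊤)ˣ) : Γ(Y.left, ⊤)) := by
      have := gmFn_cochar D (φ s) m z
      rwa [chr, cochar, Category.assoc, Category.assoc, ← Category.assoc D.split.inv.hom.hom, split_inv_hom,
        Category.id_comp, ← Category.assoc] at this
    rw [h1, Category.assoc, show (D.split.hom.hom.hom ≫ Red.chi S m) = chr D m from rfl, gmFn_cochar] at h2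
    have h3 : z ^ (D.P.coroot a).toAddMonoidHom m = z ^ φ s m := Units.ext h2
    rw [zpow_sub, h3, mul_inv_cancel, Units.val_one]
  have hv : v = Red.DSmap S (D.P.coroot a).toAddMonoidHom := by
    refine Over.OverMorphism.ext (Scheme.Cover.hom_ext ((Red.DS S ℤ).left.openCoverOfIsOpenCover
      (fun s => (Red.DS S ℤ).hom ⁻¹ᵁ U s) (TopologicalSpace.IsOpenCover.mk
        (eq_top_iff.2 fun x _ => TopologicalSpace.Opens.mem_iSup.2 ⟨(Red.DS S ℤ).hom x, hsU _⟩))) _ _ fun s => ?_)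
    let O := (Red.DS S ℤ).hom ⁻¹ᵁ U s
    let X : Over S := Over.mk (O.ι ≫ (Red.DS S ℤ).hom)
    let x : X ⟶ Red.DS S ℤ := Over.homMk O.ι rfl
    let q : X ⟶ Over.mk (U s).ι := Over.homMk ((Red.DS S ℤ).hom ∣_ U s) (morphismRestrict_ι _ _)
    have := hU s X q x
    rw [hφ s] at this
    exact congrArg Over.Hom.left this
  calc av = v ≫ D.split.inv.hom.hom := by
        simp only [v, Category.assoc]; rw [split_hom_inv, Category.comp_id]
    _ = _ := by rw [hv]; rfl

set_option maxHeartbeats 1600000 in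
/-- Opposite root homomorphisms are dual after multiplying one of them by a unit. -/
theorem exists_dualC (b : D.P.Base) (a : D.idx) : ∃ m : Γ(S, ⊤), IsUnit m ∧ DualC D a 1 m := by
  haveI := reduced_of_base b
  haveI := isAffineHom D
  obtain ⟨lam, h0, hne⟩ := exists_singular_functional D a
  obtain ⟨Z, hGZ, j, iZ, pp, pm, hj, hjm, hi, hpp1, hpm1, hiZ, hpp, hpm, H, hjc⟩ := Cent.exists_hyp a h0 hne
  haveI := Cent.isMonHom_chr (D := D) (D.P.root a)
  set a' := D.P.reflectionPerm a a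
  have hPp : ∀ {X : Over S} (x : Γ(X.left, ⊤)), P pp x ≫ j = P (D.u a) x := fun x => by
    rw [P, P, Category.assoc, hpp]
  have hPm : ∀ {X : Over S} (x : Γ(X.left, ⊤)), P pm x ≫ j = P (D.u a') x := fun x => by
    rw [P, P, Category.assoc, hpm]
  have hjcancel : ∀ {X : Over S} {p q : X ⟶ Z}, p ≫ j = q ≫ j → p = q := fun h => (cancel_mono j).1 h
  have hT : Red.IsTorus D.T :=
    Groth.Agent.Lib.Tori.Basic.isTorus_of_isSplit (M := D.M) ⟨D.split⟩
  have hunit := fun X => H.isUnit_lam_mu hT (fun s => by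
    haveI : Nontrivial Γ((Over.mk (Red.geomPt (S := S) s)).left, ⊤) :=
      (Scheme.ΓSpecIso (CommRingCat.of (AlgebraicClosure (S.residueField s)))).commRingCatIsoToRingEquiv.toEquiv.nontrivial
    obtain ⟨Y, f, x, y, hxy⟩ := not_commute b a (Over.mk (Red.geomPt s))
    refine ⟨Y, f, x, y, fun h => hxy ?_⟩
    have h' := congrArg (· ≫ j) h
    simpa only [MonObj.mul_comp _ _ j, hPp, hPm] using h') X
  -- the normalised system
  have hl : IsUnit (H.lam (𝟙_ (Over S))) := (hunit _).1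
  let m : Γ(S, ⊤) := (↑hl.unit⁻¹ : Γ((𝟙_ (Over S)).left, ⊤))
  have hm : IsUnit m := (hl.unit⁻¹).isUnit
  have hlm : ∀ X : Over S, H.lam X * res X m = 1 := fun X => by
    rw [← H.lam_comp (toUnit X), ← res_comp (toUnit X), res_unit, ← map_mul]
    exact (congrArg _ hl.mul_val_inv).trans (map_one _)
  haveI := Groth.Agent.S4131.isMonHom_av H hunit
  set avZ := Groth.Agent.S4131.av H hunit
  haveI : IsMonHom (scl (S := S) m) := isMonHom_of_points _ fun X x y => Ga.gaFn_injective (by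
    rw [Ga.gaFn_mul, gaFn_comp_scl, gaFn_comp_scl, gaFn_comp_scl, Ga.gaFn_mul, mul_add])
  let pm' : Red.Ga S ⟶ Z := scl m ≫ pm
  have hPm' : ∀ {X : Over S} (x : Γ(X.left, ⊤)), P pm' x = P pm (res X m * x) := fun x => by
    rw [P, comp_scl_comp, Ga.gaFn_gaPt]
  have hs : Sys iZ (chr D (D.P.root a)) pp pm' avZ :=
    { conjP := H.conjP
      conjM := fun {X} t y => by
        rw [hPm', hPm', mul_left_comm]
        exact H.conjM t _
      sq := fun u => by
        rw [Groth.Agent.S4131.gmPt_av]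
        exact H.avPt_sq hunit u
      av_mul := fun u v => by rw [gmPt_mul, MonObj.mul_comp]
      rule := fun {X} x y u hu => by
        have h := H.dec_main hunit x (res X m * y) u
          (by rw [hu]; linear_combination -(x * y) * hlm X)
        rw [Dec] at h
        rw [hPm', hPm', h, ← Category.assoc (Gm.gmPt u), Groth.Agent.S4131.gmPt_av, _root_.mul_assoc (res X m)] }
  have hi' : ∀ {X : Over S} (t : X ⟶ D.T), (t ≫ iZ) ≫ j = t ≫ D.i := fun t => by rw [Category.assoc, hiZ]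
  have hav : avZ = cochar D (D.P.coroot a).toAddMonoidHom := by
    refine eq_cochar a avZ fun Y₀ hY₀ => ?_
    haveI := hY₀
    obtain ⟨Y, f, ω, hY, hω, hωC⟩ := Borel.exists_omega b a (Y₀ := Y₀)
    refine ⟨Y, f, hY, ?_⟩
    have hk := hY.isField
    have hstab : ∃ w : Y ⟶ Z, w ∈ bruhatStab iZ pp pm' Y ∧ w ≫ j = ω := by
      clear hωC
      have H' : Hyp iZ (chr D (D.P.root a)) pp pm' := hyp_scl H hm
      induction hω using Subgroup.closure_induction with
      | mem g hg =>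
        obtain ⟨x, rfl | rfl⟩ := hg
        · exact ⟨P pp x, H'.cell_mem_stab hs hk ⟨0, 1, x, by simp [Cell, P_zero, MonObj.one_comp]⟩, hPp x⟩
        · obtain ⟨y, rfl⟩ : ∃ y, x = res Y m * y := ⟨H.lam Y * x, by linear_combination -x * hlm Y⟩
          exact ⟨P pm' y, H'.cell_mem_stab hs hk ⟨y, 1, 0, by simp [Cell, P_zero, MonObj.one_comp]⟩,
            by rw [hPm', hPm]⟩
      | one => exact ⟨1, one_mem _, MonObj.one_comp j⟩
      | mul g g' _ _ ih ih' =>
        obtain ⟨w, hw, rfl⟩ := ih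
        obtain ⟨w', hw', rfl⟩ := ih'
        exact ⟨w * w', mul_mem hw hw', MonObj.mul_comp w w' j⟩
      | inv g _ ih =>
        obtain ⟨w, hw, rfl⟩ := ih
        exact ⟨w⁻¹, inv_mem hw, GrpObj.inv_comp w j⟩
    have H' : Hyp iZ (chr D (D.P.root a)) pp pm' := hyp_scl H hm
    obtain ⟨w, hw, rfl⟩ := hstab
    have hwC : ∀ z, w * (Cor D a z ≫ iZ) = ((Cor D a z)⁻¹ ≫ iZ) * w := fun z => hjcancel (by
      rw [MonObj.mul_comp, MonObj.mul_comp, hi', hi', GrpObj.inv_comp _ D.i]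
      exact mul_inv_eq_iff_eq_mul.1 (hωC z))
    rcases H'.inBruhat_of_mem_stab hs hw with ⟨A, B, C, hcell⟩ | ⟨t, C, hcell⟩
    · refine (Cor_sq_ne a hY fun z => ?_).elim
      have h1 := H'.cell_mul_right hcell (Cor D a z) 0
      have h2 := H'.cell_left_T hcell (Cor D a z)⁻¹
      rw [P_zero, _root_.mul_one, hwC] at h1
      have h3 := (H'.unique h1 h2).2.1
      rwa [H'.comm _ B, mul_right_inj] at h3
    · intro z
      have key : ∀ z : Γ(Y.left, ⊤)ˣ, Cor D a z * Cor D a z = (Gm.gmPt z ≫ avZ) * (Gm.gmPt z ≫ avZ) := fun z => by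
        have h := hwC z
        rw [hcell, _root_.mul_assoc _ (P pp C), H'.P_mul_B, ← _root_.mul_assoc, _root_.mul_assoc (w₀ pp pm' Y),
          ← MonObj.mul_comp, ← _root_.mul_assoc, ← _root_.mul_assoc] at h
        have hW : ∀ v : Y ⟶ D.T, (v ≫ iZ) * w₀ pp pm' Y =
            w₀ pp pm' Y * (((v ≫ chr D (D.P.root a) ≫ avZ)⁻¹ * v) ≫ iZ) := fun v => by
          have hc := hs.W_conj v (-1 : Γ(Y.left, ⊤)ˣ)
          rw [Sys.W_neg, _root_.inv_inv] at hc
          rw [MonObj.mul_comp, GrpObj.inv_comp (v ≫ chr D (D.P.root a) ≫ avZ) iZ, Category.assoc, Category.assoc,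
            ← hc, w₀]
          simp only [_root_.mul_assoc, mul_inv_cancel_left]
        rw [hW] at h
        rw [_root_.mul_assoc (w₀ pp pm' Y) _ (t ≫ iZ), ← MonObj.mul_comp] at h
        have h2 : ∀ {t₁ t₂ : Y ⟶ D.T} {c₁ c₂ : Γ(Y.left, ⊤)},
            w₀ pp pm' Y * (t₁ ≫ iZ) * P pp c₁ = w₀ pp pm' Y * (t₂ ≫ iZ) * P pp c₂ → t₁ = t₂ := by
          intro t₁ t₂ c₁ c₂ e
          rw [_root_.mul_assoc, _root_.mul_assoc, mul_right_inj] at e
          exact (H'.unique (f := (t₁ ≫ iZ) * P pp c₁) (A := 0) (A' := 0) (B := t₁) (B' := t₂) (C := c₁) (C' := c₂) (by simp [Cell, P_zero])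
            (by rw [e]; simp [Cell, P_zero])).2.1
        have h3 := h2 h
        rw [H'.comm t _, mul_left_inj] at h3
        have e : Sys.au (chr D (D.P.root a)) (Cor D a z)⁻¹ = z⁻¹ * z⁻¹ := Units.ext (by
          rw [Sys.au, IsUnit.unit_spec, show (Cor D a z)⁻¹ = Gm.gmPt z⁻¹ ≫ cochar D (D.P.coroot a).toAddMonoidHom by
            rw [gmPt_inv, GrpObj.inv_comp], gmFn_cochar, Borel.coroot_root, zpow_two])
        rw [← Category.assoc, gmPt_eq ((Cor D a z)⁻¹ ≫ chr D (D.P.root a)) (Gm.isUnit_gmFn _).unit_spec.symm] at h3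
        change Cor D a z = (Gm.gmPt (Sys.au (chr D (D.P.root a)) (Cor D a z)⁻¹) ≫ avZ)⁻¹ * (Cor D a z)⁻¹ at h3
        rw [e, eq_mul_inv_iff_mul_eq, gmPt_mul, MonObj.mul_comp, gmPt_inv, GrpObj.inv_comp, _root_.mul_inv_rev,
          _root_.inv_inv] at h3
        exact h3
      obtain ⟨s, hs'⟩ := hY.sqrt (z : Γ(Y.left, ⊤))
      have hsu : IsUnit s := isUnit_of_mul_isUnit_left (hs'.symm ▸ z.isUnit)
      rw [show z = hsu.unit * hsu.unit from (Units.ext hs').symm, gmPt_mul, MonObj.mul_comp, Cor, gmPt_mul,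
        MonObj.mul_comp]
      exact (key hsu.unit).symm
  refine ⟨m, hm, fun X x y u hu => ?_⟩
  have h := congrArg (· ≫ j) (hs.rule x y u hu)
  rw [← Category.assoc (Gm.gmPt u)] at h
  simp only [MonObj.mul_comp _ _ j, hPm', hPp, hPm, hi'] at h
  rw [hav, Category.assoc (Gm.gmPt u)] at h
  simpa only [res_one, _root_.one_mul, Sys.H] using h

end Groth.Agent.H82.R2
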