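import Groth.Agent.H82.R2.TranslateCover

/-!
# Sections over a local base are generated by root groups and the torus
-/

set_option autoImplicit false
set_option maxHeartbeats 800000
set_option linter.style.haveILetI false
set_option linter.unusedSectionVars false
universe u

open CategoryTheory MonoidalCategory CartesianMonoidalCategory MonObj GrpObj AlgebraicGeometry
open Groth.Agent.Lib.RedPts Groth.Agent.H82.BigCell Groth.Agent.H82.Contract Groth.Agent.H82.Weyl
open Groth.Agent.H82.RankOne (P P_eq P_add P_zero P_neg P_comp Sys)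
open Groth.Agent.H82.Borel (IsACPt root_neg_idx exists_enum)

namespace Groth.Agent.H82.R2

variable {A : Type u} [CommRing A] [IsLocalRing A] {G : Over (Spec (CommRingCat.of A))} [GrpObj G]
  {D : Red.SplitRed G}

/-- A subgroup of sections over a local base containing the torus and the simple root groups with their
opposites is everything. -/
theorem eq_top_of_local (bs : D.P.Base) (H : Subgroup (𝟙_ (Over (Spec (CommRingCat.of A))) ⟶ G))
    (hT : ∀ t : 𝟙_ _ ⟶ D.T, t ≫ D.i ∈ H)
    (hs : ∀ a ∈ bs.support, ∀ x : Γ((𝟙_ (Over (Spec (CommRingCat.of A)))).left, ⊤),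
      P (D.u a) x ∈ H ∧ P (D.u (D.P.reflectionPerm a a)) x ∈ H) : H = ⊤ := by
  classical
  refine eq_top_iff.2 fun g _ => ?_
  obtain ⟨l, hA⟩ := Bruhat.exists_adapted bs
  obtain ⟨n, eneg, hneg⟩ := exists_enum (D := D) (RedSub.negRoots D.P bs)
  obtain ⟨m, epos, hpos⟩ := exists_enum (D := D) (RedSub.posRoots D.P bs)
  let o : (𝟙_ (Over (Spec (CommRingCat.of A)))).left := (IsLocalRing.closedPoint A : PrimeSpectrum A)
  obtain ⟨Y, g', w, hY, hgp, hw, hbig⟩ :=
    exists_translate hA (fun _ => Ga.gaPt 1) (fun _ _ => by rw [Ga.gaFn_gaPt]; exact isUnit_one) (g.left o)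
  obtain ⟨o'⟩ := Bruhat.nonempty_acPt hY
  let L : G ⟶ G := (toUnit G ≫ w⁻¹) * 𝟙 G
  have hL : ∀ {X : Over (Spec (CommRingCat.of A))} (p : X ⟶ G), p ≫ L = (toUnit X ≫ w)⁻¹ * p := fun {X} p => by
    simp only [L, MonObj.comp_mul, Category.comp_id, ← Category.assoc, toUnit_unique (p ≫ toUnit G) (toUnit X),
      GrpObj.comp_inv]
  rw [← hL] at hbig
  set h := g ≫ L with hh
  have hmem : h.left o ∈ Set.range (RedSub.cellMap D eneg epos).left.base := by
    have := mem_range_cell hA hneg hpos hbig o'
    rw [Over.comp_left, Scheme.Hom.comp_apply, hgp] at this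
    rw [hh, Over.comp_left, Scheme.Hom.comp_apply]
    exact this
  haveI : IsOpenImmersion (RedSub.cellMap D eneg epos).left := by
    have h1 := hneg; have h2 := hpos
    rw [Bruhat.negRoots_eq hA] at h1
    rw [Bruhat.posRoots_eq hA] at h2
    exact (Bruhat.isOpenImmersion_cell hA.ne h1 h2).2.2
  have htop : h.left ⁻¹ᵁ (RedSub.cellMap D eneg epos).left.opensRange = ⊤ :=
    (IsLocalRing.closedPoint_mem_iff (R := A) _).1 hmem
  have hrange : Set.range h.left.base ⊆ Set.range (RedSub.cellMap D eneg epos).left.base := by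
    rintro _ ⟨q, rfl⟩
    have : q ∈ h.left ⁻¹ᵁ (RedSub.cellMap D eneg epos).left.opensRange := htop ▸ trivial
    exact this
  let z : 𝟙_ (Over (Spec (CommRingCat.of A))) ⟶ _ :=
    Over.homMk (U := 𝟙_ _) (IsOpenImmersion.lift (RedSub.cellMap D eneg epos).left h.left hrange) (by
      rw [← Over.w (RedSub.cellMap D eneg epos), IsOpenImmersion.lift_fac_assoc]
      exact Over.w h)
  have hz : z ≫ RedSub.cellMap D eneg epos = h := Over.OverMorphism.ext (IsOpenImmersion.lift_fac _ _ _)
  have hroot := root_mem_of_simple bs H hs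
  have hhH : h ∈ H := (hz ▸ big_comp_cellMap hA hneg hpos z).mem hA H hroot hT
  have hwH : w ∈ H := by
    refine (Submonoid.closure_le.2 ?_) hw
    rintro _ ⟨a, ha, rfl⟩
    exact (hs a ha _).1
  rw [hh, hL, toUnit_unique (toUnit (𝟙_ _)) (𝟙 _), Category.id_comp] at hhH
  simpa using mul_mem hwH hhH

end Groth.Agent.H82.R2
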