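import Groth.Agent.H82.R2.Comm
import Groth.Agent.H82.Weyl.PinnedExt
import Groth.Agent.H82.Bruhat.Setup

/-!
# The elements `u_a(1) u_{-a}(-1) u_a(1)` of a pinning
-/

set_option autoImplicit false
set_option linter.style.haveILetI false
set_option linter.unusedSectionVars false
universe u

open CategoryTheory MonoidalCategory CartesianMonoidalCategory MonObj GrpObj AlgebraicGeometry
open Groth.Agent.Lib.RedPts Groth.Agent.H82.BigCell Groth.Agent.H82.Contract
open Groth.Agent.H82.RankOne (P P_eq P_add P_zero P_neg P_comp Sys)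

namespace Groth.Agent.H82.R2

variable {S : Scheme.{u}} {G : Over S} [GrpObj G] {D : Red.SplitRed G}

theorem res_one (X : Over S) : res X (1 : Γ(S, ⊤)) = 1 := map_one _

theorem res_neg (X : Over S) (z : Γ(S, ⊤)) : res X (-z) = -res X z := by rw [res, res, map_neg]

theorem el_comp (a : D.idx) (z : Γ(S, ⊤)) {X X' : Over S} (f : X' ⟶ X) : f ≫ el D a z X = el D a z X' := by
  simp [el, MonObj.comp_mul, P_comp, res_comp]

theorem el_neg_one (a : D.idx) (X : Over S) :
    el D a (-1) X = Sys.W (D.u a) (D.u (D.P.reflectionPerm a a)) (1 : Γ(X.left, ⊤)ˣ) := by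
  simp [el, Sys.W, res_neg, res_one]

theorem flip_el {a : D.idx} (hd : Weyl.Dual D a) : Flip D (el D a (-1)) a (-1) := fun X => by
  have hs := Weyl.sys_of_dual hd
  haveI : IsMonHom (chr D (D.P.root a)) := by
    haveI : IsMonHom (show D.T ⟶ Red.DS S D.M from D.split.hom.hom.hom) := D.split.hom.hom.isMonHom_hom
    exact inferInstanceAs (IsMonHom ((show D.T ⟶ Red.DS S D.M from D.split.hom.hom.hom) ≫ Red.chi S (D.P.root a)))
  have h := hs.W_symm (1 : Γ(X.left, ⊤)ˣ)
  rw [el_neg_one, res_neg, res_one]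
  conv_lhs => rw [← h]
  simp [Sys.W, _root_.mul_assoc]

theorem rep_el {a : D.idx} (hd : Weyl.Dual D a) (X : Over S) : Bruhat.Rep [a] (el D a (-1) X) := by
  rw [Bruhat.Rep, el_neg_one, List.reverse_singleton]
  convert Weyl.actsBy_W hd X using 1
  refine AddMonoidHom.ext fun m => ?_
  simp [Weyl.wmap, Weyl.word]

theorem maps_el [D.P.IsReduced] {a : D.idx} (hd : Weyl.Dual D a) (c : D.idx) :
    Maps (el D a (-1)) c (D.P.reflectionPerm a c) := fun X x => by
  have hg : ∀ Y : Over S, toUnit Y ≫ el D a (-1) (𝟙_ (Over S)) = el D a (-1) Y := fun Y => el_comp a (-1) _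
  obtain ⟨x', hx'⟩ := Bruhat.exists_conj_root [a] (el D a (-1) (𝟙_ (Over S)))
    (fun Y => by rw [hg]; exact rep_el hd Y) c x
  rw [hg, Bruhat.wordPerm_singleton, mul_inv_eq_iff_eq_mul] at hx'
  exact ⟨x', hx'⟩

/-- The element `w` of a pinning in the form `el`. -/
theorem toUnit_comp_w {a : D.idx} (e₁ : 𝟙_ (Over S) ⟶ Red.Ga S) (he₁ : Red.gaFn e₁ = 1) (X : Over S) :
    toUnit X ≫ ((e₁ ≫ D.u a) * (e₁ ≫ D.u (D.P.reflectionPerm a a))⁻¹ * (e₁ ≫ D.u a)) = el D a (-1) X := by
  rw [← el_comp a (-1) (toUnit X), el, P_eq, P_eq, he₁, ← P_neg, res_neg, res_one]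

/-- Two simple roots with the given pairings form a pair. -/
theorem pair_of_base [D.P.IsReduced] (bs : D.P.Base) {a b : D.idx} (ha : a ∈ bs.support) (hb : b ∈ bs.support) {n : ℤ}
    (hn : n = 1 ∨ n = 2 ∨ n = 3) (hba : D.P.pairing b a = -n) (hab : D.P.pairing a b = -1) : Pair D a b n :=
  ⟨hba, hab, bs.sub_notMem_range_root hb ha, hn, fun ⟨c, hc⟩ => by
    haveI : IsAddTorsionFree D.M := .of_isTorsionFree ℤ D.M
    exact D.P.nsmul_notMem_range_root (n := 2) (i := a) ⟨c, by rw [hc, two_nsmul]⟩⟩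

theorem reduced_of_base (bs : D.P.Base) : D.P.IsReduced := by
  haveI : D.P.IsCrystallographic := crys D
  haveI : IsAddTorsionFree D.M := .of_isTorsionFree ℤ D.M
  haveI : IsAddTorsionFree (Module.Dual ℤ D.M) := .of_isTorsionFree ℤ _
  exact Weyl.isReduced_of_base bs

end Groth.Agent.H82.R2
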