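import Groth.Agent.H82.Weyl.RootChar
import Mathlib.LinearAlgebra.RootSystem.Finite.Lemmas

/-!
# Roots in the span of a pair of roots with pairings `(-n, -1)`
-/

set_option autoImplicit false
set_option linter.style.haveILetI false
set_option linter.unusedSectionVars false
universe u

open CategoryTheory AlgebraicGeometry MonObj

namespace Groth.Agent.H82.R2

variable {S : Scheme.{u}} {G : Over S} [GrpObj G] (D : Red.SplitRed G)

theorem crys : D.P.IsCrystallographic := ⟨fun i j => ⟨D.P.pairing i j, by simp⟩⟩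

theorem pairingIn_eq [D.P.IsCrystallographic] (i j : D.idx) : D.P.pairingIn ℤ i j = D.P.pairing i j := by
  simpa using D.P.algebraMap_pairingIn ℤ i j

theorem root_refl (i j : D.idx) :
    D.P.root (D.P.reflectionPerm i j) = D.P.root j - D.P.pairing j i • D.P.root i := by
  rw [D.P.root_reflectionPerm, D.P.reflection_apply_root]

theorem root_neg (i : D.idx) : D.P.root (D.P.reflectionPerm i i) = -D.P.root i := by
  rw [root_refl, D.P.pairing_same, two_zsmul]; abel

/-- Every additive functional can be made non-zero on all roots without changing its signs. -/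
theorem exists_functional (φ : D.M →+ ℤ) : ∃ l : D.M →+ ℤ, (∀ c, l (D.P.root c) ≠ 0) ∧
    (∀ c, 0 < φ (D.P.root c) → 0 < l (D.P.root c)) ∧ ∀ c, φ (D.P.root c) < 0 → l (D.P.root c) < 0 := by
  haveI : IsAddTorsionFree D.M := .of_isTorsionFree ℤ D.M
  haveI : Module.IsReflexive ℤ D.M := .of_isPerfPair D.P.toLinearMap
  obtain ⟨l₁, hl₁⟩ := Weyl.exists_functional_option (fun c : D.idx => D.P.root c) fun c => D.P.ne_zero c
  let N : ℤ := 1 + ∑ c, |l₁ (D.P.root c)|
  have hN : ∀ c, |l₁ (D.P.root c)| < N := fun c => by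
    have := Finset.single_le_sum (f := fun c => |l₁ (D.P.root c)|) (fun _ _ => abs_nonneg _) (Finset.mem_univ c)
    simp only [N]; omega
  have hval : ∀ c, (N • φ + l₁) (D.P.root c) = N * φ (D.P.root c) + l₁ (D.P.root c) := fun c => by simp
  have hpos : ∀ c, 0 < φ (D.P.root c) → 0 < (N • φ + l₁) (D.P.root c) := fun c h => by
    have h1 := abs_lt.1 (hN c)
    rw [hval]
    nlinarith [h1.1, h1.2, h]
  have hneg : ∀ c, φ (D.P.root c) < 0 → (N • φ + l₁) (D.P.root c) < 0 := fun c h => by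
    have h1 := abs_lt.1 (hN c)
    rw [hval]
    nlinarith [h1.1, h1.2, h]
  refine ⟨N • φ + l₁, fun c => ?_, hpos, hneg⟩
  rcases lt_trichotomy (φ (D.P.root c)) 0 with h | h | h
  · exact (hneg c h).ne
  · rw [hval, h, mul_zero, zero_add]; exact hl₁ c
  · exact (hpos c h).ne'

/-- Two roots `a`, `b` generating a rank two root subsystem with `a` short. -/
structure Pair (a b : D.idx) (n : ℤ) : Prop where
  pba : D.P.pairing b a = -n
  pab : D.P.pairing a b = -1
  sub : D.P.root b - D.P.root a ∉ Set.range D.P.root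
  hn : n = 1 ∨ n = 2 ∨ n = 3
  nm : D.P.root a + D.P.root a ∉ Set.range D.P.root

/-- The positive roots of the subsystem. -/
def posList (n : ℤ) : List (ℤ × ℤ) :=
  if n = 1 then [(1, 0), (0, 1), (1, 1)]
  else if n = 2 then [(1, 0), (0, 1), (1, 1), (2, 1)]
  else [(1, 0), (0, 1), (1, 1), (2, 1), (3, 1), (3, 2)]

variable {D} [D.P.IsCrystallographic]

omit [D.P.IsCrystallographic] in
/-- The pairings with a multiple of a root. -/
theorem pairing_nsmul {k : ℤ} {c x : D.idx} (h : D.P.root c = k • D.P.root x) (y : D.idx) :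
    k * D.P.pairing y c = D.P.pairing y x := by
  haveI : IsAddTorsionFree (Module.Dual ℤ D.M) := .of_isTorsionFree ℤ _
  rw [← D.P.root_coroot_eq_pairing, ← D.P.root_coroot_eq_pairing, ← smul_eq_mul, ← map_smul,
    D.P.smul_coroot_eq_of_root_eq_smul x c k h]

variable {a b : D.idx} {n : ℤ} (hp : Pair D a b n)
include hp

theorem Pair.indep {i j : ℤ} (h : i • D.P.root a + j • D.P.root b = 0) : i = 0 ∧ j = 0 := by
  have h1 := congrArg (D.P.coroot' a) h
  have h2 := congrArg (D.P.coroot' b) h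
  simp only [map_add, map_zsmul, map_zero, D.P.root_coroot'_eq_pairing, D.P.pairing_same, hp.pba, hp.pab,
    smul_eq_mul] at h1 h2
  rcases hp.hn with rfl | rfl | rfl <;> omega

theorem Pair.coef_eq {i j i' j' : ℤ}
    (h : i • D.P.root a + j • D.P.root b = i' • D.P.root a + j' • D.P.root b) : i = i' ∧ j = j' := by
  obtain ⟨h1, h2⟩ := hp.indep (i := i - i') (j := j - j') (by
    rw [sub_smul, sub_smul, sub_add_sub_comm, h, sub_self])
  omega

/-- Pairings of a root of the subsystem with `a`. -/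
theorem Pair.pairing_a {c : D.idx} {i j : ℤ} (hc : D.P.root c = i • D.P.root a + j • D.P.root b) :
    D.P.pairing c a = 2 * i - n * j ∧ D.P.pairing c b = 2 * j - i ∧
      i * D.P.pairing a c + j * D.P.pairing b c = 2 := by
  refine ⟨?_, ?_, ?_⟩
  · have h := congrArg (D.P.coroot' a) hc
    simp only [map_add, map_zsmul, D.P.root_coroot'_eq_pairing, D.P.pairing_same, hp.pba, smul_eq_mul] at h
    linarith
  · have h := congrArg (D.P.coroot' b) hc
    simp only [map_add, map_zsmul, D.P.root_coroot'_eq_pairing, D.P.pairing_same, hp.pab, smul_eq_mul] at h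
    linarith
  · have h := congrArg (D.P.coroot' c) hc
    simp only [map_add, map_zsmul, D.P.root_coroot'_eq_pairing, D.P.pairing_same, smul_eq_mul] at h
    linarith

theorem Pair.bounds {c : D.idx} {i j : ℤ} (hc : D.P.root c = i • D.P.root a + j • D.P.root b) (hj : j ≠ 0) :
    (D.P.pairing c a, D.P.pairing a c) ∈
      ({(0, 0), (1, 1), (-1, -1), (1, 2), (2, 1), (-1, -2), (-2, -1), (1, 3), (3, 1), (-1, -3), (-3, -1)} :
        Set (ℤ × ℤ)) := by
  have hli : LinearIndependent ℤ ![D.P.root c, D.P.root a] := LinearIndependent.pair_iff.2 fun p q h => by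
    rw [hc] at h
    obtain ⟨h1, h2⟩ := hp.indep (i := p * i + q) (j := p * j) (by rw [← h]; module)
    have hp0 : p = 0 := (mul_eq_zero.1 h2).resolve_right hj
    subst hp0
    exact ⟨rfl, by simpa using h1⟩
  have h4 := (D.P.linearIndependent_iff_coxeterWeightIn_ne_four ℤ).1 hli
  have hset := D.P.pairingIn_pairingIn_mem_set_of_isCrystallographic c a
  rw [RootPairing.coxeterWeightIn, pairingIn_eq, pairingIn_eq] at h4
  rw [pairingIn_eq, pairingIn_eq] at hset
  simp only [Set.mem_insert_iff, Set.mem_singleton_iff, Prod.mk.injEq] at hset ⊢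
  rcases hset with h | h | h | h | h | h | h | h | h | h | h | h | h | h | h | h | h <;>
    first
      | omega
      | (rw [h.1, h.2] at h4; norm_num at h4)

theorem Pair.not_mult_a {k : ℤ} (hk : 2 ≤ k) (c : D.idx) : D.P.root c ≠ k • D.P.root a := fun h => by
  have h1 := pairing_nsmul h a
  rw [D.P.pairing_same] at h1
  have h2 : k = 2 := by
    rcases le_or_gt (D.P.pairing a c) 0 with h3 | h3 <;> nlinarith
  subst h2
  exact hp.nm ⟨c, by rw [h, two_zsmul]⟩

theorem Pair.not_mult_b {k : ℤ} (hk : 2 ≤ k) (c : D.idx) : D.P.root c ≠ k • D.P.root b := fun h => by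
  have h1 := pairing_nsmul h a
  rw [hp.pab] at h1
  rcases le_or_gt 0 (D.P.pairing a c) with h3 | h3 <;> nlinarith

omit hp in
theorem not_mult_refl {k : ℤ} {x : D.idx} (h : ∀ c, D.P.root c ≠ k • D.P.root x) (y c : D.idx) :
    D.P.root c ≠ k • D.P.root (D.P.reflectionPerm y x) := fun hc => by
  refine h (D.P.reflectionPerm y c) ?_
  rw [D.P.root_reflectionPerm, hc, D.P.root_reflectionPerm, map_zsmul, D.P.reflection_same]

theorem Pair.not_mixed {c : D.idx} {i j : ℤ} (hc : D.P.root c = i • D.P.root a + j • D.P.root b) (hi : 0 < i)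
    (hj : j < 0) : False := by
  obtain ⟨h1, -, -⟩ := hp.pairing_a hc
  have hb := hp.bounds hc hj.ne
  simp only [Set.mem_insert_iff, Set.mem_singleton_iff, Prod.mk.injEq] at hb
  have h3 : D.P.pairing c a ≤ 3 := by omega
  have hn := hp.hn
  have hij : n = 1 ∧ i = 1 ∧ j = -1 := by
    rcases hn with rfl | rfl | rfl <;> omega
  obtain ⟨-, rfl, rfl⟩ := hij
  refine hp.sub ⟨D.P.reflectionPerm c c, ?_⟩
  rw [root_neg, hc, one_zsmul, neg_one_zsmul]
  abel

theorem Pair.not_extra {c : D.idx} {i j : ℤ} (hc : D.P.root c = i • D.P.root a + j • D.P.root b) :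
    ¬((i = 1 ∧ j = 2) ∨ (n = 1 ∧ i = 2 ∧ j = 1) ∨ (n = 2 ∧ i = 3 ∧ j = 1) ∨ (n = 3 ∧ i = 4 ∧ j = 1)) := by
  obtain ⟨hP, hQ, -⟩ := hp.pairing_a hc
  rintro (⟨rfl, rfl⟩ | he)
  · exact hp.not_mixed (c := D.P.reflectionPerm b c) (i := 1) (j := -1)
      (by rw [root_refl, hQ, hc]; module) one_pos (by norm_num)
  · have hx : D.P.root (D.P.reflectionPerm a c) = D.P.root b - D.P.root a := by
      rw [root_refl, hP, hc]
      rcases he with ⟨rfl, rfl, rfl⟩ | ⟨rfl, rfl, rfl⟩ | ⟨rfl, rfl, rfl⟩ <;> module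
    exact hp.sub ⟨_, hx⟩

theorem Pair.not_multiple {c : D.idx} {i j : ℤ} (hc : D.P.root c = i • D.P.root a + j • D.P.root b) :
    ¬((i = 2 ∧ j = 2) ∨ (i = 3 ∧ j = 3) ∨ (n = 2 ∧ i = 4 ∧ j = 2) ∨ (n = 3 ∧ i = 4 ∧ j = 2)) := by
  have h11 : D.P.root (D.P.reflectionPerm b a) = (1 : ℤ) • D.P.root a + (1 : ℤ) • D.P.root b := by
    rw [root_refl, hp.pab]; module
  rintro (⟨rfl, rfl⟩ | ⟨rfl, rfl⟩ | ⟨rfl, rfl, rfl⟩ | ⟨rfl, rfl, rfl⟩)
  · exact not_mult_refl (hp.not_mult_a (k := 2) le_rfl) b c (by rw [hc, h11]; module)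
  · exact not_mult_refl (hp.not_mult_a (k := 3) (by norm_num)) b c (by rw [hc, h11]; module)
  · exact not_mult_refl (hp.not_mult_b (k := 2) le_rfl) a c (by rw [hc, root_refl, hp.pba]; module)
  · exact not_mult_refl (not_mult_refl (hp.not_mult_a (k := 2) le_rfl) b) a c
      (by rw [hc, root_refl, (hp.pairing_a h11).1, h11]; module)

omit hp in
/-- The neighbours of the positive roots. -/
theorem posList_step {n i j : ℤ} (hn : n = 1 ∨ n = 2 ∨ n = 3) (hi : 1 ≤ i) (hj : 1 ≤ j)
    (hd : (i - 1, j) ∈ posList n ∨ (i, j - 1) ∈ posList n)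
    (h₁ : ¬((i = 1 ∧ j = 2) ∨ (n = 1 ∧ i = 2 ∧ j = 1) ∨ (n = 2 ∧ i = 3 ∧ j = 1) ∨ (n = 3 ∧ i = 4 ∧ j = 1)))
    (h₂ : ¬((i = 2 ∧ j = 2) ∨ (i = 3 ∧ j = 3) ∨ (n = 2 ∧ i = 4 ∧ j = 2) ∨ (n = 3 ∧ i = 4 ∧ j = 2))) :
    (i, j) ∈ posList n := by
  have hb : 1 ≤ i ∧ i ≤ 4 ∧ 1 ≤ j ∧ j ≤ 3 := by
    rcases hn with rfl | rfl | rfl <;>
      simp only [posList, if_true, if_false, List.mem_cons, List.not_mem_nil, or_false, Prod.mk.injEq,
        show ¬((2 : ℤ) = 1) by norm_num, show ¬((3 : ℤ) = 1) by norm_num, show ¬((3 : ℤ) = 2) by norm_num] at hd <;>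
      omega
  obtain ⟨b1, b2, b3, b4⟩ := hb
  rcases hn with rfl | rfl | rfl <;> interval_cases i <;> interval_cases j <;>
    first
      | decide
      | (exfalso; revert hd h₁ h₂; decide)

omit hp in
theorem one_of_multiple {c x : D.idx} (hne : ∀ k : ℤ, 2 ≤ k → D.P.root c ≠ k • D.P.root x) {m : ℤ} (hm : 0 ≤ m)
    (hx : D.P.root c = m • D.P.root x) : m = 1 := by
  haveI : Module.IsReflexive ℤ D.M := .of_isPerfPair D.P.toLinearMap
  rcases (show m = 0 ∨ m = 1 ∨ 2 ≤ m by omega) with rfl | rfl | h2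
  · exact absurd (by rw [hx, zero_zsmul]) (D.P.ne_zero c)
  · rfl
  · exact absurd hx (hne m h2)

theorem Pair.mem_posList_aux : ∀ (N : ℕ) {c : D.idx} {i j : ℤ}, D.P.root c = i • D.P.root a + j • D.P.root b →
    0 ≤ i → 0 ≤ j → i + j ≤ N → (i, j) ∈ posList n
  | 0, c, i, j, hc, hi, hj, h => by
    obtain rfl : i = 0 := by omega
    obtain rfl : j = 0 := by omega
    haveI : Module.IsReflexive ℤ D.M := .of_isPerfPair D.P.toLinearMap
    exact absurd (by rw [hc, zero_zsmul, zero_zsmul, add_zero]) (D.P.ne_zero c)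
  | N + 1, c, i, j, hc, hi, hj, h => by
    rcases eq_or_lt_of_le hi with rfl | hi'
    · obtain rfl := one_of_multiple (x := b) (fun k hk => hp.not_mult_b hk c) hj (by rw [hc, zero_zsmul, zero_add])
      rcases hp.hn with rfl | rfl | rfl <;> decide
    rcases eq_or_lt_of_le hj with rfl | hj'
    · obtain rfl := one_of_multiple (x := a) (fun k hk => hp.not_mult_a hk c) hi (by rw [hc, zero_zsmul, add_zero])
      rcases hp.hn with rfl | rfl | rfl <;> decide
    obtain ⟨-, -, hAB⟩ := hp.pairing_a hc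
    refine posList_step hp.hn hi' hj' ?_ (hp.not_extra hc) (hp.not_multiple hc)
    have hne : c ≠ a ∧ c ≠ b := by
      refine ⟨fun e => ?_, fun e => ?_⟩
      · obtain ⟨-, h2⟩ := hp.coef_eq (i := i) (j := j) (i' := 1) (j' := 0)
          (by rw [← hc, e, one_zsmul, zero_zsmul, add_zero])
        omega
      · obtain ⟨h2, -⟩ := hp.coef_eq (i := i) (j := j) (i' := 0) (j' := 1)
          (by rw [← hc, e, one_zsmul, zero_zsmul, zero_add])
        omega
    rcases (show 0 < D.P.pairing a c ∨ 0 < D.P.pairing b c by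
      by_contra hne
      push Not at hne
      nlinarith [hne.1, hne.2]) with hA | hB
    · refine Or.inl ?_
      obtain ⟨c', hc'⟩ := D.P.root_sub_root_mem_of_pairingIn_pos (i := a) (j := c)
        (by rw [pairingIn_eq]; exact hA) hne.1.symm
      exact mem_posList_aux N (c := D.P.reflectionPerm c' c')
        (by rw [root_neg, hc', hc, sub_zsmul, one_zsmul]; abel) (by omega) hj (by omega)
    · refine Or.inr ?_
      obtain ⟨c', hc'⟩ := D.P.root_sub_root_mem_of_pairingIn_pos (i := b) (j := c)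
        (by rw [pairingIn_eq]; exact hB) hne.2.symm
      exact mem_posList_aux N (c := D.P.reflectionPerm c' c')
        (by rw [root_neg, hc', hc, sub_zsmul, one_zsmul]; abel) hi (by omega) (by omega)

/-- The roots in the span of the pair. -/
theorem Pair.mem_posList {c : D.idx} {i j : ℤ} (hc : D.P.root c = i • D.P.root a + j • D.P.root b) :
    (i, j) ∈ posList n ∨ (-i, -j) ∈ posList n := by
  have hc' : D.P.root (D.P.reflectionPerm c c) = (-i) • D.P.root a + (-j) • D.P.root b := by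
    rw [root_neg, hc, neg_smul, neg_smul]; abel
  rcases lt_trichotomy i 0 with hi | rfl | hi
  · refine Or.inr (hp.mem_posList_aux (-i + -j).toNat hc' (by omega) ?_ (by omega))
    by_contra h
    exact hp.not_mixed hc' (by omega) (by omega)
  · rcases le_total 0 j with hj | hj
    · exact Or.inl (hp.mem_posList_aux j.toNat hc le_rfl hj (by omega))
    · exact Or.inr (hp.mem_posList_aux (-j).toNat hc' (by omega) (by omega) (by omega))
  · refine Or.inl (hp.mem_posList_aux (i + j).toNat hc hi.le ?_ (by omega))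
    by_contra h
    exact hp.not_mixed hc hi (by omega)

theorem Pair.not_root {i j : ℤ} (h : (i, j) ∉ posList n) (h' : (-i, -j) ∉ posList n) :
    i • D.P.root a + j • D.P.root b ∉ Set.range D.P.root := fun ⟨_, hc⟩ =>
  (hp.mem_posList hc).elim h h'

theorem Pair.exists_root {i j : ℤ} (h : (i, j) ∈ posList n) :
    ∃ c : D.idx, D.P.root c = i • D.P.root a + j • D.P.root b := by
  let c11 := D.P.reflectionPerm b a
  have h11 : D.P.root c11 = (1 : ℤ) • D.P.root a + (1 : ℤ) • D.P.root b := by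
    rw [root_refl, hp.pab]; module
  have h01 : D.P.root (D.P.reflectionPerm a b) = n • D.P.root a + (1 : ℤ) • D.P.root b := by
    rw [root_refl, hp.pba]; module
  have h12 : D.P.root (D.P.reflectionPerm a c11) = (n - 1) • D.P.root a + (1 : ℤ) • D.P.root b := by
    rw [root_refl, (hp.pairing_a h11).1, h11]; module
  have h32 : D.P.root (D.P.reflectionPerm b (D.P.reflectionPerm a b)) =
      n • D.P.root a + (n - 1) • D.P.root b := by
    rw [root_refl, (hp.pairing_a h01).2.1, h01]; module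
  unfold posList at h
  rcases hp.hn with rfl | rfl | rfl <;> simp [Prod.mk.injEq] at h
  · rcases h with ⟨rfl, rfl⟩ | ⟨rfl, rfl⟩ | ⟨rfl, rfl⟩
    · exact ⟨a, by module⟩
    · exact ⟨b, by module⟩
    · exact ⟨_, h11⟩
  · rcases h with ⟨rfl, rfl⟩ | ⟨rfl, rfl⟩ | ⟨rfl, rfl⟩ | ⟨rfl, rfl⟩
    · exact ⟨a, by module⟩
    · exact ⟨b, by module⟩
    · exact ⟨_, h11⟩
    · exact ⟨_, h01⟩
  · rcases h with ⟨rfl, rfl⟩ | ⟨rfl, rfl⟩ | ⟨rfl, rfl⟩ | ⟨rfl, rfl⟩ | ⟨rfl, rfl⟩ | ⟨rfl, rfl⟩
    · exact ⟨a, by module⟩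
    · exact ⟨b, by module⟩
    · exact ⟨_, h11⟩
    · exact ⟨_, h12.trans (by norm_num)⟩
    · exact ⟨_, h01⟩
    · exact ⟨_, h32.trans (by norm_num)⟩

/-- A functional with prescribed signs on `a` and `b`. -/
theorem Pair.exists_functional (α β : ℤ) : ∃ l : D.M →+ ℤ, (∀ c, l (D.P.root c) ≠ 0) ∧
    ∀ (c : D.idx) (i j : ℤ), D.P.root c = i • D.P.root a + j • D.P.root b →
      0 < i * α + j * β → 0 < l (D.P.root c) := by
  let φ : D.M →+ ℤ := ((2 * α + β) • D.P.coroot' a + (n * α + 2 * β) • D.P.coroot' b).toAddMonoidHom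
  obtain ⟨l, hl, hpos, -⟩ := R2.exists_functional D φ
  refine ⟨l, hl, fun c i j hc h => hpos c ?_⟩
  have e : φ (D.P.root c) = (4 - n) * (i * α + j * β) := by
    rw [hc]
    simp only [φ, LinearMap.toAddMonoidHom_coe, LinearMap.add_apply, LinearMap.smul_apply, map_add, map_zsmul,
      D.P.root_coroot'_eq_pairing, D.P.pairing_same, hp.pab, hp.pba, smul_eq_mul]
    ring
  rw [e]
  rcases hp.hn with rfl | rfl | rfl <;> omega

end Groth.Agent.H82.R2
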