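import Groth.Agent.H82.R2.Pinned

/-!
# Representatives act on root groups by scalars
-/

set_option autoImplicit false
set_option maxHeartbeats 400000
set_option linter.style.haveILetI false
set_option linter.unusedSectionVars false
universe u

open CategoryTheory MonoidalCategory CartesianMonoidalCategory MonObj GrpObj AlgebraicGeometry
open Groth.Agent.Lib.RedPts Groth.Agent.H82.BigCell Groth.Agent.H82.Contract Groth.Agent.H82.Weyl
open Groth.Agent.H82.RankOne (P P_eq P_add P_zero P_neg P_comp Sys)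

namespace Groth.Agent.H82.R2

/-- An element transforming with the weight `α` is a multiple of the variable. -/
theorem eq_C_mul_X_of_transfer {A B : Type*} [CommRing A] [CommRing B] {R : Type*} [CommRing R] {M : Type*}
    [AddCommGroup M] (g : Polynomial R ≃+* A) (f : AddMonoidAlgebra A M ≃+* B) (E d : A →+* B)
    (hE : ∀ x, E x = f (AddMonoidAlgebra.single 0 x)) {α : M} (hinj : ∀ i j : ℕ, i • α = j • α → i = j) {uα : B}
    (hC : ∀ r, d (g (Polynomial.C r)) = E (g (Polynomial.C r)))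
    (hX : d (g Polynomial.X) = uα * E (g Polynomial.X)) (huα : uα = f (AddMonoidAlgebra.single α 1))
    {q : A} (hq : uα * E q = d q) : ∃ r : R, q = g (Polynomial.C r * Polynomial.X) := by
  classical
  obtain ⟨p, rfl⟩ := g.surjective q
  let ρ : Polynomial R →+* AddMonoidAlgebra A M :=
    Polynomial.eval₂RingHom ((AddMonoidAlgebra.singleZeroRingHom.comp g.toRingHom).comp Polynomial.C)
      (AddMonoidAlgebra.single α 1 * AddMonoidAlgebra.single 0 (g Polynomial.X))
  have hρ : d.comp g.toRingHom = f.toRingHom.comp ρ := by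
    refine Polynomial.ringHom_ext (fun r => ?_) ?_
    · simp [ρ, hC, hE, AddMonoidAlgebra.singleZeroRingHom]
    · simp [ρ, hX, hE, huα, ← map_mul, AddMonoidAlgebra.single_mul_single]
  have hd : d (g p) = f (p.sum fun i r => AddMonoidAlgebra.single (i • α) (g (Polynomial.C r * Polynomial.X ^ i))) := by
    refine (RingHom.congr_fun hρ p).trans (congrArg f ?_)
    change Polynomial.eval₂ _ _ p = _
    rw [Polynomial.eval₂_eq_sum]
    refine Finset.sum_congr rfl fun i _ => ?_
    simp [AddMonoidAlgebra.singleZeroRingHom, AddMonoidAlgebra.single_mul_single, AddMonoidAlgebra.single_pow]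
  rw [hd, huα, hE, ← map_mul] at hq
  refine ⟨p.coeff 1, congrArg g (Polynomial.ext fun j => ?_)⟩
  rw [Polynomial.coeff_C_mul, Polynomial.coeff_X]
  rcases eq_or_ne j 1 with rfl | hj
  · simp
  rw [if_neg (Ne.symm hj), MulZeroClass.mul_zero]
  have h2 := congrArg (fun q : AddMonoidAlgebra A M => q.coeff (j • α)) (f.injective hq)
  have hne : ¬ α = j • α := fun h => hj (hinj 1 j (by rw [one_smul]; exact h)).symm
  simp [AddMonoidAlgebra.single_mul_single, Polynomial.sum, Finsupp.single_apply, hne] at h2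
  rw [Finset.sum_eq_single j (fun i _ hi => if_neg fun h => hi (hinj i j h))
    (fun hj' => by simp [Polynomial.notMem_support_iff.1 hj'])] at h2
  simp only [if_true] at h2
  have h3 := g.injective ((by simpa using h2.symm : g (Polynomial.C (p.coeff j) * Polynomial.X ^ j) = 0).trans (map_zero g).symm)
  simpa using congrArg (fun q => Polynomial.coeff q j) h3

variable {S : Scheme.{u}} {G : Over S} [GrpObj G] {D : Red.SplitRed G}

theorem mono_u (a : D.idx) : Mono (D.u a) := mono_of_isClosedImmersion _ (D.rootHom a).2.1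

theorem P_inj {a : D.idx} {X : Over S} {x y : Γ(X.left, ⊤)} (h : P (D.u a) x = P (D.u a) y) : x = y := by
  haveI := mono_u (D := D) a
  simpa [Ga.gaFn_gaPt] using congrArg Red.gaFn ((cancel_mono (D.u a)).1 h)

/-- A natural family of self-maps of functions commuting with a non-zero weight is linear. -/
theorem linear_of_equivariant (σf : ∀ {X : Over S}, Γ(X.left, ⊤) → Γ(X.left, ⊤))
    (hnat : ∀ {X X' : Over S} (c : X' ⟶ X) (x : Γ(X.left, ⊤)), c.left.appTop (σf x) = σf (c.left.appTop x))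
    {a : D.idx} (hequiv : ∀ {X : Over S} (t : X ⟶ D.T) (x : Γ(X.left, ⊤)),
      σf (Red.gmFn (t ≫ chr D (D.P.root a)) * x) = Red.gmFn (t ≫ chr D (D.P.root a)) * σf x)
    (Y : Over S) [IsAffine Y.left] (y : Γ(Y.left, ⊤)) : σf y = σf 1 * y := by
  let φ : Γ(Y.left, ⊤) →+* Polynomial Γ(Y.left, ⊤) := Polynomial.C
  obtain ⟨t, ht⟩ := exists_univ_torus (D := D) (BigCell.ext Y φ)
  let c := extHom (BigCell.ext Y φ) (AddMonoidAlgebra.singleZeroRingHom :
    Γ((BigCell.ext Y φ).left, ⊤) →+* AddMonoidAlgebra Γ((BigCell.ext Y φ).left, ⊤) D.M)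
  obtain ⟨d, hd0, hd⟩ := exists_poly_lift (c ≫ extHom Y φ)
    (Red.gmFn (t ≫ chr D (D.P.root a)) * c.left.appTop (fn Y φ Polynomial.X))
  have hdX : d.left.appTop (fn Y φ Polynomial.X) =
      Red.gmFn (t ≫ chr D (D.P.root a)) * c.left.appTop (fn Y φ Polynomial.X) :=
    (hd _).trans (Polynomial.eval₂_X _ _)
  have hC : ∀ r, d.left.appTop (fn Y φ (Polynomial.C r)) = c.left.appTop (fn Y φ (Polynomial.C r)) := fun r => by
    have h1 := appTop_eq_of_comp_eq hd0 r
    exact ((congrArg _ (extHom_fn Y φ r).symm).trans h1).trans (congrArg _ (extHom_fn Y φ r))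
  have hq0 : Red.gmFn (t ≫ chr D (D.P.root a)) * c.left.appTop (σf (fn Y φ Polynomial.X)) =
      d.left.appTop (σf (fn Y φ Polynomial.X)) := by
    exact ((congrArg _ (hnat c _)).trans ((hequiv t _).symm.trans ((congrArg (fun z => σf z) hdX).symm.trans (hnat d _).symm)))
  have hinj : ∀ i j : ℕ, i • D.P.root a = j • D.P.root a → i = j := fun i j h => by
    have h2 := congrArg (D.P.coroot' a) h
    simp only [map_nsmul, D.P.root_coroot'_eq_pairing, D.P.pairing_same, nsmul_eq_mul] at h2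
    omega
  obtain ⟨r, hr⟩ := eq_C_mul_X_of_transfer (fn Y φ) (fn _ _) c.left.appTop.hom d.left.appTop.hom
    (fun y => extHom_fn _ _ y) hinj hC hdX (ht _) hq0
  have hev : ∀ y : Γ(Y.left, ⊤), σf y = r * y := fun y => by
    obtain ⟨s, -, hs⟩ := exists_toExt φ (𝟙 Y) (Polynomial.evalRingHom y) (RingHom.ext fun r => by simp [φ])
    have h1 := hnat s (fn Y φ Polynomial.X)
    rw [hr, hs, hs] at h1
    simpa using h1.symm
  rw [hev, hev 1, _root_.mul_one]

/-- A root homomorphism of a reduced datum is a multiple of the given one. -/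
theorem exists_scalar [D.P.IsReduced] (v : Red.Ga S ⟶ G) [IsMonHom v] (a : D.idx)
    (hv : IsRootPts D.i (chr D (D.P.root a)) v) :
    ∃ ν : Γ(S, ⊤), ∀ (X : Over S) (x : Γ(X.left, ⊤)), P v x = P (D.u a) (res X ν * x) := by
  obtain ⟨σ, hσ⟩ := exists_comp_root v a hv
  let σf : ∀ {X : Over S}, Γ(X.left, ⊤) → Γ(X.left, ⊤) := fun x => Red.gaFn (Ga.gaPt x ≫ σ)
  have hP : ∀ {X : Over S} (x : Γ(X.left, ⊤)), P v x = P (D.u a) (σf x) := fun x => by
    rw [P, ← hσ, ← Category.assoc, P_eq]
  have hnat : ∀ {X X' : Over S} (c : X' ⟶ X) (x : Γ(X.left, ⊤)), c.left.appTop (σf x) = σf (c.left.appTop x) :=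
    fun c x => P_inj (a := a) (by rw [← hP, ← P_comp, ← hP, P_comp])
  have hequiv : ∀ {X : Over S} (t : X ⟶ D.T) (x : Γ(X.left, ⊤)),
      σf (Red.gmFn (t ≫ chr D (D.P.root a)) * x) = Red.gmFn (t ≫ chr D (D.P.root a)) * σf x := fun t x =>
    P_inj (a := a) (mul_right_cancel (b := t ≫ D.i) (by rw [← hP, ← hv t x, hP, isRootPts D a t]))
  refine ⟨res (𝟙_ (Over S)) 1 * σf (X := 𝟙_ (Over S)) 1, fun X x => (hP x).trans (congrArg (P (D.u a)) ?_)⟩
  have hone : res X (res (𝟙_ (Over S)) 1 * σf (X := 𝟙_ (Over S)) 1) = σf (X := X) 1 := by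
    have h := hnat (toUnit X) 1
    rw [map_one] at h
    rw [← h, ← res_comp (toUnit X), res_unit, res_one, _root_.one_mul]
  rw [hone]
  refine Order.fn_ext_piece fun q => ?_
  rw [map_mul, hnat, hnat, map_one]
  haveI : IsAffine (piece X q).left := inferInstanceAs (IsAffine (X.left.affineCover.X q))
  exact linear_of_equivariant σf hnat hequiv _ _

theorem root_perm_neg (L : List D.idx) (a : D.idx) :
    RedSub.wordPerm D.P L (D.P.reflectionPerm a a) =
      D.P.reflectionPerm (RedSub.wordPerm D.P L a) (RedSub.wordPerm D.P L a) := by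
  refine D.P.root.injective ?_
  rw [← Bruhat.wmap_root, root_neg, root_neg, map_neg, Bruhat.wmap_root]

/-- Conjugation by a representative multiplies root elements by a scalar. -/
theorem exists_conj_scalar [D.P.IsReduced] (L : List D.idx) (g : 𝟙_ (Over S) ⟶ G)
    (hg : ∀ X : Over S, Bruhat.Rep L (toUnit X ≫ g)) (c : D.idx) :
    ∃ ν : Γ(S, ⊤), ∀ (X : Over S) (x : Γ(X.left, ⊤)),
      (toUnit X ≫ g) * P (D.u c) x = P (D.u (RedSub.wordPerm D.P L c)) (res X ν * x) * (toUnit X ≫ g) := by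
  let v : Red.Ga S ⟶ G := (toUnit _ ≫ g) * D.u c * (toUnit _ ≫ g)⁻¹
  have hv : ∀ {Y : Over S} (y : Y ⟶ Red.Ga S), y ≫ v = (toUnit Y ≫ g) * (y ≫ D.u c) * (toUnit Y ≫ g)⁻¹ := fun {Y} y => by
    simp only [v, MonObj.comp_mul, GrpObj.comp_inv]
    rw [← Category.assoc, toUnit_unique (y ≫ toUnit _) (toUnit Y)]
  haveI : IsMonHom v := isMonHom_of_points v fun Y a b => by
    rw [hv, hv, hv, MonObj.mul_comp a b (D.u c)]; group
  have hroot : IsRootPts D.i (chr D (D.P.root (RedSub.wordPerm D.P L c))) v := by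
    intro Y t a
    have h1 := (hg Y).inv Y (𝟙 Y) t
    rw [Category.id_comp, List.reverse_reverse, _root_.inv_inv] at h1
    rw [P, hv, P, hv]
    have h2 := isRootPts D c (act D (wmap D L) t) a
    rw [Bruhat.gmFn_act_chr, Bruhat.wmap_root, P, P] at h2
    set n := toUnit Y ≫ g
    set q := act D (wmap D L) t ≫ D.i
    calc (t ≫ D.i) * (n * (Ga.gaPt a ≫ D.u c) * n⁻¹)
        = n * (q * (Ga.gaPt a ≫ D.u c)) * n⁻¹ := by rw [← h1]; group
      _ = _ := by rw [h2, ← h1]; group
  obtain ⟨ν, hν⟩ := exists_scalar v _ hroot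
  refine ⟨ν, fun X x => ?_⟩
  have h := hν X x
  rw [P, hv] at h
  rw [← h, inv_mul_cancel_right]
  rfl

theorem coroot_refl (s c : D.idx) (m : D.M) :
    D.P.coroot (D.P.reflectionPerm s c) m = D.P.coroot c (D.P.reflection s m) := by
  rw [D.P.coroot_reflectionPerm, D.P.coreflection_apply, D.P.reflection_apply, map_sub, map_smul]
  simp [RootPairing.coroot', RootPairing.root', D.pairing_eq, LinearMap.flip_apply]
  ring

theorem coroot_word : ∀ (L : List D.idx) (c : D.idx),
    (D.P.coroot c).toAddMonoidHom.comp (wmap D L.reverse) = (D.P.coroot (RedSub.wordPerm D.P L c)).toAddMonoidHom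
  | [], c => by ext m; simp [RedSub.wordPerm, wmap]
  | s :: L, c => by
    ext m
    rw [List.reverse_cons, Bruhat.wmap_append, ← AddMonoidHom.comp_assoc, coroot_word L c, Bruhat.wordPerm_cons]
    refine Eq.trans ?_ (coroot_refl s _ m).symm
    simp [wmap]

/-- Conjugation by a representative carries coroots to coroots. -/
theorem conj_H (L : List D.idx) {X : Over S} {g : X ⟶ G} (hg : Bruhat.Rep L g) (c : D.idx) (u : Γ(X.left, ⊤)ˣ) :
    g * Sys.H D.i (cochar D (D.P.coroot c).toAddMonoidHom) u * g⁻¹ =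
      Sys.H D.i (cochar D (D.P.coroot (RedSub.wordPerm D.P L c)).toAddMonoidHom) u := by
  have h := hg X (𝟙 X) (Gm.gmPt u ≫ cochar D (D.P.coroot c).toAddMonoidHom)
  rw [Category.id_comp, act_cochar, coroot_word] at h
  simpa only [Sys.H, Category.assoc] using h

/-- Coordinates along `-b`, the torus and `b`. -/
theorem pm_coords (b : D.idx) {X : Over S} {p p' q q' : Γ(X.left, ⊤)} {t t' : X ⟶ D.T}
    (h : P (D.u (D.P.reflectionPerm b b)) p * (t ≫ D.i) * P (D.u b) q =
      P (D.u (D.P.reflectionPerm b b)) p' * (t' ≫ D.i) * P (D.u b) q') : p = p' ∧ t = t' ∧ q = q' := by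
  haveI := isAffineHom D
  obtain ⟨l, hl, hpos, -⟩ := exists_functional D (D.P.coroot' b).toAddMonoidHom
  have hb : 0 < l (D.P.root b) := hpos b (by simp [D.P.root_coroot'_eq_pairing, D.P.pairing_same])
  have hnb : l (D.P.root (D.P.reflectionPerm b b)) < 0 := by rw [root_neg, map_neg]; omega
  have hy : ∀ z : Γ(X.left, ⊤), IsLimPt (gcochar D l)⁻¹ (P (D.u (D.P.reflectionPerm b b)) z) 1 := fun z => by
    rw [show (gcochar D l)⁻¹ = (cochar D l)⁻¹ ≫ D.i from (GrpObj.inv_comp (cochar D l) D.i).symm]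
    refine isLimPt_root (d := (-l (D.P.root (D.P.reflectionPerm b b))).toNat) (isRootPts D _) (by omega) ?_ _
    rw [Int.toNat_of_nonneg (by omega)]
    exact HasDeg.inv (hasDeg D l _)
  have hx : ∀ z : Γ(X.left, ⊤), IsLimPt (gcochar D l) (P (D.u b) z) 1 := fun z => by
    refine isLimPt_root (d := (l (D.P.root b)).toNat) (isRootPts D b) (by omega) ?_ _
    rw [Int.toNat_of_nonneg (by omega)]
    exact hasDeg D l _
  rw [_root_.mul_assoc, _root_.mul_assoc] at h
  obtain ⟨e1, e2, e3⟩ := factors_unique (hy _) (hy _) (isLimPt_torus_pt t) (isLimPt_torus_pt t') (hx _) (hx _) h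
  exact ⟨P_inj e1, (cancel_mono D.i).1 e2, P_inj e3⟩

/-- The scalars on opposite root groups of dual pairs are inverse. -/
theorem dual_scalar [D.P.IsReduced] (L : List D.idx) (g : 𝟙_ (Over S) ⟶ G)
    (hg : ∀ X : Over S, Bruhat.Rep L (toUnit X ≫ g)) {a b : D.idx} (hab : RedSub.wordPerm D.P L a = b)
    (hda : Weyl.Dual D a) (hdb : Weyl.Dual D b) {p q : Γ(S, ⊤)}
    (hp : ∀ (X : Over S) (x : Γ(X.left, ⊤)), (toUnit X ≫ g) * P (D.u a) x = P (D.u b) (res X p * x) * (toUnit X ≫ g))
    (hq : ∀ (X : Over S) (x : Γ(X.left, ⊤)), (toUnit X ≫ g) * P (D.u (D.P.reflectionPerm a a)) x =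
      P (D.u (D.P.reflectionPerm b b)) (res X q * x) * (toUnit X ≫ g)) : p * q = 1 := by
  have hg' : ∀ X : Over S, Bruhat.Rep L.reverse (toUnit X ≫ g⁻¹) := fun X => by
    rw [GrpObj.comp_inv]; exact (hg X).inv
  obtain ⟨q', hq'⟩ := exists_conj_scalar L.reverse g⁻¹ hg' (D.P.reflectionPerm b b)
  have e : RedSub.wordPerm D.P L.reverse (D.P.reflectionPerm b b) = D.P.reflectionPerm a a := by
    rw [← hab, ← root_perm_neg]
    refine D.P.root.injective ?_
    rw [← Bruhat.wmap_root, ← Bruhat.wmap_root, ← AddMonoidHom.comp_apply]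
    have := wmap_reverse_comp (D := D) L.reverse
    rw [List.reverse_reverse] at this
    rw [this]; rfl
  rw [e] at hq'
  have hqq : q' * q = 1 := by
    have h1 := hq (𝟙_ (Over S)) 1
    have h2 := hq' (𝟙_ (Over S)) (res (𝟙_ (Over S)) q * 1)
    simp only [res_unit, _root_.mul_one, GrpObj.comp_inv] at h1 h2
    rw [← mul_inv_eq_iff_eq_mul, _root_.inv_inv, _root_.mul_assoc, ← h1, inv_mul_cancel_left] at h2
    exact (P_inj h2).symm
  suffices p * q * q = q by linear_combination q' * this + (1 - p * q) * hqq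
  refine eq_of_res_mul_sqZero fun X ε hε => ?_
  have hsa := sys_of_dual hda
  have hsb := sys_of_dual hdb
  let u : Γ(X.left, ⊤)ˣ := ⟨1 + ε, 1 - ε, by linear_combination -hε, by linear_combination -hε⟩
  let u' : Γ(X.left, ⊤)ˣ := ⟨1 + res X p * ε * res X q, 1 - res X p * ε * res X q,
    by linear_combination -(res X p * res X q) ^ 2 * hε, by linear_combination -(res X p * res X q) ^ 2 * hε⟩
  have r1 := congrArg (fun z => (toUnit X ≫ g) * z * (toUnit X ≫ g)⁻¹) (hsa.rule ε 1 u (by simp [u]))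
  have r2 := hsb.rule (res X p * ε) (res X q) u' rfl
  have hH := conj_H L (hg X) a u
  rw [hab] at hH
  simp only [_root_.mul_one, _root_.one_mul] at r1
  have cp : ∀ z : Γ(X.left, ⊤),
      (toUnit X ≫ g) * P (D.u a) z * (toUnit X ≫ g)⁻¹ = P (D.u b) (res X p * z) := fun z => by
    rw [hp, mul_inv_cancel_right]
  have cq : ∀ z : Γ(X.left, ⊤), (toUnit X ≫ g) * P (D.u (D.P.reflectionPerm a a)) z * (toUnit X ≫ g)⁻¹ =
      P (D.u (D.P.reflectionPerm b b)) (res X q * z) := fun z => by
    rw [hq, mul_inv_cancel_right]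
  have hom2 : ∀ A B : X ⟶ G, (toUnit X ≫ g) * (A * B) * (toUnit X ≫ g)⁻¹ =
      ((toUnit X ≫ g) * A * (toUnit X ≫ g)⁻¹) * ((toUnit X ≫ g) * B * (toUnit X ≫ g)⁻¹) := fun A B => by group
  simp only [Sys.H] at hH
  rw [hom2, hom2, hom2, cp, cq, cq, cp, hH, _root_.mul_one, r2] at r1
  simp only [← Category.assoc] at r1
  obtain ⟨h1, -, -⟩ := pm_coords b r1
  simp only [u, u', Units.inv_mk] at h1
  have hm : res X (p * q * q) = res X p * res X q * res X q := by simp only [res, map_mul]
  rw [hm]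
  linear_combination -h1

end Groth.Agent.H82.R2
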