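import Groth.Agent.H82.R2.Units
import Groth.Agent.H82.Bruhat.Cover

/-!
# Translates of the big cell by simple root elements
-/

set_option autoImplicit false
set_option maxHeartbeats 800000
set_option linter.style.haveILetI false
set_option linter.unusedSectionVars false
universe u

open CategoryTheory MonoidalCategory CartesianMonoidalCategory MonObj GrpObj AlgebraicGeometry
open Groth.Agent.Lib.RedPts Groth.Agent.H82.BigCell Groth.Agent.H82.Contract Groth.Agent.H82.Weyl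
open Groth.Agent.H82.RankOne (P P_eq P_add P_zero P_neg P_comp gmPt_eq gmPt_mul Sys)
open Groth.Agent.H82.Borel (IsACPt root_neg_idx)
open Groth.Agent.H82.Bruhat (Adapted unip root_mem_unip torus_conj_unip)

namespace Groth.Agent.H82.R2

variable {S : Scheme.{u}} {G : Over S} [GrpObj G]

section NegBase

variable {idx M N : Type} [AddCommGroup M] [AddCommGroup N] {P : RootPairing idx ℤ M N}

theorem root_neg_idx (a : idx) : P.root (P.reflectionPerm a a) = -P.root a := by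
  rw [P.root_reflectionPerm, P.reflection_apply_self]

/-- The opposite base. -/
theorem exists_neg_base' (b : P.Base) :
    ∃ b' : P.Base, RedSub.posRoots P b' = RedSub.negRoots P b ∧ RedSub.negRoots P b' = RedSub.posRoots P b ∧
      ∀ a ∈ b.support, P.reflectionPerm a a ∈ b'.support := by
  classical
  let ng : idx → idx := fun a => P.reflectionPerm a a
  have hr : ∀ a, P.root (ng a) = -P.root a := root_neg_idx
  have hc : ∀ a, P.coroot (ng a) = -P.coroot a := fun a => by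
    simp only [ng, P.coroot_reflectionPerm, P.coreflection_apply_self]
  have hinj : Function.Injective ng := fun a c h => P.root.injective (neg_injective (by rw [← hr, ← hr, h]))
  have himR : P.root '' ((b.support.image ng : Finset idx) : Set idx) = -(P.root '' (b.support : Set idx)) := by
    rw [Finset.coe_image, Set.image_image, ← Set.image_neg_eq_neg, Set.image_image]
    exact Set.image_congr fun a _ => hr a
  have himC : P.coroot '' ((b.support.image ng : Finset idx) : Set idx) = -(P.coroot '' (b.support : Set idx)) := by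
    rw [Finset.coe_image, Set.image_image, ← Set.image_neg_eq_neg, Set.image_image]
    exact Set.image_congr fun a _ => hc a
  have hclR : ∀ x : M, x ∈ AddSubmonoid.closure (P.root '' ((b.support.image ng : Finset idx) : Set idx)) ↔
      -x ∈ AddSubmonoid.closure (P.root '' (b.support : Set idx)) := fun x => by
    rw [himR, AddSubmonoid.closure_neg, AddSubmonoid.mem_neg]
  have hclC : ∀ x : N, x ∈ AddSubmonoid.closure (P.coroot '' ((b.support.image ng : Finset idx) : Set idx)) ↔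
      -x ∈ AddSubmonoid.closure (P.coroot '' (b.support : Set idx)) := fun x => by
    rw [himC, AddSubmonoid.closure_neg, AddSubmonoid.mem_neg]
  have hli : ∀ {V : Type} [AddCommGroup V] (f : idx → V), (∀ a, f (ng a) = -f a) →
      LinearIndepOn ℤ f (b.support : Set idx) → LinearIndepOn ℤ f ((b.support.image ng : Finset idx) : Set idx) := by
    intro V _ f hf h
    rw [Finset.coe_image]
    refine LinearIndepOn.image_of_comp ng f ?_
    rw [show f ∘ ng = fun a => -f a from funext hf]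
    exact LinearIndependent.neg h
  refine ⟨{ support := b.support.image ng
            linearIndepOn_root := hli _ hr b.linearIndepOn_root
            linearIndepOn_coroot := hli _ hc b.linearIndepOn_coroot
            root_mem_or_neg_mem := fun a => by rw [hclR, hclR, neg_neg]; exact (b.root_mem_or_neg_mem a).symm
            coroot_mem_or_neg_mem := fun a => by rw [hclC, hclC, neg_neg]; exact (b.coroot_mem_or_neg_mem a).symm },
    Set.ext fun a => hclR _, Set.ext fun a => (hclR _).trans (by rw [neg_neg]; rfl),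
    fun a ha => Finset.mem_image_of_mem ng ha⟩

end NegBase

/-! ### The rank-one computation -/

/-- The points `pm(A) t pp(C)`. -/
def InC {T : Over S} (i : T ⟶ G) (pp pm : Red.Ga S ⟶ G) {X : Over S} (g : X ⟶ G) : Prop :=
  ∃ (A : Γ(X.left, ⊤)) (t : X ⟶ T) (C : Γ(X.left, ⊤)), g = P pm A * (t ≫ i) * P pp C

section RankOne

variable {T : Over S} [GrpObj T] {i : T ⟶ G} {α : T ⟶ Red.Gm S} {pp pm : Red.Ga S ⟶ G} {av : Red.Gm S ⟶ T}
  [IsMonHom i] [IsMonHom α] [IsMonHom pp] [IsMonHom pm] (hs : Sys i α pp pm av) {X : Over S}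

theorem InC.pm_mul {g : X ⟶ G} (h : InC i pp pm g) (A : Γ(X.left, ⊤)) : InC i pp pm (P pm A * g) := by
  obtain ⟨A', t, C, rfl⟩ := h
  exact ⟨A + A', t, C, by rw [P_add]; group⟩

theorem InC.mul_pp {g : X ⟶ G} (h : InC i pp pm g) (C : Γ(X.left, ⊤)) : InC i pp pm (g * P pp C) := by
  obtain ⟨A', t, C', rfl⟩ := h
  exact ⟨A', t, C' + C, by rw [P_add]; group⟩

include hs

theorem InC.torus_mul {g : X ⟶ G} (h : InC i pp pm g) (s : X ⟶ T) : InC i pp pm ((s ≫ i) * g) := by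
  obtain ⟨A, t, C, rfl⟩ := h
  refine ⟨Red.gmFn (s ≫ α⁻¹) * A, s * t, C, ?_⟩
  rw [MonObj.mul_comp, ← _root_.mul_assoc, ← _root_.mul_assoc, ← _root_.mul_assoc, hs.conjM]

theorem InC.mul_H {g : X ⟶ G} (h : InC i pp pm g) (u : Γ(X.left, ⊤)ˣ) : InC i pp pm (g * Sys.H i av u) := by
  obtain ⟨A, t, C, rfl⟩ := h
  refine ⟨A, t * (Gm.gmPt u ≫ av), (↑u⁻¹ : Γ(X.left, ⊤)) * (↑u⁻¹ : Γ(X.left, ⊤)) * C, ?_⟩
  have e := hs.H_P u ((↑u⁻¹ : Γ(X.left, ⊤)) * (↑u⁻¹ : Γ(X.left, ⊤)) * C)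
  rw [show (u : Γ(X.left, ⊤)) * u * ((↑u⁻¹ : Γ(X.left, ⊤)) * (↑u⁻¹ : Γ(X.left, ⊤)) * C) = C by
    linear_combination (C * ((u : Γ(X.left, ⊤)) * (↑u⁻¹ : Γ(X.left, ⊤)) + 1)) * u.mul_inv] at e
  rw [_root_.mul_assoc (P pm A * _), ← e, MonObj.mul_comp, Sys.H, Category.assoc]
  group

theorem inC_rule (a c : Γ(X.left, ⊤)) (h : IsUnit (1 + a * c)) : InC i pp pm (P pp a * P pm c) :=
  ⟨c * (↑h.unit⁻¹ : Γ(X.left, ⊤)), Gm.gmPt h.unit ≫ av, a * (↑h.unit⁻¹ : Γ(X.left, ⊤)), by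
    rw [hs.rule a c h.unit h.unit_spec, Category.assoc]⟩

/-- `pp(u) pm(-1/u) pp(u) pm(-1/u)` is in the cell. -/
theorem inC_square (u : Γ(X.left, ⊤)ˣ) :
    InC i pp pm (Sys.W pp pm u * P pm (-(↑u⁻¹ : Γ(X.left, ⊤)))) := by
  have hsym := hs.W_symm u
  have e : Sys.W pm pp (-u⁻¹) =
      P pm (-(↑u⁻¹ : Γ(X.left, ⊤))) * P pp (u : Γ(X.left, ⊤)) * P pm (-(↑u⁻¹ : Γ(X.left, ⊤))) := by
    simp [Sys.W, inv_neg]
  have e2 : Sys.W pp pm u * P pm (-(↑u⁻¹ : Γ(X.left, ⊤))) =
      P pp ((u : Γ(X.left, ⊤)) + (u : Γ(X.left, ⊤))) * P pm (-(↑u⁻¹ : Γ(X.left, ⊤))) * P pp (u : Γ(X.left, ⊤)) := by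
    rw [e] at hsym
    rw [P_add]
    calc Sys.W pp pm u * P pm (-(↑u⁻¹ : Γ(X.left, ⊤)))
        = P pp (u : Γ(X.left, ⊤)) * (P pm (-(↑u⁻¹ : Γ(X.left, ⊤))) * P pp (u : Γ(X.left, ⊤)) *
            P pm (-(↑u⁻¹ : Γ(X.left, ⊤)))) := by simp [Sys.W, _root_.mul_assoc]
      _ = _ := by rw [hsym]; simp [Sys.W, _root_.mul_assoc]
  rw [e2]
  refine (inC_rule hs _ _ ?_).mul_pp _
  rw [show (1 : Γ(X.left, ⊤)) + ((u : Γ(X.left, ⊤)) + u) * -(↑u⁻¹ : Γ(X.left, ⊤)) = -1 by
    linear_combination -2 * u.mul_inv]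
  exact isUnit_one.neg

/-- Right translation of the rank-one cell by a negative root element. -/
theorem inC_bracket (hk : IsField Γ(X.left, ⊤)) {x : Γ(X.left, ⊤)} (hx : IsUnit x) (r s y : Γ(X.left, ⊤)) :
    InC i pp pm (P pm r * P pp s * P pm y) ∨ InC i pp pm (P pp (-x) * (P pm r * P pp s * P pm y)) := by
  letI := hk.toField
  by_cases h1 : IsUnit (1 + s * y)
  · left
    rw [_root_.mul_assoc]
    exact (inC_rule hs s y h1).pm_mul r
  right
  have hsy : 1 + s * y = 0 := not_not.1 fun h => h1 (isUnit_iff_ne_zero.2 h)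
  have hy : y ≠ 0 := fun h => by rw [h] at hsy; simp at hsy
  by_cases h2 : IsUnit (1 + -x * r)
  · have hC : IsUnit (-x * (↑h2.unit⁻¹ : Γ(X.left, ⊤))) := hx.neg.mul (Units.isUnit _)
    have e := hs.rule (-x) r h2.unit h2.unit_spec
    have h3 : IsUnit (1 + (-x * (↑h2.unit⁻¹ : Γ(X.left, ⊤)) + s) * y) := by
      rw [show 1 + (-x * (↑h2.unit⁻¹ : Γ(X.left, ⊤)) + s) * y = -x * (↑h2.unit⁻¹ : Γ(X.left, ⊤)) * y by
        linear_combination hsy]
      exact hC.mul (isUnit_iff_ne_zero.2 hy)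
    have key := ((inC_rule hs _ y h3).torus_mul hs (Gm.gmPt h2.unit ≫ av)).pm_mul
      (r * (↑h2.unit⁻¹ : Γ(X.left, ⊤)))
    convert key using 1
    rw [← _root_.mul_assoc, ← _root_.mul_assoc, e, P_add, Category.assoc]
    group
  · have hxr : 1 + -x * r = 0 := not_not.1 fun h => h2 (isUnit_iff_ne_zero.2 h)
    obtain ⟨u, hu⟩ : ∃ u : Γ(X.left, ⊤)ˣ, (u : Γ(X.left, ⊤)) = -x := ⟨hx.neg.unit, hx.neg.unit_spec⟩
    have hr : r = -(↑u⁻¹ : Γ(X.left, ⊤)) := by
      linear_combination (↑u⁻¹ : Γ(X.left, ⊤)) * hxr + ((↑u⁻¹ : Γ(X.left, ⊤)) * r) * hu - r * u.mul_inv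
    have h3 : IsUnit (1 + (s - (u : Γ(X.left, ⊤))) * y) := by
      rw [show 1 + (s - (u : Γ(X.left, ⊤))) * y = -((u : Γ(X.left, ⊤)) * y) by linear_combination hsy]
      exact (u.isUnit.mul (isUnit_iff_ne_zero.2 hy)).neg
    have e := hs.rule (s - (u : Γ(X.left, ⊤))) y h3.unit h3.unit_spec
    have hA : y * (↑h3.unit⁻¹ : Γ(X.left, ⊤)) = -(↑u⁻¹ : Γ(X.left, ⊤)) := by
      have h4 : (h3.unit : Γ(X.left, ⊤)) = 1 + (s - (u : Γ(X.left, ⊤))) * y := h3.unit_spec
      linear_combination (-(↑u⁻¹ : Γ(X.left, ⊤))) * h3.unit.mul_inv +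
        ((↑u⁻¹ : Γ(X.left, ⊤)) * (↑h3.unit⁻¹ : Γ(X.left, ⊤))) * h4 +
        ((↑u⁻¹ : Γ(X.left, ⊤)) * (↑h3.unit⁻¹ : Γ(X.left, ⊤))) * hsy -
        (y * (↑h3.unit⁻¹ : Γ(X.left, ⊤))) * u.mul_inv
    rw [hA] at e
    have key := ((inC_square hs u).mul_H hs h3.unit).mul_pp
      ((s - (u : Γ(X.left, ⊤))) * (↑h3.unit⁻¹ : Γ(X.left, ⊤)))
    convert key using 1
    rw [← hu, hr, _root_.mul_assoc (Sys.W pp pm u) (P pm _) (Sys.H i av _),
      _root_.mul_assoc (Sys.W pp pm u) (_ * _) (P pp _)]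
    change _ = Sys.W pp pm u * (P pm _ * (Gm.gmPt h3.unit ≫ av ≫ i) * P pp _)
    rw [← e, sub_eq_neg_add, P_add, Sys.W]
    simp only [P_neg]
    group

end RankOne

variable {D : Red.SplitRed G}

theorem P_scl (m : Γ(S, ⊤)) (f : Red.Ga S ⟶ G) {X : Over S} (x : Γ(X.left, ⊤)) :
    P (scl m ≫ f) x = P f (res X m * x) := by
  rw [P, comp_scl_comp, Ga.gaFn_gaPt]

theorem isMonHom_scl (m : Γ(S, ⊤)) : IsMonHom (scl (S := S) m) :=
  Groth.Agent.H87.HomDS.isMonHom_of_points _ fun X x y => Ga.gaFn_injective (by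
    rw [Ga.gaFn_mul, gaFn_comp_scl, gaFn_comp_scl, gaFn_comp_scl, Ga.gaFn_mul, mul_add])

/-- The rank-one system of a root with the negative root group scaled. -/
theorem sys_of_dualC {a : D.idx} {m : Γ(S, ⊤)} (hd : DualC D a 1 m) :
    Sys D.i (chr D (D.P.root a)) (D.u a) (scl m ≫ D.u (D.P.reflectionPerm a a))
      (cochar D (D.P.coroot a).toAddMonoidHom) where
  conjP t x := isRootPts D a t x
  conjM {X} t x := by
    rw [P_scl, P_scl, isRootPts D (D.P.reflectionPerm a a) t, Cent.chr_refl, mul_left_comm]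
  sq u := by
    rw [gmFn_cochar, show (D.P.coroot a).toAddMonoidHom (D.P.root a) = 2 by
      have := D.P.root_coroot_eq_pairing a a
      rw [D.P.pairing_same, D.pairing_eq] at this
      exact this, zpow_two, Units.val_mul]
  av_mul u v := by rw [gmPt_mul, MonObj.mul_comp]
  rule {X} x y u hu := by
    have h := hd X x y u hu
    simp only [res_one, _root_.one_mul] at h
    rw [P_scl, P_scl]
    exact h

theorem el_eq_W (a : D.idx) (m : Γ(S, ⊤)) (X : Over S) :
    el D a (-m) X = Sys.W (D.u a) (scl m ≫ D.u (D.P.reflectionPerm a a)) (1 : Γ(X.left, ⊤)ˣ) := by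
  simp [el, Sys.W, P_scl, res_neg]

/-- Representatives of all reflections built from root elements. -/
theorem exists_realising (bs : D.P.Base) : ∃ nr : D.idx → (𝟙_ (Over S) ⟶ G),
    RedSub.RealisesReflections D nr ∧
      ∀ a, ∃ m : Γ(S, ⊤), IsUnit m ∧ DualC D a 1 m ∧ ∀ X : Over S, toUnit X ≫ nr a = el D a (-m) X := by
  choose m hm hd using fun a => exists_dualC bs a
  refine ⟨fun a => el D a (-m a) (𝟙_ (Over S)), fun a X t => ?_, fun a => ⟨m a, hm a, hd a, fun X => el_comp a _ _⟩⟩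
  haveI := isMonHom_scl (S := S) (m a)
  haveI := Cent.isMonHom_chr (D := D) (D.P.root a)
  haveI : IsMonHom (D.u a) := (D.rootHom a).1
  haveI : IsMonHom (D.u (D.P.reflectionPerm a a)) := (D.rootHom _).1
  rw [el_comp, el_eq_W, (sys_of_dualC (hd a)).W_conj t 1, inv_mul_eq_iff_eq_mul]
  have h1 : (t ≫ chr D (D.P.root a) ≫ cochar D (D.P.coroot a).toAddMonoidHom) *
      act D (D.P.reflection a).toLinearMap.toAddMonoidHom t = t := by
    haveI : IsMonHom (show D.T ⟶ Red.DS S D.M from D.split.hom.hom.hom) := D.split.hom.hom.isMonHom_hom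
    refine ext_dsFn fun k => ?_
    rw [show ∀ p q : X ⟶ D.T, (p * q) ≫ D.split.hom.hom.hom = (p ≫ D.split.hom.hom.hom) * (q ≫ D.split.hom.hom.hom)
      from fun p q => MonObj.mul_comp p q (show D.T ⟶ Red.DS S D.M from D.split.hom.hom.hom), Gm.dsFn_mul,
      dsFn_act, ← Category.assoc t (chr D _), dsFn_cochar, chr, ← Category.assoc t, Red.chi, Gm.dsFn_DSmap,
      ← Gm.dsFn_add]
    refine congrArg _ ?_
    simp [D.P.reflection_apply, RootPairing.coroot', D.pairing_eq, zmultiplesHom_apply]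
  conv_lhs => rw [← h1]
  simp only [MonObj.mul_comp _ _ D.i, Category.assoc]
  simp [act]

/-! ### The big cell -/

/-- The points `u t v` of the big cell of a regular functional. -/
def Big (D : Red.SplitRed G) (l : D.M →+ ℤ) {X : Over S} (g : X ⟶ G) : Prop :=
  ∃ (u : X ⟶ G) (t : X ⟶ D.T) (v : X ⟶ G),
    u ∈ unip (D := D) (-l) X ∧ v ∈ unip (D := D) l X ∧ g = u * (t ≫ D.i) * v

variable {b : D.P.Base} {l : D.M →+ ℤ} (hA : Adapted b l)

theorem Big.one (X : Over S) : Big D l (1 : X ⟶ G) :=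
  ⟨1, 1, 1, one_mem _, one_mem _, by simp [MonObj.one_comp]⟩

theorem Big.mul_unip {X : Over S} {g v : X ⟶ G} (h : Big D l g) (hv : v ∈ unip (D := D) l X) : Big D l (g * v) := by
  obtain ⟨u, t, v', hu, hv', rfl⟩ := h
  exact ⟨u, t, v' * v, hu, mul_mem hv' hv, by group⟩

theorem Big.unip_mul {X : Over S} {g u : X ⟶ G} (h : Big D l g) (hu : u ∈ unip (D := D) (-l) X) :
    Big D l (u * g) := by
  obtain ⟨u', t, v', hu', hv', rfl⟩ := h
  exact ⟨u * u', t, v', mul_mem hu hu', hv', by group⟩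

theorem Big.mul_torus {X : Over S} {g : X ⟶ G} (h : Big D l g) (s : X ⟶ D.T) : Big D l (g * (s ≫ D.i)) := by
  obtain ⟨u, t, v, hu, hv, rfl⟩ := h
  refine ⟨u, t * s, _, hu, torus_conj_unip l s⁻¹ hv, ?_⟩
  rw [MonObj.mul_comp, GrpObj.inv_comp]
  group

include hA in
/-- Conjugation of the other positive root groups by a simple negative root element. -/
theorem conj_others_pos [D.P.IsCrystallographic] [D.P.IsReduced] {a : D.idx} (ha : a ∈ b.support) {Y : Over S}
    (r : Γ(Y.left, ⊤)) {g : Y ⟶ G}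
    (hg : g ∈ Subgroup.closure {h | ∃ (c : D.idx) (x : Γ(Y.left, ⊤)),
      0 < l (D.P.root c) ∧ c ≠ a ∧ h = P (D.u c) x}) :
    P (D.u (D.P.reflectionPerm a a)) r * g * (P (D.u (D.P.reflectionPerm a a)) r)⁻¹ ∈ unip (D := D) l Y := by
  classical
  obtain ⟨b', hb1, hb2, hb3⟩ := exists_neg_base' b
  have hA' : Adapted b' (-l) := ⟨fun c => by rw [hb1, hA.neg, AddMonoidHom.neg_apply]; omega,
    fun c => by rw [hb2, hA.pos, AddMonoidHom.neg_apply]; omega, fun c => by simpa using hA.ne c⟩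
  set a' := D.P.reflectionPerm a a
  have ha' : a' ∈ b'.support := hb3 a ha
  have hw : D.P.reflectionPerm a' a' = a := neg_neg_root a
  have key := Bruhat.conj_others hA' ha' r (g := g) (by
    refine Subgroup.closure_mono ?_ hg
    rintro h ⟨c, x, hc, hca, rfl⟩
    exact ⟨c, x, ⟨by rw [AddMonoidHom.neg_apply]; omega, by rw [hw]; exact hca⟩, rfl⟩)
  rwa [neg_neg] at key

include hA in
/-- A translate of the big cell by a simple negative root element, pointwise over a field. -/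
theorem big_step [D.P.IsCrystallographic] [D.P.IsReduced] {a : D.idx} (ha : a ∈ b.support) {Y : Over S}
    (hk : IsField Γ(Y.left, ⊤)) {x : Γ(Y.left, ⊤)} (hx : IsUnit x) {g : Y ⟶ G} (hg : Big D l g)
    (y : Γ(Y.left, ⊤)) :
    Big D l (g * P (D.u (D.P.reflectionPerm a a)) y) ∨
      Big D l (P (D.u a) (-x) * (g * P (D.u (D.P.reflectionPerm a a)) y)) := by
  classical
  set a' := D.P.reflectionPerm a a with ha'
  obtain ⟨m, hm, hd⟩ := exists_dualC b a
  have hs := sys_of_dualC hd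
  haveI := isMonHom_scl (S := S) m
  haveI := Cent.isMonHom_chr (D := D) (D.P.root a)
  haveI : IsMonHom (D.u a) := (D.rootHom a).1
  haveI : IsMonHom (D.u a') := (D.rootHom a').1
  set M := scl m ≫ D.u a' with hM
  obtain ⟨m', hm'⟩ : ∃ m', res Y m * m' = 1 :=
    ⟨res Y ↑hm.unit⁻¹, by rw [← res_mul', hm.mul_val_inv, res_one]⟩
  have hla := Bruhat.simple_pos hA ha
  have hla' : 0 < (-l) (D.P.root a') := by
    rw [AddMonoidHom.neg_apply, ha', root_neg_idx, map_neg, neg_neg]; exact hla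
  have hsc : ∀ z : Γ(Y.left, ⊤), P (D.u a') z = P M (m' * z) := fun z => by
    rw [hM, P_scl, ← _root_.mul_assoc, hm', _root_.one_mul]
  obtain ⟨u, t, v, hu, hv, rfl⟩ := hg
  obtain ⟨v₁, v₂, rfl, hv₁, hv₂⟩ := Bruhat.exists_split (l := l) hA.ne (· = a) hv
  obtain ⟨s, rfl⟩ := Bruhat.exists_single (c₀ := a) (p := fun c => 0 < l (D.P.root c) ∧ c = a) (fun c hc => hc.2)
    (by simpa only [and_assoc] using hv₁)
  obtain ⟨u₂, u₁, rfl, hu₂, hu₁⟩ := Bruhat.exists_split (l := -l) (fun c => by simpa using hA.ne c) (· ≠ a') hu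
  obtain ⟨r, rfl⟩ := Bruhat.exists_single (c₀ := a') (p := fun c => 0 < (-l) (D.P.root c) ∧ ¬c ≠ a')
    (fun c hc => not_not.1 hc.2) (by simpa only [and_assoc] using hu₁)
  set v₃ := P (D.u a') (-y) * v₂ * (P (D.u a') (-y))⁻¹ with hv₃
  have hv₃m : v₃ ∈ unip (D := D) l Y := conj_others_pos hA ha (-y) hv₂
  have hu₂' : u₂ ∈ Subgroup.closure {h | ∃ (c : D.idx) (z : Γ(Y.left, ⊤)),
      (l (D.P.root c) < 0 ∧ c ≠ a') ∧ h = P (D.u c) z} := by
    refine Subgroup.closure_mono ?_ hu₂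
    rintro h ⟨c, z, hc, hca, rfl⟩
    exact ⟨c, z, ⟨by rw [AddMonoidHom.neg_apply] at hc; omega, hca⟩, rfl⟩
  have hu₂m : u₂ ∈ unip (D := D) (-l) Y := by
    have := Bruhat.conj_others hA ha (0 : Γ(Y.left, ⊤)) hu₂'
    rwa [P_zero, _root_.one_mul, inv_one, _root_.mul_one] at this
  -- the rank-one part
  let r' := Red.gmFn (t ≫ chr D (D.P.root a)) * (m' * r)
  let y' := m' * y
  let x' := Red.gmFn (t ≫ (chr D (D.P.root a))⁻¹) * x
  have hrt : P (D.u a') r * (t ≫ D.i) = (t ≫ D.i) * P M r' := by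
    rw [hs.conjM, hsc, GrpObj.comp_inv, ← _root_.mul_assoc, Gm.gmFn_inv_mul_gmFn, _root_.one_mul]
  have hxt : P (D.u a) (-x) * (t ≫ D.i) = (t ≫ D.i) * P (D.u a) (-x') := by
    rw [hs.conjP, mul_neg, ← _root_.mul_assoc, GrpObj.comp_inv, mul_comm (Red.gmFn (t ≫ chr D _)),
      Gm.gmFn_inv_mul_gmFn, _root_.one_mul]
  have e : u₂ * P (D.u a') r * (t ≫ D.i) * (P (D.u a) s * v₂) * P (D.u a') y =
      u₂ * ((t ≫ D.i) * (P M r' * P (D.u a) s * P M y')) * v₃ := by
    rw [hv₃, P_neg]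
    simp only [y', ← hsc]
    rw [_root_.mul_assoc u₂, hrt]
    group
  have hbig : ∀ {B : Y ⟶ G}, InC D.i (D.u a) M B → Big D l B := fun ⟨A, t', C, hB⟩ =>
    ⟨P M A, t', P (D.u a) C, by rw [hM, P_scl]; exact root_mem_unip hla' _, root_mem_unip hla C, hB⟩
  rw [e]
  rcases inC_bracket hs hk (x := x') ((Gm.isUnit_gmFn _).mul hx) r' s y' with h | h
  · left
    exact ((hbig (h.torus_mul hs t)).unip_mul hu₂m).mul_unip hv₃m
  · right
    have hconj := Bruhat.conj_others hA ha (-x) hu₂'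
    have e2 : P (D.u a) (-x) * (u₂ * ((t ≫ D.i) * (P M r' * P (D.u a) s * P M y')) * v₃) =
        (P (D.u a) (-x) * u₂ * (P (D.u a) (-x))⁻¹) *
          ((t ≫ D.i) * (P (D.u a) (-x') * (P M r' * P (D.u a) s * P M y'))) * v₃ := by
      rw [← _root_.mul_assoc (t ≫ D.i) (P (D.u a) (-x')), ← hxt]
      group
    rw [e2]
    exact ((hbig (h.torus_mul hs t)).unip_mul hconj).mul_unip hv₃m

end Groth.Agent.H82.R2
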