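import Groth.Agent.H82.R2.Dual
import Groth.Agent.H82.R2.A2
import Groth.Agent.H82.R2.B2
import Groth.Agent.H82.R2.G2

/-!
# The structure constants of rank two are units
-/

set_option autoImplicit false
set_option maxHeartbeats 800000
set_option linter.style.haveILetI false
set_option linter.unusedSectionVars false
universe u

open CategoryTheory MonoidalCategory CartesianMonoidalCategory MonObj GrpObj AlgebraicGeometry
open Groth.Agent.Lib.RedPts Groth.Agent.H82.BigCell Groth.Agent.H82.Contract Groth.Agent.H82.Weyl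
open Groth.Agent.H82.RankOne (P P_eq P_add P_zero P_neg P_comp gmPt_eq Sys)

namespace Groth.Agent.H82.R2

variable {S : Scheme.{u}} {G : Over S} [GrpObj G] {D : Red.SplitRed G}

/-- Every root has an element `u_b(1) u_{-b}(z) u_b(1)` flipping it and permuting the root groups by units. -/
theorem exists_el (bs : D.P.Base) (b : D.idx) : ∃ z : Γ(S, ⊤), Flip D (el D b z) b z ∧
    ∀ c : D.idx, ∃ ν : Γ(S, ⊤), IsUnit ν ∧ ∀ (X : Over S) (x : Γ(X.left, ⊤)),
      el D b z X * P (D.u c) x = P (D.u (D.P.reflectionPerm b c)) (res X ν * x) * el D b z X := by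
  classical
  haveI := reduced_of_base bs
  obtain ⟨m, hm, hd⟩ := exists_dualC bs b
  set b' := D.P.reflectionPerm b b
  let D' : Red.SplitRed G :=
    { D with
      u := Function.update D.u b' (scl m ≫ D.u b')
      rootHom := fun c => by
        rcases eq_or_ne c b' with rfl | h
        · rw [Function.update_self]; exact isRootHom_scl _ hm
        · rw [Function.update_of_ne h]; exact D.rootHom c }
  have hbb : b ≠ b' := fun h => by
    have h1 := congrArg (D.P.coroot' b) (congrArg D.P.root h)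
    rw [root_neg, map_neg, D.P.root_coroot'_eq_pairing, D.P.pairing_same] at h1
    omega
  have hu : D'.u b = D.u b := Function.update_of_ne hbb _ _
  have hu' : D'.u b' = scl m ≫ D.u b' := by simp [D']
  have hP' : ∀ {X : Over S} (x : Γ(X.left, ⊤)), P (scl m ≫ D.u b') x = P (D.u b') (res X m * x) := fun x => by
    rw [P, comp_scl_comp, Ga.gaFn_gaPt]
  have hd' : Weyl.Dual D' b := fun X x y hu1 => by
    refine ⟨Ga.gaPt (Red.gaFn x * (↑hu1.unit⁻¹ : Γ(X.left, ⊤))),
      Ga.gaPt (Red.gaFn y * (↑hu1.unit⁻¹ : Γ(X.left, ⊤))), Gm.gmPt hu1.unit, ?_, ?_, ?_, ?_⟩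
    · rw [Gm.gmFn_gmPt, IsUnit.unit_spec]
    · rw [Ga.gaFn_gaPt, Gm.gmFn_gmPt, Units.inv_mul_cancel_right]
    · rw [Ga.gaFn_gaPt, Gm.gmFn_gmPt, Units.inv_mul_cancel_right]
    · have h := hd X (Red.gaFn x) (Red.gaFn y) hu1.unit hu1.unit_spec
      simp only [res_one, _root_.one_mul] at h
      change (x ≫ D'.u b) * (y ≫ D'.u b') = (_ ≫ D'.u b') * _ * (_ ≫ D'.u b)
      rw [hu, hu', P_eq (D.u b) x, P_eq (scl m ≫ D.u b') y, hP', h,
        P_eq (D.u b) (Ga.gaPt (Red.gaFn x * _)), P_eq (scl m ≫ D.u b') (Ga.gaPt (Red.gaFn y * _)), hP',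
        Ga.gaFn_gaPt, Ga.gaFn_gaPt]
      simp only [Sys.H, cochar, Category.assoc]
      rfl
  have hel : ∀ X : Over S, el D b (-m) X = el D' b (-1) X := fun X => by
    change _ = P (D'.u b) (1 : Γ(X.left, ⊤)) * P (D'.u b') (res X (-1)) * P (D'.u b) (1 : Γ(X.left, ⊤))
    rw [hu, hu', hP', el, res_neg, res_neg, res_one, mul_neg, _root_.mul_one]
  have hrep : ∀ X : Over S, Bruhat.Rep (D := D) [b] (toUnit X ≫ el D b (-m) (𝟙_ (Over S))) := fun X => by
    rw [el_comp, hel]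
    exact rep_el hd' X
  refine ⟨-m, fun X => ?_, fun c => ?_⟩
  · have h := flip_el hd' X
    rw [hel]
    change el D' b (-1) X * P (D'.u b) (1 : Γ(X.left, ⊤)) = P (D'.u b') (res X (-1)) * el D' b (-1) X at h
    rw [hu, hu', hP', res_neg, res_one, mul_neg, _root_.mul_one] at h
    rw [h, res_neg]
  · obtain ⟨ν, hν⟩ := exists_conj_scalar [b] _ hrep c
    obtain ⟨ν', hν'⟩ := exists_conj_scalar [b] (el D b (-m) (𝟙_ (Over S)))⁻¹ (fun X => by
      rw [GrpObj.comp_inv]
      simpa using (hrep X).inv) (D.P.reflectionPerm b c)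
    simp only [el_comp, GrpObj.comp_inv, Bruhat.wordPerm_singleton] at hν hν'
    refine ⟨ν, ?_, hν⟩
    rw [show D.P.reflectionPerm b (D.P.reflectionPerm b c) = c from D.P.root.injective (by
      rw [D.P.root_reflectionPerm, D.P.root_reflectionPerm, D.P.reflection_same])] at hν'
    have h1 := hν (𝟙_ (Over S)) 1
    have h2 := hν' (𝟙_ (Over S)) (res (𝟙_ (Over S)) ν * 1)
    rw [inv_mul_eq_iff_eq_mul, ← _root_.mul_assoc] at h2
    have h3 : P (D.u c) (res (𝟙_ (Over S)) ν' * (res (𝟙_ (Over S)) ν * 1)) = P (D.u c) (1 : Γ((𝟙_ (Over S)).left, ⊤)) := by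
      rw [eq_mul_inv_iff_mul_eq, ← h1, mul_right_inj] at h2
      exact h2.symm
    have h4 := P_inj h3
    rw [_root_.mul_one, res_unit, res_unit] at h4
    exact IsUnit.of_mul_eq_one ν' (by rw [mul_comm]; exact h4)

variable [D.P.IsCrystallographic] (bs : D.P.Base) {a b c d e f : D.idx}
include bs

/-- A scalar of a conjugation read off from two rules is a unit. -/
theorem isUnit_of_conj {W : ∀ X : Over S, X ⟶ G} {c c' : D.idx} {ν A B : Γ(S, ⊤)} (hν : IsUnit ν) (hA : IsUnit A)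
    (h : ∀ (X : Over S) (x : Γ(X.left, ⊤)), W X * P (D.u c) x = P (D.u c') (res X ν * x) * W X)
    (h' : W (𝟙_ (Over S)) * P (D.u c) (res (𝟙_ (Over S)) A) =
      P (D.u c') (res (𝟙_ (Over S)) B) * W (𝟙_ (Over S))) : IsUnit B := by
  rw [h, mul_left_inj] at h'
  have h2 := P_inj h'
  rw [res_unit, res_unit, res_unit] at h2
  exact h2 ▸ hν.mul hA

theorem maps_of_scalar {W : ∀ X : Over S, X ⟶ G} {c c' : D.idx} {ν : Γ(S, ⊤)} {c'' : D.idx} (e : c' = c'')
    (h : ∀ (X : Over S) (x : Γ(X.left, ⊤)), W X * P (D.u c) x = P (D.u c') (res X ν * x) * W X) :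
    Maps W c c'' := fun X x => ⟨_, e ▸ h X x⟩

theorem A2.isUnit_t (hp : Pair D a b 1) (hc : Co a b c 1 1) {t : Γ(S, ⊤)} (h : A2.Rel D a b c t) : IsUnit t := by
  obtain ⟨z, -, hs⟩ := exists_el bs b
  obtain ⟨ν, hν, hconj⟩ := hs a
  have e := hp.co_inj (hp.co_refl_b co_left) hc
  have g := (A2.el_conj_a hp hc h (maps_of_scalar bs e hconj)).1
  rw [e] at hconj
  exact isUnit_of_conj bs hν isUnit_one hconj (by rw [g, res_one, _root_.mul_one])

theorem B2.isUnit_ts (hp : Pair D a b 2) (hc : Co a b c 1 1) (hd : Co a b d 2 1) {t s k : Γ(S, ⊤)}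
    (hr : B2.Rel D a b c d t s k) : IsUnit t ∧ IsUnit s := by
  obtain ⟨za, hfa, hsa⟩ := exists_el bs a
  obtain ⟨zb, hfb, hsb⟩ := exists_el bs b
  have eab : D.P.reflectionPerm b a = c := hp.co_inj (hp.co_refl_b co_left) hc
  have ecb : D.P.reflectionPerm b c = a := hp.co_inj (hp.co_refl_b hc) (by simp [Co])
  have ebd : D.P.reflectionPerm a b = d := hp.co_inj (hp.co_refl_a co_right) (by simpa using hd)
  have ecc : D.P.reflectionPerm a c = c := hp.co_inj (hp.co_refl_a hc) (by simpa using hc)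
  have edb : D.P.reflectionPerm a d = b := hp.co_inj (hp.co_refl_a hd) (by simp [Co])
  obtain ⟨ν1, hν1, h1⟩ := hsb a
  obtain ⟨_, -, h1'⟩ := hsb c
  obtain ⟨ν2, hν2, h2⟩ := hsa b
  obtain ⟨_, -, h2'⟩ := hsa c
  obtain ⟨_, -, h2''⟩ := hsa d
  have ga := B2.el_conj_a hp hc hd hr hfb (maps_of_scalar bs eab h1) (maps_of_scalar bs ecb h1')
  have gb := B2.el_conj_b hp hc hd hr hfa (maps_of_scalar bs ebd h2) (maps_of_scalar bs ecc h2')
    (maps_of_scalar bs edb h2'')
  rw [eab] at h1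
  rw [ebd] at h2
  exact ⟨isUnit_of_conj bs hν1 isUnit_one h1 (by rw [(ga _ _).1, res_one, _root_.mul_one]),
    isUnit_of_conj bs hν2 isUnit_one h2 (by rw [(gb _ _).1, res_one, _root_.mul_one])⟩

theorem G2.isUnit_tsrq (h : G2.Ix D a b c d e f) {C : G2.Cst S} (hr : G2.Rel D a b c d e f C) :
    IsUnit C.t ∧ IsUnit C.s ∧ IsUnit C.r ∧ IsUnit C.q := by
  obtain ⟨za, hfa, hsa⟩ := exists_el bs a
  obtain ⟨zb, hfb, hsb⟩ := exists_el bs b
  have hp := h.pair
  have ebe : D.P.reflectionPerm a b = e := hp.co_inj (hp.co_refl_a co_right) (by simpa using h.he)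
  have ecd : D.P.reflectionPerm a c = d := hp.co_inj (hp.co_refl_a h.hc) (by simpa using h.hd)
  have edc : D.P.reflectionPerm a d = c := hp.co_inj (hp.co_refl_a h.hd) (by simpa using h.hc)
  have eeb : D.P.reflectionPerm a e = b := hp.co_inj (hp.co_refl_a h.he) (by simp [Co])
  have eac : D.P.reflectionPerm b a = c := hp.co_inj (hp.co_refl_b co_left) h.hc
  have eca : D.P.reflectionPerm b c = a := hp.co_inj (hp.co_refl_b h.hc) (by simp [Co])
  have eef : D.P.reflectionPerm b e = f := hp.co_inj (hp.co_refl_b h.he) (by simpa using h.hf)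
  have efe : D.P.reflectionPerm b f = e := hp.co_inj (hp.co_refl_b h.hf) (by simpa using h.he)
  obtain ⟨νb, hνb, hb⟩ := hsa b
  obtain ⟨νc, hνc, hc'⟩ := hsa c
  obtain ⟨_, -, hd'⟩ := hsa d
  obtain ⟨_, -, he'⟩ := hsa e
  obtain ⟨νa, hνa, ha⟩ := hsb a
  obtain ⟨_, -, hca⟩ := hsb c
  obtain ⟨νe, hνe, hef⟩ := hsb e
  obtain ⟨_, -, hfe⟩ := hsb f
  have ga := G2.el_conj_a h hr hfb (maps_of_scalar bs eac ha) (maps_of_scalar bs eca hca)
    (maps_of_scalar bs eef hef) (maps_of_scalar bs efe hfe)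
  have gb := G2.el_conj_b h hr hfa (maps_of_scalar bs ebe hb) (maps_of_scalar bs ecd hc')
    (maps_of_scalar bs edc hd') (maps_of_scalar bs eeb he')
  rw [eac] at ha
  rw [ebe] at hb
  rw [ecd] at hc'
  rw [eef] at hef
  have ht : IsUnit C.t := isUnit_of_conj bs hνa isUnit_one ha (by rw [(ga _ _).1, res_one, _root_.mul_one])
  have hr' : IsUnit (-C.r) := isUnit_of_conj bs hνb isUnit_one hb (by rw [(gb _ _).1, res_one, _root_.mul_one, res_neg])
  have hs : IsUnit C.s := isUnit_of_conj bs hνc ht hc' (by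
    have := (gb (𝟙_ (Over S)) 1).2.1
    rwa [_root_.mul_one, _root_.mul_one] at this)
  have hrr : IsUnit C.r := by simpa using hr'.neg
  refine ⟨ht, hs, hrr, isUnit_of_conj bs hνe hrr hef ?_⟩
  have := (ga (𝟙_ (Over S)) 1).2.2.2.1
  rwa [_root_.mul_one, _root_.mul_one] at this

end Groth.Agent.H82.R2
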